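import Mathlib
import Cfsg.Agent.H01.Generation
import Cfsg.Agent.H24.Hol

/-!
* `H17.aut_le_of_fix_le` : generation by fixed points for a noncyclic abelian coprime group of automorphisms.
* `H17.aut_le_of_cocyclic` : generation by fixed points of cocyclic subgroups.
* `H17.aut_eq_or_inv` : an involutory automorphism acts on an invariant cyclic `p`-group (`p` odd) by `±1`.
-/

set_option autoImplicit false
open Subgroup Cfsg

namespace H17

variable {P : Type*} [Group P]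

theorem hol_conj' (a : MulAut P) (x : P) :
    (SemidirectProduct.inr a * SemidirectProduct.inl x * (SemidirectProduct.inr a)⁻¹ : H24.Hol P) =
      SemidirectProduct.inl (a x) := by
  have := SemidirectProduct.inl_aut (φ := MonoidHom.id (MulAut P)) a x
  rw [map_inv] at this
  exact this.symm

theorem hol_norm [Finite P] {J : Subgroup (MulAut P)} {K : Subgroup P} (hK : ∀ a ∈ J, ∀ x ∈ K, a x ∈ K) :
    J.map (SemidirectProduct.inr : MulAut P →* H24.Hol P) ≤
      normalizer ((K.map (SemidirectProduct.inl : P →* H24.Hol P) : Subgroup _) : Set (H24.Hol P)) := by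
  rintro _ ⟨a, ha, rfl⟩
  refine mem_normalizer_fintype ?_
  rintro _ ⟨x, hx, rfl⟩
  exact ⟨a x, hK a ha x hx, (hol_conj' a x).symm⟩

theorem aut_le_of_cocyclic [Finite P] {J : Subgroup (MulAut P)} (hc : IsMulCommutative J) {K L : Subgroup P}
    (hK : ∀ a ∈ J, ∀ x ∈ K, a x ∈ K) (hcop : (Nat.card J).Coprime (Nat.card K))
    (h : ∀ B ≤ J, (∃ a ∈ J, B ⊔ zpowers a = J) → ∀ x ∈ K, (∀ b ∈ B, b x = x) → x ∈ L) : K ≤ L := by
  have hi : Function.Injective (SemidirectProduct.inl : P →* H24.Hol P) := SemidirectProduct.inl_injective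
  have hr : Function.Injective (SemidirectProduct.inr : MulAut P →* H24.Hol P) := SemidirectProduct.inr_injective
  rw [← map_le_map_iff_of_injective hi]
  refine H01.le_of_cocyclic_centralizer_le (hol_norm hK)
    (by rwa [card_map_of_injective hi, card_map_of_injective hr]) ?_
  rintro B hB ⟨_, ⟨a, ha, rfl⟩, hBa⟩ _ ⟨⟨x, hx, rfl⟩, hx2⟩
  refine ⟨x, h (B.comap SemidirectProduct.inr) (fun b hb => ?_) ⟨a, ha, ?_⟩ x hx fun b hb => hi ?_, rfl⟩
  · exact (mem_map_iff_mem hr).1 (hB hb)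
  · refine map_injective hr ?_
    rw [Subgroup.map_sup, MonoidHom.map_zpowers, map_comap_eq_self (hB.trans (map_le_range _ _)), hBa]
  · rw [← hol_conj', hx2 _ hb, mul_inv_cancel_right]

theorem aut_le_of_fix_le [Finite P] {J : Subgroup (MulAut P)} (hc : IsMulCommutative J) (hJ : ¬ IsCyclic J)
    {K L : Subgroup P} (hK : ∀ a ∈ J, ∀ x ∈ K, a x ∈ K) (hcop : (Nat.card J).Coprime (Nat.card K))
    (h : ∀ a ∈ J, a ≠ 1 → ∀ x ∈ K, a x = x → x ∈ L) : K ≤ L := by
  refine aut_le_of_cocyclic hc hK hcop fun B hB ⟨a, _, ha⟩ x hx h1 => ?_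
  have h2 : B ≠ ⊥ := fun e => hJ (H01.isCyclic_of_bot_sup_zpowers (e ▸ ha))
  obtain ⟨b, hb, hb1⟩ := (bot_or_exists_ne_one B).resolve_left h2
  exact h b (hB hb) hb1 x hx (h1 b hb)

theorem aut_eq_or_inv {p : ℕ} (hp : p.Prime) (hp2 : p ≠ 2) {g : P} {n : ℕ} (hg : g ^ p ^ n = 1) {T : MulAut P}
    (hT : T * T = 1) (h : T g ∈ zpowers g) : T g = g ∨ T g = g⁻¹ := by
  obtain ⟨m, -, hm⟩ := (Nat.dvd_prime_pow hp).1 (orderOf_dvd_of_pow_eq_one hg)
  obtain ⟨k, hk⟩ := h
  simp only at hk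
  have h1 : g ^ ((k - 1) * (k + 1)) = 1 := by
    have : T (T g) = g := by rw [← MulAut.mul_apply, hT, MulAut.one_apply]
    rw [← hk, map_zpow, ← hk, ← zpow_mul] at this
    rw [show (k - 1) * (k + 1) = k * k - 1 by ring, zpow_sub, this, zpow_one, mul_inv_cancel]
  rw [← orderOf_dvd_iff_zpow_eq_one, hm, Nat.cast_pow] at h1
  have hpi : Prime (p : ℤ) := Nat.prime_iff_prime_int.1 hp
  by_cases h2 : (p : ℤ) ∣ k - 1
  · have h3 : ¬ (p : ℤ) ∣ k + 1 := fun e => by
      have h4 : (p : ℤ) ∣ 2 := by have := dvd_sub e h2; rwa [show k + 1 - (k - 1) = 2 by ring] at this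
      exact hp2 ((Nat.prime_dvd_prime_iff_eq hp Nat.prime_two).1 (by exact_mod_cast h4))
    have h4 := ((hpi.irreducible.coprime_iff_not_dvd.2 h3).pow_left (m := m)).dvd_of_dvd_mul_right h1
    rw [← Nat.cast_pow, ← hm, orderOf_dvd_iff_zpow_eq_one, zpow_sub, zpow_one, mul_inv_eq_one] at h4
    exact Or.inl (hk ▸ h4)
  · have h4 := ((hpi.irreducible.coprime_iff_not_dvd.2 h2).pow_left (m := m)).dvd_of_dvd_mul_left h1
    rw [← Nat.cast_pow, ← hm, orderOf_dvd_iff_zpow_eq_one, zpow_add, zpow_one, mul_eq_one_iff_eq_inv] at h4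
    exact Or.inr (hk ▸ h4)

end H17
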