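import Cfsg.Agent.H07.L1
import Cfsg.Statements.S3237

/-! Involution centraliser `2^{1+4}_-.S₄` (namespace `H17.AL`): the interfaces between the parts of the proof. -/

set_option autoImplicit false

namespace H17.AL
open Subgroup Cfsg

universe u v

/-- local data in `H = C_G(z)`: `T` of order 64, `t ∈ Z(T)`, `s` an involution outside `T` -/
structure Lo {G : Type u} [Group G] (F : Type v) [Field F] (z t s : G) (T : Subgroup G) : Prop where
  z2 : orderOf z = 2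
  cH : Nat.card (centralizer {z} : Subgroup G) = 768
  sol : Group.IsSolvable (centralizer {z} : Subgroup G)
  nz : ∀ N : Subgroup G, N ≤ centralizer {z} → centralizer {z} ≤ normalizer (N : Set G) → z ∉ N → N = ⊥
  odd : ¬ 2 ∣ (centralizer {z} : Subgroup G).index
  TH : T ≤ centralizer {z}
  nT : centralizer {z} ≤ normalizer (T : Set G)
  cT : Nat.card T = 64
  zT : z ∈ T
  tT : t ∈ T
  t2 : t * t = 1
  Tt : ∀ y ∈ T, y * t = t * y
  ht : ∀ h, h * z = z * h → h * t * h⁻¹ = t ∨ h * t * h⁻¹ = z * t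
  sH : s * z = z * s
  s2 : s * s = 1
  st : s * t ≠ t * s
  w4 : ∀ x, x * z = z * x → x ∉ T → x * x = 1 → ∃ w, w * x = x * w ∧ w * w = z
  y4 : ∀ x, x * z = z * x → x ∉ T → x * x = 1 → ∀ y, y * z = z * y → y * x = x * y → y ^ 4 = 1 → y * y = 1 ∨ y * y = z
  sq : ∀ y ∈ T, y * y = 1 → ∃ w, w * w = y
  y8 : ∃ y, y * s = s * y ∧ y ^ 8 = 1 ∧ y ^ 4 ≠ 1
  r4 : ∀ x, x * z = z * x → x ∉ T → x * x = 1 → x * t = t * x → ∀ y, y * z = z * y → y * x = x * y → y ^ 4 = 1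
  cos : ∀ y, y * z = z * y → (∃ k, y ^ 2 ^ k = 1) → ∃ τ ∈ T, y * τ * (y * τ) = 1 ∨ y * τ * (y * τ) = z
  gen : ∀ L : Subgroup G, (∀ x, x ^ 3 = 1 → x ∈ L) → T ≤ L
  wk : ∀ y ∈ T, ∀ g, g * z * g⁻¹ = y * y → g ∈ normalizer (T : Set G)
  dich : (∀ g, g * z * g⁻¹ ∈ T → g * z * g⁻¹ = z) ∨ ∃ u : F → F → F → G,
    (∀ a b c a' b' c', u a b c * u a' b' c' = u (a + a') (b + b') (c + c' + a * b')) ∧
    (∀ a b c, u a b c = 1 → a = 0 ∧ b = 0 ∧ c = 0) ∧ H07.L4.T u = T ∧ z = u 0 0 1 ∧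
    (∀ a c, ∃ b c', s * u a 0 c * s⁻¹ = u 0 b c')

/-- part G: the normal subgroup of index four -/
def GStmt : Prop := ∀ (G : Type u) [Group G] [Finite G] (F : Type v) [Field F] [Fintype F], Fintype.card F = 4 →
  ∀ (z t s : G) (T : Subgroup G), Lo F z t s T → oddCore G = ⊥ → ¬ Group.IsSolvable G →
    ∃ K : Subgroup G, K.Normal ∧ K.index = 4 ∧ centralizer (K : Set G) = ⊥ ∧ (∃ f : K →* H07.L4.PG F, Function.Injective f) ∧
      ∃ A : Subgroup K, A ≠ ⊥ ∧ IsPGroup 2 A ∧ ¬ A.Normal ∧ Nat.card (normalizer (A : Set K)) = 2880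

/-- part F: the identification -/
def FStmt : Prop := ∀ (G : Type u) [Group G] [Finite G] (F : Type v) [Field F] [Fintype F], Fintype.card F = 4 →
  ∀ K : Subgroup G, K.Normal → K.index = 4 → centralizer (K : Set G) = ⊥ → (∃ f : K →* H07.L4.PG F, Function.Injective f) →
    (∃ A : Subgroup K, A ≠ ⊥ ∧ IsPGroup 2 A ∧ ¬ A.Normal ∧ Nat.card (normalizer (A : Set K)) = 2880) →
      Nonempty (G ≃* MulAut (H07.L4.PG F))

/-- part O: the core -/
def OStmt : Prop := ∀ (G : Type u) [Group G] [Finite G] (F : Type v) [Field F] (z t s : G) (T : Subgroup G), Lo F z t s T →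
  IsMulCommutative (oddCore G) ∧ (¬ Group.IsSolvable G → oddCore G = ⊥)

end H17.AL
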