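import Cfsg.Agent.H17.ALm

/-! Involution centraliser `2^{1+4}_-.S₄`: codes for signed permutations and Clifford monomials. -/

set_option autoImplicit false
set_option maxRecDepth 100000
set_option synthInstance.maxSize 4096

namespace H17.AL

universe u

/-- image of the signed axis `k < 8` under the signed permutation with code `X` -/
def ap (X k : ℕ) : ℕ := (X >>> (3 * (k % 4)) + k / 4 * 4) % 8
def mk4 (a b c d : ℕ) : ℕ := a + 8 * b + 64 * c + 512 * d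
def ml (X Y : ℕ) : ℕ := mk4 (ap X (ap Y 0)) (ap X (ap Y 1)) (ap X (ap Y 2)) (ap X (ap Y 3))
def sq2 (X : ℕ) : ℕ := ml X X
def fi (X j : ℕ) : ℕ := ((List.range 8).find? fun k => ap X k == j).getD 0
def iv (X : ℕ) : ℕ := mk4 (fi X 0) (fi X 1) (fi X 2) (fi X 3)
def lm (k m : ℕ) : ℕ :=
  m ^^^ 1 <<< (k % 4) ^^^ 16 * ((k / 4 + m % 1 <<< (k % 4) + m % 1 <<< (k % 4) / 2 + m % 1 <<< (k % 4) / 4) % 2)
def stp (X m i y : ℕ) : ℕ := if m >>> i % 2 = 1 then lm (ap X i) y else y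
def gm (X m y : ℕ) : ℕ := stp X m 0 (stp X m 1 (stp X m 2 (stp X m 3 (y ^^^ m / 16 * 16))))
/-- action on monomials -/
def am (X m : ℕ) : ℕ := gm X m 0
/-- product of monomials -/
def cm (x y : ℕ) : ℕ := gm 1672 x y
def cj (m i : ℕ) : ℕ := if cm m (1 <<< i) = cm (1 <<< i) m then i else i + 4
def inn (m : ℕ) : ℕ := mk4 (cj m 0) (cj m 1) (cj m 2) (cj m 3)
def L4 : List ℕ :=
  [83, 87, 90, 94, 115, 119, 122, 126, 139, 143, 153, 157, 171, 175, 185, 189, 202, 206, 209, 213, 234, 238, 241, 245,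
  339, 343, 346, 350, 371, 375, 378, 382, 395, 399, 409, 413, 427, 431, 441, 445, 458, 462, 465, 469, 490, 494, 497,
  501, 531, 535, 538, 542, 563, 567, 570, 574, 643, 647, 664, 668, 675, 679, 696, 700, 706, 710, 720, 724, 738, 742,
  752, 756, 787, 791, 794, 798, 819, 823, 826, 830, 899, 903, 920, 924, 931, 935, 952, 956, 962, 966, 976, 980, 994,
  998, 1008, 1012, 1035, 1039, 1049, 1053, 1067, 1071, 1081, 1085, 1091, 1095, 1112, 1116, 1123, 1127, 1144, 1148, 1217,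
  1221, 1224, 1228, 1249, 1253, 1256, 1260, 1291, 1295, 1305, 1309, 1323, 1327, 1337, 1341, 1347, 1351, 1368, 1372,
  1379, 1383, 1400, 1404, 1473, 1477, 1480, 1484, 1505, 1509, 1512, 1516, 1546, 1550, 1553, 1557, 1578, 1582, 1585,
  1589, 1602, 1606, 1616, 1620, 1634, 1638, 1648, 1652, 1665, 1669, 1672, 1676, 1697, 1701, 1704, 1708, 1802, 1806,
  1809, 1813, 1834, 1838, 1841, 1845, 1858, 1862, 1872, 1876, 1890, 1894, 1904, 1908, 1921, 1925, 1928, 1932, 1953,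
  1957, 1960, 1964, 2131, 2135, 2138, 2142, 2163, 2167, 2170, 2174, 2187, 2191, 2201, 2205, 2219, 2223, 2233, 2237,
  2250, 2254, 2257, 2261, 2282, 2286, 2289, 2293, 2387, 2391, 2394, 2398, 2419, 2423, 2426, 2430, 2443, 2447, 2457,
  2461, 2475, 2479, 2489, 2493, 2506, 2510, 2513, 2517, 2538, 2542, 2545, 2549, 2579, 2583, 2586, 2590, 2611, 2615,
  2618, 2622, 2691, 2695, 2712, 2716, 2723, 2727, 2744, 2748, 2754, 2758, 2768, 2772, 2786, 2790, 2800, 2804, 2835,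
  2839, 2842, 2846, 2867, 2871, 2874, 2878, 2947, 2951, 2968, 2972, 2979, 2983, 3000, 3004, 3010, 3014, 3024, 3028,
  3042, 3046, 3056, 3060, 3083, 3087, 3097, 3101, 3115, 3119, 3129, 3133, 3139, 3143, 3160, 3164, 3171, 3175, 3192,
  3196, 3265, 3269, 3272, 3276, 3297, 3301, 3304, 3308, 3339, 3343, 3353, 3357, 3371, 3375, 3385, 3389, 3395, 3399,
  3416, 3420, 3427, 3431, 3448, 3452, 3521, 3525, 3528, 3532, 3553, 3557, 3560, 3564, 3594, 3598, 3601, 3605, 3626,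
  3630, 3633, 3637, 3650, 3654, 3664, 3668, 3682, 3686, 3696, 3700, 3713, 3717, 3720, 3724, 3745, 3749, 3752, 3756,
  3850, 3854, 3857, 3861, 3882, 3886, 3889, 3893, 3906, 3910, 3920, 3924, 3938, 3942, 3952, 3956, 3969, 3973, 3976,
  3980, 4001, 4005, 4008, 4012]
def LT : List ℕ :=
  [83, 119, 343, 371, 538, 574, 798, 826, 1217, 1253, 1477, 1505, 1672, 1708, 1932, 1960, 2135, 2163, 2387, 2423, 2590,
  2618, 2842, 2878, 3269, 3297, 3521, 3557, 3724, 3752, 3976, 4012]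
def LH : List ℕ :=
  [83, 119, 153, 189, 202, 238, 343, 371, 413, 441, 462, 490, 538, 574, 643, 679, 720, 756, 798, 826, 903, 931, 980,
  1008, 1035, 1071, 1112, 1148, 1217, 1253, 1295, 1323, 1372, 1400, 1477, 1505, 1553, 1589, 1602, 1638, 1672, 1708,
  1813, 1841, 1862, 1890, 1932, 1960, 2135, 2163, 2205, 2233, 2254, 2282, 2387, 2423, 2457, 2493, 2506, 2542, 2590,
  2618, 2695, 2723, 2772, 2800, 2842, 2878, 2947, 2983, 3024, 3060, 3087, 3115, 3164, 3192, 3269, 3297, 3339, 3375,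
  3416, 3452, 3521, 3557, 3605, 3633, 3654, 3682, 3724, 3752, 3857, 3893, 3906, 3942, 3976, 4012]
def LI : List ℕ :=
  [139, 171, 395, 427, 664, 668, 920, 924, 1224, 1228, 1256, 1260, 1546, 1578, 1616, 1620, 1665, 1676, 1701, 1704, 1806,
  1838, 1904, 1908, 1921, 1928, 1957, 1964, 2191, 2223, 2447, 2479, 2744, 2748, 3000, 3004, 3528, 3532, 3560, 3564,
  3594, 3626, 3664, 3668, 3713, 3720, 3749, 3756, 3854, 3886, 3952, 3956, 3969, 3980, 4005, 4008]
def L3 : List ℕ :=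
  [153, 189, 202, 462, 643, 679, 720, 1008, 1035, 1112, 1295, 1400, 1553, 1589, 1602, 1638, 1672, 1813, 1841, 1862,
  1890, 2205, 2233, 2254, 2506, 2695, 2723, 2800, 3024, 3087, 3192, 3339, 3416]

theorem ap_lt (X k : ℕ) : ap X k < 8 := Nat.mod_lt _ (by norm_num)
theorem ap_mk {a b c d : ℕ} (ha : a < 8) (hb : b < 8) (hc : c < 8) (hd : d < 8) :
    ap (mk4 a b c d) 0 = a ∧ ap (mk4 a b c d) 1 = b ∧ ap (mk4 a b c d) 2 = c ∧ ap (mk4 a b c d) 3 = d ∧ mk4 a b c d < 4096 := by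
  simp only [ap, mk4, Nat.shiftRight_eq_div_pow, Nat.reduceMod, Nat.reduceMul, Nat.reducePow, Nat.reduceDiv]; omega
theorem mk_ap {X : ℕ} (h : X < 4096) : mk4 (ap X 0) (ap X 1) (ap X 2) (ap X 3) = X := by
  simp only [ap, mk4, Nat.shiftRight_eq_div_pow, Nat.reduceMod, Nat.reduceMul, Nat.reducePow, Nat.reduceDiv]; omega
theorem ap4 (X : ℕ) {k : ℕ} (h : k < 4) : ap X (k + 4) = (ap X k + 4) % 8 := by
  have : (k + 4) % 4 = k % 4 := by omega
  simp only [ap, this]; generalize X >>> (3 * (k % 4)) = y; omega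
theorem f0 : L4.length = 384 ∧ L4.Nodup ∧ (∀ a < 8, ∀ b < 8, ∀ c < 8, ∀ d < 8,
    (∃ j < 4, ∃ k < 8, j ≠ k ∧ ap (mk4 a b c d) j = ap (mk4 a b c d) k) ∨ mk4 a b c d ∈ L4) ∧
    ∀ X ∈ L4, iv X < 4096 ∧ ∀ k < 4, ap X (ap (iv X) k) = k := by
  refine ⟨?_, ?_, ?_, ?_⟩ <;> decide +kernel
theorem f1 : (∀ k < 8, ∀ m < 32, lm k m < 32) ∧ (∀ m < 32, ∀ n < 32, cm n (cm n (cm n n)) = 0 ∧ n ^^^ m / 16 * 16 < 32 ∧
    (cm m (cm n (cm n n)) = 0 → m = n)) ∧ (∀ m < 32, m = 0 ∨ m = 16 ∨ ∃ k < 4, lm k m = cm m (lm k 0) ^^^ 16) ∧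
    (∀ a < 8, ∀ b < 8, lm a 0 = lm b 0 → a = b) ∧ (∀ m < 32, inn m < 4096 ∧ ∀ k < 4, cm m (lm k 0) = lm (ap (inn m) k) m) ∧
    ∀ k < 8, ap 1672 k = k := by decide +kernel

variable {Γ : Type u} [Group Γ] [HasDistribNeg Γ] {e : Fin 4 → Γ}

def ev (e : Fin 4 → Γ) : ℕ → Γ
  | 0 => e 0 | 1 => e 1 | 2 => e 2 | 3 => e 3 | 4 => -e 0 | 5 => -e 1 | 6 => -e 2 | 7 => -e 3 | _ => 1
def mo (e : Fin 4 → Γ) (m : ℕ) : Γ :=
  (-1) ^ (m / 16) * (e 0 ^ (m % 2) * (e 1 ^ (m / 2 % 2) * (e 2 ^ (m / 4 % 2) * e 3 ^ (m / 8 % 2))))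
noncomputable def ix (e : Fin 4 → Γ) (h : Γ) (i : ℕ) : ℕ := Classical.epsilon fun k => k < 8 ∧ h * ev e i * h⁻¹ = ev e k
/-- the code of the signed permutation induced by `h` -/
noncomputable def ρ (e : Fin 4 → Γ) (h : Γ) : ℕ := mk4 (ix e h 0) (ix e h 1) (ix e h 2) (ix e h 3)

theorem ev4 {a : ℕ} (h : a < 8) : ev e ((a + 4) % 8) = -ev e a := by interval_cases a <;> simp [ev]
theorem mo0 : mo e 0 = 1 := by simp [mo]
theorem mo16 : mo e 16 = -1 := by simp [mo]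
theorem mo_neg {m : ℕ} (h : m < 32) : mo e (m ^^^ 16) = -mo e m := by interval_cases m <;> simp [mo]
theorem mo_sg {m y : ℕ} (h : m < 32) (hy : y < 32) : mo e (y ^^^ m / 16 * 16) = (-1) ^ (m / 16) * mo e y := by
  rcases (by omega : m / 16 = 0 ∨ m / 16 = 1) with h | h <;> simp [h, mo_neg hy]

namespace Md
variable (M : Md e)
include M

theorem nn (a : Γ) : a ≠ -a := fun h => M.ne (mul_right_cancel (b := a) (by simpa using h))

theorem lm_spec {k m : ℕ} (hk : k < 8) (hm : m < 32) : ev e k * mo e m = mo e (lm k m) := by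
  have l : ∀ {x y z : Γ}, x * y = z → ∀ w, x * (y * w) = z * w := fun h w => by rw [← mul_assoc, h]
  have a := M.anti
  have s := M.sq
  interval_cases k <;> interval_cases m <;> simp [ev, mo, lm, mul_assoc, s, l (s _), a 1 0, a 2 0, a 3 0, a 2 1, a 3 1, a 3 2,
    l (a 1 0 (by decide)), l (a 2 0 (by decide)), l (a 3 0 (by decide)), l (a 2 1 (by decide)), l (a 3 1 (by decide)),
    l (a 3 2 (by decide))]

theorem ix_spec (h : Γ) {i : ℕ} (hi : i < 4) : ix e h i < 8 ∧ h * ev e i * h⁻¹ = ev e (ix e h i) := by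
  refine Classical.epsilon_spec (p := fun k => k < 8 ∧ h * ev e i * h⁻¹ = ev e k) ?_
  obtain ⟨j, hj⟩ := M.act h ⟨i, hi⟩
  have : ev e i = e ⟨i, hi⟩ := by interval_cases i <;> rfl
  rw [this]
  rcases hj with hj | hj <;> rw [hj]
  · exact ⟨j, by omega, by fin_cases j <;> rfl⟩
  · exact ⟨j + 4, by omega, by fin_cases j <;> rfl⟩

theorem ρ_lt (h : Γ) : ρ e h < 4096 :=
  (ap_mk (M.ix_spec h (by norm_num)).1 (M.ix_spec h (by norm_num)).1 (M.ix_spec h (by norm_num)).1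
    (M.ix_spec h (by norm_num)).1).2.2.2.2

omit M in
theorem ext8 {h : Γ} {X : ℕ} (H : ∀ k < 4, h * ev e k * h⁻¹ = ev e (ap X k)) : ∀ k < 8, h * ev e k * h⁻¹ = ev e (ap X k) := by
  intro k hk
  by_cases h4 : k < 4
  · exact H k h4
  obtain ⟨j, rfl⟩ : ∃ j, k = j + 4 := ⟨k - 4, by omega⟩
  have := ev4 (e := e) (a := j) (by omega)
  rw [Nat.mod_eq_of_lt hk] at this
  rw [ap4 X (by omega), ev4 (ap_lt _ _), this, ← H j (by omega)]; simp

theorem spec (h : Γ) : ∀ k < 8, h * ev e k * h⁻¹ = ev e (ap (ρ e h) k) := ext8 fun k hk => by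
  obtain ⟨h0, h1, h2, h3, -⟩ := ap_mk (M.ix_spec h (i := 0) (by norm_num)).1 (M.ix_spec h (i := 1) (by norm_num)).1
    (M.ix_spec h (i := 2) (by norm_num)).1 (M.ix_spec h (i := 3) (by norm_num)).1
  rw [(M.ix_spec h hk).2, ρ]
  interval_cases k <;> simp only [*]

theorem gm_spec {h : Γ} {X : ℕ} (H : ∀ k < 4, h * ev e k * h⁻¹ = ev e (ap X k)) {m y : ℕ} (hm : m < 32) (hy : y < 32) :
    gm X m y < 32 ∧ h * mo e m * h⁻¹ * mo e y = mo e (gm X m y) := by
  have st : ∀ i < 4, ∀ y < 32, stp X m i y < 32 ∧ mo e (stp X m i y) = h * ev e i ^ (m / 2 ^ i % 2) * h⁻¹ * mo e y := by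
    intro i hi y hy
    rw [stp, Nat.shiftRight_eq_div_pow]
    split_ifs with h1
    · exact ⟨f1.1 _ (ap_lt _ _) _ hy, by rw [h1, pow_one, H i hi, M.lm_spec (ap_lt _ _) hy]⟩
    · exact ⟨hy, by simp [(by omega : m / 2 ^ i % 2 = 0)]⟩
  have s3 := st 3 (by norm_num) _ (f1.2.1 m hm y hy).2.1
  have s2 := st 2 (by norm_num) _ s3.1
  have s1 := st 1 (by norm_num) _ s2.1
  have s0 := st 0 (by norm_num) _ s1.1
  refine ⟨s0.1, ?_⟩
  rw [gm, s0.2, s1.2, s2.2, s3.2, mo_sg hm hy]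
  rcases (by omega : m / 16 = 0 ∨ m / 16 = 1) with h | h <;> simp [h, mo, ev, mul_assoc]

theorem cm_lt {x y : ℕ} (hx : x < 32) (hy : y < 32) : cm x y < 32 :=
  (M.gm_spec (h := 1) (fun k hk => by simp [f1.2.2.2.2.2 k (by omega)]) hx hy).1
/-- product of monomials -/
theorem mo_mul {x y : ℕ} (hx : x < 32) (hy : y < 32) : mo e x * mo e y = mo e (cm x y) := by
  simpa [cm] using (M.gm_spec (h := 1) (X := 1672) (fun k hk => by simp [f1.2.2.2.2.2 k (by omega)]) hx hy).2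
/-- conjugation of monomials -/
theorem conj_mo (h : Γ) {m : ℕ} (hm : m < 32) : h * mo e m * h⁻¹ = mo e (am (ρ e h) m) := by
  simpa [mo0, am] using (M.gm_spec (fun k hk => M.spec h k (by omega)) hm (y := 0) (by norm_num)).2
theorem am_lt (h : Γ) {m : ℕ} (hm : m < 32) : am (ρ e h) m < 32 :=
  (M.gm_spec (fun k hk => M.spec h k (by omega)) hm (y := 0) (by norm_num)).1
theorem ev_mo {k : ℕ} (hk : k < 8) : ev e k = mo e (lm k 0) := by simpa [mo0] using M.lm_spec hk (m := 0) (by norm_num)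

theorem mo_inj {m n : ℕ} (hm : m < 32) (hn : n < 32) (h : mo e m = mo e n) : m = n := by
  have c := M.cm_lt hn (M.cm_lt hn hn)
  refine (f1.2.1 m hm n hn).2.2 ?_
  have h1 : mo e (cm m (cm n (cm n n))) = 1 := by rw [← M.mo_mul hm c, h, M.mo_mul hn c, (f1.2.1 m hm n hn).1, mo0]
  have l := M.cm_lt hm c
  generalize cm m (cm n (cm n n)) = r at *
  rcases f1.2.2.1 r l with h | rfl | ⟨k, hk, h⟩
  · exact h
  · exact (M.ne (h1.symm.trans mo16)).elim
  · have l0 := f1.1 k (by omega) 0 (by norm_num)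
    have := M.lm_spec (k := k) (by omega) l
    rw [h, mo_neg (M.cm_lt l l0), ← M.mo_mul l l0, ← M.ev_mo (by omega), h1, mul_one, one_mul] at this
    exact (M.nn _ this).elim

theorem ev_inj {a b : ℕ} (ha : a < 8) (hb : b < 8) (h : ev e a = ev e b) : a = b :=
  f1.2.2.2.1 a ha b hb (M.mo_inj (f1.1 a ha 0 (by norm_num)) (f1.1 b hb 0 (by norm_num)) (by rwa [← M.ev_mo ha, ← M.ev_mo hb]))

theorem ρ_eq {h : Γ} {X : ℕ} (hX : X < 4096) (H : ∀ k < 4, h * ev e k * h⁻¹ = ev e (ap X k)) : ρ e h = X := by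
  have : ∀ k < 4, ap (ρ e h) k = ap X k := fun k hk => M.ev_inj (ap_lt _ _) (ap_lt _ _) (by rw [← H k hk, M.spec h k (by omega)])
  rw [← mk_ap hX, ← mk_ap (M.ρ_lt h), this 0 (by norm_num), this 1 (by norm_num), this 2 (by norm_num), this 3 (by norm_num)]

theorem ρ_mul (g h : Γ) : ρ e (g * h) = ml (ρ e g) (ρ e h) := by
  obtain ⟨h0, h1, h2, h3, h4⟩ := ap_mk (ap_lt (ρ e g) (ap (ρ e h) 0)) (ap_lt (ρ e g) (ap (ρ e h) 1))
    (ap_lt (ρ e g) (ap (ρ e h) 2)) (ap_lt (ρ e g) (ap (ρ e h) 3))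
  refine M.ρ_eq h4 fun k hk => ?_
  have : g * h * ev e k * (g * h)⁻¹ = g * (h * ev e k * h⁻¹) * g⁻¹ := by group
  rw [this, M.spec h k (by omega), M.spec g _ (ap_lt _ _), ml]
  interval_cases k <;> simp only [*]

theorem ρ_one : ρ e 1 = 1672 := M.ρ_eq (by norm_num) fun k hk => by simp [f1.2.2.2.2.2 k (by omega)]
theorem ρ_neg (h : Γ) : ρ e (-h) = ρ e h := M.ρ_eq (M.ρ_lt h) fun k hk => by rw [← M.spec h k (by omega)]; simp [inv_neg]
theorem ρ_mo {m : ℕ} (hm : m < 32) : ρ e (mo e m) = inn m := M.ρ_eq (f1.2.2.2.2.1 m hm).1 fun k hk => by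
  rw [mul_inv_eq_iff_eq_mul, M.lm_spec (ap_lt _ _) hm, ← (f1.2.2.2.2.1 m hm).2 k hk, M.ev_mo (by omega),
    M.mo_mul hm (f1.1 k (by omega) 0 (by norm_num))]
theorem ρ_inj {g h : Γ} (H : ρ e g = ρ e h) : g = h ∨ g = -h := by
  have := M.ker (h⁻¹ * g) fun i => by
    have a := M.spec g i (by omega)
    rw [H, ← M.spec h i (by omega)] at a
    have b : ev e i = e i := by fin_cases i <;> rfl
    rw [b] at a
    calc h⁻¹ * g * e i = h⁻¹ * (g * e i * g⁻¹) * g := by group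
      _ = _ := by rw [a]; group
  rcases this with h | h <;> rw [inv_mul_eq_iff_eq_mul] at h <;> simp [h]
theorem ρ_mem (h : Γ) : ρ e h ∈ L4 := by
  refine (f0.2.2.1 _ (M.ix_spec h (by norm_num)).1 _ (M.ix_spec h (by norm_num)).1 _ (M.ix_spec h (by norm_num)).1 _
    (M.ix_spec h (by norm_num)).1).resolve_left ?_
  rintro ⟨j, hj, k, hk, n, H⟩
  have : h * ev e j * h⁻¹ = h * ev e k * h⁻¹ := by rw [M.spec h j (by omega), M.spec h k hk]; exact congrArg _ H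
  exact n (M.ev_inj (by omega) hk (by simpa using this))
theorem ρ_inv (h : Γ) : ρ e h⁻¹ = iv (ρ e h) := M.ρ_eq (f0.2.2.2 _ (M.ρ_mem h)).1 fun k hk => by
  have := M.spec h _ (ap_lt (iv (ρ e h)) k)
  rw [(f0.2.2.2 _ (M.ρ_mem h)).2 k hk] at this
  rw [← this]; group
theorem pm1 {h : Γ} (H : ρ e h = 1672) : h = 1 ∨ h = -1 := M.ρ_inj (H.trans M.ρ_one.symm)
theorem pmo {h : Γ} {m : ℕ} (hm : m < 32) (H : ρ e h = inn m) : h = mo e m ∨ h = -mo e m := M.ρ_inj (H.trans (M.ρ_mo hm).symm)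

theorem count {L : List ℕ} (hL : L.Nodup) (sub : ∀ X ∈ L, X ∈ L4) : Nat.card {h // ρ e h ∈ L} = 2 * L.length := by
  classical
  haveI : Finite Γ := Nat.finite_of_card_ne_zero (by rw [M.card]; norm_num)
  letI := Fintype.ofFinite Γ
  have h1 : ∀ X, (Finset.univ.filter fun h => ρ e h = X).card ≤ 2 := fun X => by
    rcases (Finset.univ.filter fun h => ρ e h = X).eq_empty_or_nonempty with h | ⟨g, hg⟩
    · simp [h]
    · refine (Finset.card_le_card (t := {g, -g}) fun x hx => ?_).trans Finset.card_le_two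
      simpa using M.ρ_inj ((Finset.mem_filter.1 hx).2.trans (Finset.mem_filter.1 hg).2.symm)
  have h2 := Finset.card_eq_sum_card_fiberwise (s := Finset.univ) (t := L4.toFinset) (f := ρ e) fun h _ => by
    simpa using M.ρ_mem h
  rw [Finset.card_univ, ← Nat.card_eq_fintype_card, M.card] at h2
  have h3 := (Finset.sum_eq_sum_iff_of_le (s := L4.toFinset) fun X _ => h1 X).1 (by
    rw [← h2, Finset.sum_const, List.toFinset_card_of_nodup f0.2.1, f0.1]; rfl)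
  have h4 := Finset.card_eq_sum_card_fiberwise (s := Finset.univ.filter fun h => ρ e h ∈ L) (t := L.toFinset) (f := ρ e)
    fun h hh => by simpa using hh
  rw [Nat.card_eq_fintype_card, Fintype.card_subtype, h4, Finset.sum_congr rfl (g := fun _ => 2) fun X hX => ?_,
    Finset.sum_const, List.toFinset_card_of_nodup hL, smul_eq_mul, mul_comm]
  rw [← h3 X (by simpa using sub X (by simpa using hX))]
  congr 1; ext h
  simp only [Finset.mem_filter, Finset.mem_univ, true_and, and_iff_right_iff_imp]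
  rintro rfl; simpa using hX

theorem surj {X : ℕ} (hX : X ∈ L4) : ∃ h, ρ e h = X := by
  have := M.count (L := [X]) (by simp) (by simpa using hX)
  obtain ⟨h, hh⟩ := (Nat.card_pos_iff.1 (by rw [this]; norm_num : 0 < Nat.card {h // ρ e h ∈ [X]})).1
  exact ⟨h, by simpa using hh⟩

end Md
end H17.AL
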