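import Cfsg.Agent.H17.AL1

/-! Involution centraliser `2^{1+4}_-.S₄`: the subgroup `T` and the statement of the dichotomy. -/

set_option autoImplicit false
set_option maxRecDepth 100000
set_option synthInstance.maxSize 4096

namespace H17.AL
open Subgroup

universe u v

theorem f2 : (∀ X ∈ LT, X ∈ L4 ∧ X ∈ LH ∧ iv X ∈ LT ∧ (sq2 X = 1672 ∨ sq2 X = inn 15) ∧ am X 15 = 15 ∧ ∀ Y ∈ LT, ml X Y ∈ LT) ∧
    LT.Nodup ∧ 1672 ∈ LT ∧ LT.length = 32 ∧ inn 15 ∈ LT := by decide +kernel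

/-- the normal subgroup of order 64 -/
def Md.TT {Γ : Type u} [Group Γ] [HasDistribNeg Γ] {e : Fin 4 → Γ} (M : Md e) : Subgroup Γ where
  carrier := {h | ρ e h ∈ LT}
  mul_mem' := fun {a b} ha hb => by
    change ρ e _ ∈ LT; rw [M.ρ_mul]; exact (f2.1 _ ha).2.2.2.2.2 _ hb
  one_mem' := by change ρ e _ ∈ LT; rw [M.ρ_one]; exact f2.2.2.1
  inv_mem' := fun {a} ha => by change ρ e _ ∈ LT; rw [M.ρ_inv]; exact (f2.1 _ ha).2.2.1

theorem Md.mem_TT {Γ : Type u} [Group Γ] [HasDistribNeg Γ] {e : Fin 4 → Γ} (M : Md e) {h : Γ} : h ∈ M.TT ↔ ρ e h ∈ LT := Iff.rfl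

theorem Md.card_TT {Γ : Type u} [Group Γ] [HasDistribNeg Γ] {e : Fin 4 → Γ} (M : Md e) : Nat.card M.TT = 64 :=
  (M.count f2.2.1 fun X h => (f2.1 X h).1).trans (by rw [f2.2.2.2.1])

/-- part D: the dichotomy -/
def DStmt : Prop := ∀ (G : Type u) [Group G] [Finite G] (F : Type v) [Field F] [Fintype F], Fintype.card F = 4 →
  ∀ (z : G) (h2 : z * z = 1) (e : Fin 4 → centralizer ({z} : Set G)) (M : @Md _ _ (hdn z h2) e) (T : Subgroup G),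
  T = (@Md.TT _ _ (hdn z h2) e M).map (Subgroup.subtype _) →
  (∀ y ∈ T, ∀ g, g * z * g⁻¹ = y * y → g ∈ normalizer (T : Set G)) →
  (∀ g, g * z * g⁻¹ ∈ T → g * z * g⁻¹ = z) ∨ ∃ u : F → F → F → G,
    (∀ a b c a' b' c', u a b c * u a' b' c' = u (a + a') (b + b') (c + c' + a * b')) ∧
    (∀ a b c, u a b c = 1 → a = 0 ∧ b = 0 ∧ c = 0) ∧ H07.L4.T u = T ∧ z = u 0 0 1 ∧
    (∀ a c, ∃ b c', (e 3 : G) * u a 0 c * (e 3 : G)⁻¹ = u 0 b c')

end H17.AL
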