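import Cfsg.Agent.H17.AL2

/-! Involution centraliser `2^{1+4}_-.S₄`: finite checks on the codes. -/

set_option autoImplicit false
set_option maxRecDepth 100000
set_option synthInstance.maxSize 4096

namespace H17.AL

theorem f3 : ∀ X ∈ L4, (am X 15 = 15 ∨ am X 15 = 31) ∧ (sq2 X = 1672 → X ∈ LT ∨ X ∈ LI) ∧ (ml X (sq2 X) = 1672 → X ∈ L3) ∧
    (X = 1672 ∨ ∃ k < 4, lm (ap X k) (lm k 0) = 16 ∨ cm (lm (ap X k) (lm k 0)) (lm (ap X k) (lm k 0)) = 16) ∧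
    (sq2 (sq2 (sq2 (sq2 (sq2 (sq2 (sq2 (sq2 X))))))) = 1672 → ∃ Y ∈ LT, sq2 (ml X Y) = 1672) := by decide +kernel
theorem f3' : ∀ X ∈ L4, ∀ Y ∈ LT, ml (ml X Y) (iv X) ∈ LT := by decide +kernel
theorem f4 : ∀ X ∈ LI, (∃ m < 32, cm m m = 16 ∧ am X m = m) ∧ ∀ Y ∈ L4, ml Y X = ml X Y → sq2 Y = 1672 ∨
    (am X 15 = 31 ∧ (sq2 (sq2 Y) = 1672 → ∃ m < 32, sq2 Y = inn m ∧ cm m m = 16)) := by decide +kernel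
theorem f5 : ∀ X ∈ LT, (X = 4012 ∨ ∃ Y ∈ L3, ∃ Z ∈ L3, X = ml Y Z) ∧ (sq2 X = 1672 → X = 1672 ∨
    (∃ m < 32, X = inn m ∧ cm m m = 16) ∨ ((∃ Y ∈ L4, sq2 Y = X) ∧ ∃ m < 32, am X m = m ^^^ 16)) := by decide +kernel
theorem f6 : (∀ X ∈ LH, iv X ∈ LH ∧ (sq2 (sq2 X) = 1672 → X ∈ LT) ∧ ∀ Y ∈ LH, ml X Y ∈ LH) ∧
    (∀ X ∈ L3, X ∈ LH ∧ am X 15 = 15 ∧ X ∈ L4 ∧ ml X (sq2 X) = 1672) ∧ 1672 ∈ LH ∧ 1697 ∈ L4 ∧ ap 1697 3 = 3 ∧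
    sq2 1697 = inn 3 ∧ cm 3 3 = 16 ∧ cm 15 15 = 0 ∧ ml (inn 3) (inn 12) = 4012 ∧ inn 3 ∈ LT ∧ inn 12 ∈ LT ∧ inn 3 ≠ 4012 ∧
    inn 12 ≠ 4012 ∧ cm 8 15 ≠ cm 15 8 := by decide +kernel

end H17.AL
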