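import Cfsg.Agent.H17.AL3

/-! Involution centraliser `2^{1+4}_-.S₄`: the local facts inside `H`. -/

set_option autoImplicit false

namespace H17.AL
open Subgroup

universe u v

variable {Γ : Type u} [Group Γ] [HasDistribNeg Γ] {e : Fin 4 → Γ}

namespace Md
variable (M : Md e)
include M

theorem ρ_sq (y : Γ) : ρ e (y * y) = sq2 (ρ e y) := M.ρ_mul y y
theorem sq_pm {y : Γ} (h : sq2 (ρ e y) = 1672) : y * y = 1 ∨ y * y = -1 := M.pm1 ((M.ρ_sq y).trans h)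
theorem sqm {y : Γ} {m : ℕ} (hm : m < 32) (h : ρ e y = inn m) (c : cm m m = 16) : y * y = -1 := by
  rcases M.pmo hm h with rfl | rfl <;> simp [M.mo_mul hm hm, c, mo16]
theorem sq1 {x : Γ} (h : x * x = 1) : sq2 (ρ e x) = 1672 := by rw [← M.ρ_sq, h, M.ρ_one]
theorem mem_LI {x : Γ} (hx : x ∉ M.TT) (h : x * x = 1) : ρ e x ∈ LI := ((f3 _ (M.ρ_mem x)).2.1 (M.sq1 h)).resolve_left hx
theorem t2 : mo e 15 * mo e 15 = 1 := by rw [M.mo_mul (by norm_num) (by norm_num), f6.2.2.2.2.2.2.2.1, mo0]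
theorem fixt {x : Γ} (h : am (ρ e x) 15 = 15) : x * mo e 15 = mo e 15 * x := by
  rw [← mul_inv_eq_iff_eq_mul, M.conj_mo x (by norm_num), h]
theorem ht (h : Γ) : h * mo e 15 * h⁻¹ = mo e 15 ∨ h * mo e 15 * h⁻¹ = -mo e 15 := by
  rw [M.conj_mo h (by norm_num), ← mo_neg (by norm_num)]
  exact (f3 _ (M.ρ_mem h)).1.imp (congrArg _) (congrArg _)
theorem st : e 3 * mo e 15 ≠ mo e 15 * e 3 := fun h => by
  have : e 3 = mo e 8 := by simp [mo]
  rw [this, M.mo_mul (by norm_num) (by norm_num), M.mo_mul (by norm_num) (by norm_num)] at h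
  exact f6.2.2.2.2.2.2.2.2.2.2.2.2.2 (M.mo_inj (M.cm_lt (by norm_num) (by norm_num)) (M.cm_lt (by norm_num) (by norm_num)) h)
theorem nT (h : Γ) {y : Γ} (hy : y ∈ M.TT) : h * y * h⁻¹ ∈ M.TT := by
  rw [mem_TT, M.ρ_mul, M.ρ_mul, M.ρ_inv]; exact f3' _ (M.ρ_mem h) _ hy
theorem w4 {x : Γ} (hx : x ∉ M.TT) (h : x * x = 1) : ∃ w : Γ, w * x = x * w ∧ w * w = -1 := by
  obtain ⟨m, hm, c, a⟩ := (f4 _ (M.mem_LI hx h)).1
  exact ⟨mo e m, by rw [eq_comm, ← mul_inv_eq_iff_eq_mul, M.conj_mo x hm, a], by rw [M.mo_mul hm hm, c, mo16]⟩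
theorem y4 {x y : Γ} (hx : x ∉ M.TT) (h : x * x = 1) (c : y * x = x * y) (y4 : y ^ 4 = 1) : y * y = 1 ∨ y * y = -1 := by
  have y4' : y * y * (y * y) = 1 := by rw [← y4]; simp [pow_succ, mul_assoc]
  rcases (f4 _ (M.mem_LI hx h)).2 _ (M.ρ_mem y) (by rw [← M.ρ_mul, c, M.ρ_mul]) with h | ⟨-, h⟩
  · exact M.sq_pm h
  · obtain ⟨m, hm, a, c⟩ := h (by rw [← M.ρ_sq]; exact M.sq1 y4')
    exact (M.ne (y4'.symm.trans (M.sqm hm ((M.ρ_sq y).trans a) c))).elim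
theorem r4 {x y : Γ} (hx : x ∉ M.TT) (h : x * x = 1) (xt : x * mo e 15 = mo e 15 * x) (c : y * x = x * y) : y ^ 4 = 1 := by
  rcases (f4 _ (M.mem_LI hx h)).2 _ (M.ρ_mem y) (by rw [← M.ρ_mul, c, M.ρ_mul]) with h | ⟨h, -⟩
  · have : y ^ 4 = y * y * (y * y) := by simp [pow_succ, mul_assoc]
    rcases M.sq_pm h with h | h <;> simp [this, h]
  · have := M.conj_mo x (m := 15) (by norm_num)
    rw [h, xt, mul_inv_cancel_right] at this
    exact absurd (M.mo_inj (by norm_num) (by norm_num) this) (by norm_num)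
theorem sqr {y : Γ} (hy : y ∈ M.TT) (h : y * y = 1) : ∃ w : Γ, w * w = y := by
  rcases (f5 _ hy).2 (M.sq1 h) with a | ⟨m, hm, a, c⟩ | ⟨⟨Y, hY, a⟩, m, hm, b⟩
  · rcases M.pm1 a with rfl | rfl
    · exact ⟨1, by simp⟩
    · exact ⟨mo e 3, M.sqm (by norm_num) (M.ρ_mo (by norm_num)) f6.2.2.2.2.2.2.1⟩
  · exact (M.ne (h.symm.trans (M.sqm hm a c))).elim
  · obtain ⟨w, rfl⟩ := M.surj hY
    rcases M.ρ_inj ((M.ρ_sq w).trans a) with a | a
    · exact ⟨w, a⟩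
    · have := M.conj_mo y hm
      rw [b, mo_neg hm, mul_inv_eq_iff_eq_mul] at this
      refine ⟨(mo e m)⁻¹ * w * mo e m, ?_⟩
      calc _ = (mo e m)⁻¹ * (w * w * mo e m) := by group
        _ = y := by rw [a, neg_mul, this]; simp
theorem y8 : ∃ y : Γ, y * e 3 = e 3 * y ∧ y ^ 8 = 1 ∧ y ^ 4 ≠ 1 := by
  obtain ⟨y, hy⟩ := M.surj f6.2.2.2.1
  have a := M.sqm (y := y * y) (m := 3) (by norm_num) (by rw [M.ρ_sq, hy, f6.2.2.2.2.2.1]) f6.2.2.2.2.2.2.1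
  have b : y ^ 4 = -1 := by rw [← a]; simp [pow_succ, mul_assoc]
  have c := M.spec y 3 (by norm_num)
  rw [hy, f6.2.2.2.2.1] at c
  exact ⟨y, mul_inv_eq_iff_eq_mul.1 c, by rw [(by norm_num : 8 = 4 * 2), pow_mul, b]; simp, by rw [b]; exact M.ne.symm⟩
theorem cos {y : Γ} {k : ℕ} (h : y ^ 2 ^ k = 1) : ∃ τ ∈ M.TT, y * τ * (y * τ) = 1 ∨ y * τ * (y * τ) = -1 := by
  have a : orderOf y ∣ 256 * 3 := by have := orderOf_dvd_natCard y; rwa [M.card] at this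
  have b := orderOf_dvd_iff_pow_eq_one.1 ((Nat.Coprime.coprime_dvd_left (orderOf_dvd_of_pow_eq_one h)
    (Nat.Coprime.pow_left k (by norm_num : Nat.Coprime 2 3))).dvd_of_dvd_mul_right a)
  have p : ∀ x : Γ, ρ e (x ^ 2) = sq2 (ρ e x) := fun x => by rw [pow_two, M.ρ_sq]
  obtain ⟨Y, hY, c⟩ := (f3 _ (M.ρ_mem y)).2.2.2.2 (by
    simp only [← p, ← pow_mul]; norm_num [b, M.ρ_one])
  obtain ⟨τ, rfl⟩ := M.surj (f2.1 _ hY).1
  exact ⟨τ, hY, M.sq_pm (by rwa [M.ρ_mul])⟩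
theorem c3 {x : Γ} (h : x ^ 3 = 1) : ρ e x ∈ L3 :=
  (f3 _ (M.ρ_mem x)).2.2.1 (by rw [← M.ρ_sq, ← M.ρ_mul, ← M.ρ_one, ← h]; simp [pow_succ, mul_assoc])
theorem gen (L : Subgroup Γ) (hL : ∀ x, x ^ 3 = 1 → x ∈ L) : M.TT ≤ L := by
  have l3 : ∀ X ∈ L3, ∃ x ∈ L, ρ e x = X := fun X hX => by
    obtain ⟨x, rfl⟩ := M.surj (f6.2.1 X hX).2.2.1
    have : ρ e (x ^ 3) = 1672 := by
      rw [← (f6.2.1 _ hX).2.2.2, ← M.ρ_sq, ← M.ρ_mul]; simp [pow_succ, mul_assoc]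
    rcases M.pm1 this with h | h
    · exact ⟨x, hL x h, rfl⟩
    · exact ⟨-x, hL _ (by rw [Odd.neg_pow (by decide), h, neg_neg]), M.ρ_neg x⟩
  have l2 : ∀ X ∈ LT, X ≠ 4012 → ∃ x ∈ L, ρ e x = X := fun X hX n => by
    obtain ⟨Y, hY, Z, hZ, rfl⟩ := (f5 X hX).1.resolve_left n
    obtain ⟨y, h1, rfl⟩ := l3 Y hY
    obtain ⟨z, h2, rfl⟩ := l3 Z hZ
    exact ⟨y * z, mul_mem h1 h2, M.ρ_mul y z⟩
  obtain ⟨-, -, -, -, -, -, c, -, d, m1, m2, n1, n2, -⟩ := f6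
  obtain ⟨a, ha, a1⟩ := l2 _ m1 n1
  obtain ⟨b, hb, b1⟩ := l2 _ m2 n2
  have n : -1 ∈ L := M.sqm (by norm_num) a1 c ▸ mul_mem ha ha
  intro y hy
  obtain ⟨x, hx, h⟩ : ∃ x ∈ L, ρ e x = ρ e y := by
    by_cases h : ρ e y = 4012
    · exact ⟨a * b, mul_mem ha hb, by rw [M.ρ_mul, a1, b1, d, h]⟩
    · exact l2 _ hy h
  rcases M.ρ_inj h.symm with rfl | rfl
  · exact hx
  · simpa using mul_mem n hx
theorem nz (N : Subgroup Γ) [hN : N.Normal] (h : -1 ∉ N) : N = ⊥ := by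
  refine (eq_bot_iff_forall _).2 fun n hn => ?_
  rcases (f3 _ (M.ρ_mem n)).2.2.2.1 with a | ⟨k, hk, a⟩
  · exact (M.pm1 a).resolve_right fun c => h (c ▸ hn)
  have l0 := f1.1 k (by omega) 0 (by norm_num)
  have l1 := f1.1 _ (ap_lt (ρ e n) k) _ l0
  have k2 : (ev e k)⁻¹ = ev e k := inv_eq_of_mul_eq_one_left (by interval_cases k <;> exact M.sq _)
  have b : mo e (lm (ap (ρ e n) k) (lm k 0)) ∈ N := by
    rw [← M.lm_spec (ap_lt _ _) l0, ← M.ev_mo (by omega), ← M.spec n k (by omega)]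
    simpa only [mul_assoc, k2] using mul_mem hn (hN.conj_mem _ (inv_mem hn) (ev e k))
  rcases a with a | a
  · exact (h (by rwa [a, mo16] at b)).elim
  · exact (h (by have := mul_mem b b; rwa [M.mo_mul l1 l1, a, mo16] at this)).elim
theorem sqT {y : Γ} (hy : y ∈ M.TT) : y * y * (y * y) = 1 ∧ ∀ x, x ^ 3 = 1 → x * (y * y) = y * y * x := by
  have : ∀ x, x ^ 3 = 1 → x * mo e 15 = mo e 15 * x := fun x h => M.fixt (f6.2.1 _ (M.c3 h)).2.1
  rcases (f2.1 _ hy).2.2.2.1 with h | h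
  · rcases M.sq_pm h with h | h <;> simp [h]
  · rcases M.pmo (by norm_num) ((M.ρ_sq y).trans h) with h | h <;> simpa [h, M.t2] using this
/-- the normal subgroup of index 4 -/
def HH : Subgroup Γ where
  carrier := {h | ρ e h ∈ LH}
  mul_mem' := fun {a b} ha hb => by change ρ e _ ∈ LH; rw [M.ρ_mul]; exact (f6.1 _ ha).2.2 _ hb
  one_mem' := by change ρ e _ ∈ LH; rw [M.ρ_one]; exact f6.2.2.1
  inv_mem' := fun {a} ha => by change ρ e _ ∈ LH; rw [M.ρ_inv]; exact (f6.1 _ ha).1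
theorem hh3 {x : Γ} (h : x ^ 3 = 1) : x ∈ M.HH := (f6.2.1 _ (M.c3 h)).1
theorem hh4 {x : Γ} (hx : x ∈ M.HH) (h : x * x * (x * x) = 1) : x ∈ M.TT := (f6.1 _ hx).2.1 (by rw [← M.ρ_sq]; exact M.sq1 h)

end Md

theorem lo {G : Type u} [Group G] [Finite G] (F : Type v) [Field F] [Fintype F] (hF : Fintype.card F = 4) (D : DStmt.{u, v})
    {z : G} (hz : orderOf z = 2) (h2 : z * z = 1) (sol : Group.IsSolvable (centralizer {z} : Subgroup G))
    (odd : ¬ 2 ∣ (centralizer {z} : Subgroup G).index) {e : Fin 4 → centralizer ({z} : Set G)} (M : @Md _ _ (hdn z h2) e) :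
    ∃ t s T, Lo F z t s T := by
  letI := hdn z h2
  have n1 : ((-1 : centralizer ({z} : Set G)) : G) = z := mul_one z
  have lf : ∀ {x : G}, x * z = z * x → ∃ y : centralizer ({z} : Set G), (y : G) = x := fun h =>
    ⟨⟨_, mem_centralizer_singleton_iff.2 h⟩, rfl⟩
  have cz : ∀ y : centralizer ({z} : Set G), (y : G) * z = z * y := fun y => mem_centralizer_singleton_iff.1 y.2
  have mT : ∀ {y : centralizer ({z} : Set G)}, (y : G) ∈ M.TT.map (Subgroup.subtype _) ↔ y ∈ M.TT := fun {y} =>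
    mem_map_iff_mem (f := Subgroup.subtype _) Subtype.val_injective
  have pm : ∀ {y : centralizer ({z} : Set G)}, y = 1 ∨ y = -1 → (y : G) = 1 ∨ (y : G) = z := fun h =>
    h.imp (congrArg _) fun h => (congrArg _ h).trans n1
  have wk : ∀ y ∈ M.TT.map (Subgroup.subtype _), ∀ g, g * z * g⁻¹ = y * y →
      g ∈ normalizer (M.TT.map (Subgroup.subtype _) : Set G) := by
    rintro _ ⟨y, hy, rfl⟩ g hg
    refine (Subgroup.inv_mem_iff _).1 (mem_normalizer_fintype ?_)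
    rintro _ ⟨τ, hτ, rfl⟩
    obtain ⟨h, h1, h3⟩ := M.gen ((M.HH.map (Subgroup.subtype _)).comap
      ((MulAut.conj g⁻¹).toMonoidHom.comp (Subgroup.subtype _))) (fun x x3 => by
        have a : (x : G) * (g * z * g⁻¹) = g * z * g⁻¹ * x := by
          rw [hg]; exact congrArg Subtype.val ((M.sqT hy).2 x x3)
        obtain ⟨w, hw⟩ := lf (x := g⁻¹ * x * g⁻¹⁻¹) (by
          calc _ = g⁻¹ * (x * (g * z * g⁻¹)) * g := by group
            _ = _ := by rw [a]; group)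
        refine ⟨w, M.hh3 (Subtype.ext ?_), hw⟩
        rw [Subgroup.coe_pow, hw, conj_pow, ← Subgroup.coe_pow, x3]; simp) hτ
    replace h3 : (h : G) = g⁻¹ * τ * g⁻¹⁻¹ := h3
    refine ⟨h, M.hh4 h1 (Subtype.ext ?_), h3⟩
    have : (τ : G) * τ * (τ * τ) = 1 := congrArg Subtype.val (M.sqT hτ).1
    simp only [Subgroup.coe_mul, h3, conj_mul, this]; simp
  refine ⟨(mo e 15 : centralizer ({z} : Set G)), e 3, M.TT.map (Subgroup.subtype _), hz, M.card, sol, fun N h1 h3 h4 => ?_, odd,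
    map_subtype_le _, fun h hh => mem_normalizer_fintype ?_, ?_, ?_, ?_, congrArg Subtype.val M.t2, ?_, fun h hh => ?_, cz _,
    congrArg Subtype.val (M.sq 3), fun h => M.st (Subtype.ext h), fun x hx xT x2 => ?_, fun x hx xT x2 y hy c y4 => ?_, ?_, ?_,
    fun x hx xT x2 xt y hy c => ?_, fun y hy ⟨k, hk⟩ => ?_, fun L hL => ?_, wk, D G F hF z h2 e M _ rfl wk⟩
  · haveI : (N.subgroupOf (centralizer {z})).Normal := (normal_subgroupOf_iff_le_normalizer h1).2 h3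
    have := M.nz (N.subgroupOf (centralizer {z})) fun h => h4 (n1 ▸ h)
    rwa [subgroupOf_eq_bot, disjoint_iff, inf_of_le_left h1] at this
  · rintro _ ⟨y, hy, rfl⟩
    exact ⟨_, M.nT ⟨h, hh⟩ hy, rfl⟩
  · rw [← M.card_TT]; exact (Nat.card_congr (M.TT.equivMapOfInjective _ Subtype.val_injective).toEquiv).symm
  · exact ⟨-1, by change ρ e _ ∈ LT; rw [M.ρ_neg, M.ρ_one]; exact f2.2.2.1, n1⟩
  · exact mT.2 (by rw [M.mem_TT, M.ρ_mo (by norm_num)]; exact f2.2.2.2.2)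
  · rintro _ ⟨y, hy, rfl⟩
    exact congrArg Subtype.val (M.fixt (f2.1 _ hy).2.2.2.2.1)
  · obtain ⟨h, rfl⟩ := lf hh
    exact (M.ht h).imp (congrArg Subtype.val) (congrArg Subtype.val)
  · obtain ⟨x, rfl⟩ := lf hx
    obtain ⟨w, a, b⟩ := M.w4 (mt mT.2 xT) (Subtype.ext x2)
    exact ⟨w, congrArg Subtype.val a, (congrArg Subtype.val b).trans n1⟩
  · obtain ⟨x, rfl⟩ := lf hx
    obtain ⟨y, rfl⟩ := lf hy
    exact pm (M.y4 (mt mT.2 xT) (Subtype.ext x2) (Subtype.ext c) (Subtype.ext y4))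
  · rintro _ ⟨y, hy, rfl⟩ h
    obtain ⟨w, a⟩ := M.sqr hy (Subtype.ext h)
    exact ⟨w, congrArg Subtype.val a⟩
  · obtain ⟨y, a, b, c⟩ := M.y8
    exact ⟨y, congrArg Subtype.val a, congrArg Subtype.val b, fun h => c (Subtype.ext h)⟩
  · obtain ⟨x, rfl⟩ := lf hx
    obtain ⟨y, rfl⟩ := lf hy
    exact congrArg Subtype.val (M.r4 (mt mT.2 xT) (Subtype.ext x2) (Subtype.ext xt) (Subtype.ext c))
  · obtain ⟨y, rfl⟩ := lf hy
    obtain ⟨τ, a, b⟩ := M.cos (y := y) (k := k) (Subtype.ext hk)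
    exact ⟨τ, mT.2 a, pm b⟩
  · rintro _ ⟨y, hy, rfl⟩
    exact M.gen (L.subgroupOf _) (fun x h => hL x (congrArg Subtype.val h)) hy

end H17.AL
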