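import Mathlib
import Cfsg.Agent.H07.L0
import Cfsg.Agent.S5626
import Cfsg.Agent.S5627
import Cfsg.Agent.S5628
import Cfsg.Agent.H09.SLBasic

/-! Groups without subgroups of index two acting on the projective plane of order four embed in `PGL₃(4)`. -/

set_option autoImplicit false

namespace H17.L4

open Cfsg Matrix Projectivization
open scoped Pointwise LinearAlgebra.Projectivization

universe u v

theorem mem_aut {α : Type*} [Fintype α] [DecidableEq α] {L : Set (Finset α)} {g : Equiv.Perm α}
    (h : ∀ l ∈ L, l.image g ∈ L) : g ∈ setSystemAut L := by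
  rw [MulAction.mem_stabilizer_iff]
  refine Set.eq_of_subset_of_ncard_le ?_ (Set.ncard_smul_set g L).ge (Set.toFinite _)
  rintro _ ⟨l, hl, rfl⟩
  exact h l hl

theorem aut_mem {α : Type*} [DecidableEq α] {L : Set (Finset α)} {g : Equiv.Perm α} (h : g ∈ setSystemAut L)
    {l : Finset α} (hl : l ∈ L) : g • l ∈ L := by
  rw [MulAction.mem_stabilizer_iff] at h
  rw [← h]; exact Set.smul_mem_smul_set hl

theorem aut_card {α : Type*} [Fintype α] [DecidableEq α] (hα : Fintype.card α = 21) {L : Set (Finset α)}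
    (hL : IsSteinerSystem 2 5 L) : Nat.card (setSystemAut L) ≤ 168 * 720 := by
  obtain ⟨-, h168, -⟩ := Cfsg.Agent.S5627.result hα L hL
  obtain ⟨H, hH⟩ := Set.nonempty_of_ncard_ne_zero (h168.trans_ne (by norm_num))
  rw [← Subgroup.index_mul_card (MulAction.stabilizer (setSystemAut L) H), MulAction.index_stabilizer]
  refine Nat.mul_le_mul ?_ ?_
  · rw [← h168]
    refine Set.ncard_le_ncard ?_ (Set.toFinite _)
    rintro _ ⟨g, rfl⟩
    refine ⟨(Finset.card_smul_finset g H).trans hH.1, fun l hl => ?_⟩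
    have := hH.2 _ (aut_mem (inv_mem g.2) hl)
    rwa [← Finset.card_smul_finset (g : Equiv.Perm α), Finset.smul_finset_inter, smul_inv_smul] at this
  · have hm : ∀ g : MulAction.stabilizer (setSystemAut L) H, ∀ x, (g.1.1 x ∈ H ↔ x ∈ H) := fun g x => by
      have : g.1.1 • H = H := g.2
      have h2 := Finset.smul_mem_smul_finset_iff (a := g.1.1) (s := H) (b := x)
      rwa [this] at h2
    have : Nat.card (Equiv.Perm H) = 720 := by
      rw [Nat.card_eq_fintype_card, Fintype.card_perm, Fintype.card_coe, hH.1]; rfl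
    rw [← this]
    refine Nat.card_le_card_of_injective (fun g => g.1.1.subtypePerm (hm g)) fun a b hab => ?_
    refine Subtype.ext (Subtype.ext ((Cfsg.Agent.S5628.result hα L hL H hH (a.1.1.subtypePerm (hm a))).unique
      ⟨a.1.2, fun p => rfl⟩ ⟨b.1.2, fun p => ?_⟩))
    rw [show a.1.1.subtypePerm (hm a) = b.1.1.subtypePerm (hm b) from hab]; rfl

variable {F : Type v} [Field F]

theorem ker_gl : (MulAction.toPermHom (GL (Fin 3) F) (ℙ F (Fin 3 → F))).ker = Subgroup.center (GL (Fin 3) F) := by
  ext m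
  simp only [MonoidHom.mem_ker, MulAction.toPermHom_apply, Equiv.Perm.one_def, DFunLike.ext_iff, MulAction.toPerm_apply,
    Equiv.refl_apply]
  refine ⟨fun hm => ?_, fun hm l => ?_⟩
  · obtain ⟨a, ha⟩ := (Matrix.toLin' m.1).exists_eq_smul_id_of_forall_notLinearIndependent fun (v : Fin 3 → F) => by
      by_cases hv : v = 0
      · simp [hv, linearIndependent_fin2]
      · simpa [LinearIndependent.pair_iff' hv, mk_eq_mk_iff'] using! hm (.mk F v hv)
    have hs : m.1 = a • (1 : Matrix (Fin 3) (Fin 3) F) := Matrix.toLin'.injective (by rw [ha, map_smul, toLin'_one]; rfl)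
    exact Subgroup.mem_center_iff.2 fun g => Units.ext (by simp [hs])
  · rw [GeneralLinearGroup.center_eq_range_scalar] at hm
    obtain ⟨r, rfl⟩ := hm
    induction l using Projectivization.ind with | _ v hv =>
    simp only [smul_mk, mk_eq_mk_iff]
    exact ⟨r, by simp [Units.smul_def]⟩

theorem orth (g : GL (Fin 3) F) (l : ℙ F (Fin 3 → F)) :
    ∃ l' : ℙ F (Fin 3 → F), ∀ p : ℙ F (Fin 3 → F), g • p ∈ l' ↔ p ∈ l := by
  induction l using Projectivization.ind with | _ w hw =>
  have e : ∀ v : Fin 3 → F, (g • v) ⬝ᵥ (w ᵥ* (g⁻¹).1) = v ⬝ᵥ w := fun v => by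
    rw [dotProduct_comm, ← dotProduct_mulVec, show g • v = g.1 *ᵥ v from rfl, mulVec_mulVec, Units.inv_mul, one_mulVec,
      dotProduct_comm]
  refine ⟨mk F (w ᵥ* (g⁻¹).1) fun h => hw ?_, fun p => ?_⟩
  · rw [← vecMul_one w, ← g.inv_mul, ← vecMul_vecMul, h, zero_vecMul]
  · induction p using Projectivization.ind with | _ v hv =>
    rw [smul_mk, Configuration.ofField.mem_iff, Configuration.ofField.mem_iff, orthogonal_mk, orthogonal_mk, e]

theorem p : H07.L4.PStmt.{u, v} := by
  intro G _ _ F _ _ hF α _ _ hα L hL φ hφ hA hG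
  classical
  let P := ℙ F (Fin 3 → F)
  let _ : Fintype P := Fintype.ofFinite P
  have hP : Fintype.card P = 21 := by
    rw [← Nat.card_eq_fintype_card, Projectivization.card_of_finrank F (Fin 3 → F) (n := 3) (by simp),
      Nat.card_eq_fintype_card, hF]; rfl
  have ho : Configuration.ProjectivePlane.order P P = 4 := by
    have := Configuration.ProjectivePlane.card_points P P
    rw [hP] at this
    nlinarith
  let ln : P → Finset P := fun l => Finset.univ.filter (· ∈ l)
  have hln : ∀ l p, p ∈ ln l ↔ p ∈ l := fun l p => by simp [ln]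
  have h0 : IsSteinerSystem 2 5 (Set.range ln) := by
    refine ⟨?_, fun s hs => ?_⟩
    · rintro _ ⟨l, rfl⟩
      have := Configuration.ProjectivePlane.pointCount_eq P l
      rwa [ho, Configuration.pointCount, Nat.card_eq_fintype_card, Fintype.card_subtype] at this
    · obtain ⟨a, b, hab, rfl⟩ := Finset.card_eq_two.1 hs
      obtain ⟨l, hl, hu⟩ := Configuration.HasLines.existsUnique_line P P a b hab
      refine ⟨ln l, ⟨⟨l, rfl⟩, by simp [Finset.insert_subset_iff, hln, hl]⟩, ?_⟩
      rintro _ ⟨⟨m, rfl⟩, hm⟩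
      rw [hu m (by simpa [Finset.insert_subset_iff, hln] using hm)]
  obtain ⟨e, he⟩ := Cfsg.Agent.S5626.result hP hα h0 hL
  let ψ : GL (Fin 3) F →* Equiv.Perm α := e.permCongrHom.toMonoidHom.comp (MulAction.toPermHom _ P)
  have hk : ψ.ker = Subgroup.center (GL (Fin 3) F) := by
    rw [← ker_gl]; exact MonoidHom.ker_comp_of_injective _ _ e.permCongrHom.injective
  have hR : ψ.range ≤ setSystemAut L := by
    rintro _ ⟨g, rfl⟩
    refine mem_aut fun l hl => ?_
    rw [← he] at hl ⊢
    obtain ⟨_, ⟨m, rfl⟩, rfl⟩ := hl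
    obtain ⟨m', hm⟩ := orth g m
    refine ⟨ln m', ⟨m', rfl⟩, ?_⟩
    have : (ln m).image (fun p => g • p) = ln m' := by
      ext q
      obtain ⟨q, rfl⟩ := (MulAction.surjective g) q
      rw [hln, hm, ← hln]
      exact ⟨fun h => by obtain ⟨r, hr, er⟩ := Finset.mem_image.1 h; rwa [← MulAction.injective g er],
        Finset.mem_image_of_mem _⟩
    simp only [← this, Finset.image_image]
    congr 1
    funext x
    simp [ψ]
  have hc : Nat.card ψ.range = 60480 := by
    have h1 := ψ.ker.card_mul_index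
    rw [Subgroup.index_ker, hk, H09.card_center_GL, card_GL_field, hF] at h1
    rw [show ∏ i : Fin 3, (4 ^ 3 - 4 ^ (i : ℕ)) = 181440 by decide] at h1
    omega
  have hi : ψ.range.relIndex (setSystemAut L) ≤ 2 := by
    have h1 := (ψ.range.subgroupOf (setSystemAut L)).card_mul_index
    rw [Nat.card_congr (Subgroup.subgroupOfEquivOfLe hR).toEquiv, hc] at h1
    have := aut_card hα hL
    unfold Subgroup.relIndex
    omega
  have hj : (ψ.range.comap φ).index ≤ 2 := by
    rw [Subgroup.index_comap]
    refine (Subgroup.relIndex_le_of_le_right ?_ (Subgroup.index_ne_zero_of_finite)).trans hi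
    rintro _ ⟨g, rfl⟩; exact hA g
  have ht : ψ.range.comap φ = ⊤ := by
    have := hG (ψ.range.comap φ)
    have := (ψ.range.comap φ).index_ne_zero_of_finite
    rw [← Subgroup.index_eq_one]; omega
  let i : ψ.range ≃* H07.L4.PG F :=
    (QuotientGroup.quotientKerEquivRange ψ).symm.trans (QuotientGroup.quotientMulEquivOfEq hk)
  exact ⟨i.toMonoidHom.comp (φ.codRestrict _ fun g => (ht.ge (Subgroup.mem_top g))),
    i.injective.comp ((φ.injective_codRestrict _ _).2 hφ)⟩

end H17.L4
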