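import Cfsg.Agent.H17.AL0

/-! Involution centraliser `2^{1+4}_-.S₄`: the signed-permutation description of `H = C_G(z)`. -/

set_option autoImplicit false

namespace H17.AL
open Subgroup Cfsg

universe u

/-- negation `-x = z x` on the centraliser of an involution -/
@[reducible] def hdn {G : Type u} [Group G] (z : G) (h : z * z = 1) : HasDistribNeg (centralizer ({z} : Set G)) where
  neg x := ⟨z * x, mul_mem (mem_centralizer_singleton_iff.2 rfl) x.2⟩
  neg_neg x := Subtype.ext (by change z * (z * x) = x; rw [← mul_assoc, h, one_mul])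
  neg_mul x y := Subtype.ext (mul_assoc z x y)
  mul_neg x y := Subtype.ext (by
    change x * (z * y) = z * (x * y); rw [← mul_assoc, mem_centralizer_singleton_iff.1 x.2, mul_assoc])

/-- four anticommuting involutions permuted up to sign by a group of order 768 with kernel `±1` -/
structure Md {Γ : Type u} [Group Γ] [HasDistribNeg Γ] (e : Fin 4 → Γ) : Prop where
  ne : (1 : Γ) ≠ -1
  sq : ∀ i, e i * e i = 1
  anti : ∀ i j, i ≠ j → e i * e j = -(e j * e i)
  act : ∀ h i, ∃ j, h * e i * h⁻¹ = e j ∨ h * e i * h⁻¹ = -e j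
  ker : ∀ h, (∀ i, h * e i = e i * h) → h = 1 ∨ h = -1
  card : Nat.card Γ = 768

/-- part M: the hypotheses give the model -/
def MStmt : Prop := ∀ (G : Type u) [Group G] [Finite G] (z : G), orderOf z = 2 → ∀ (h2 : z * z = 1)
  (E : Subgroup (centralizer ({z} : Set G))) [E.Normal], IsExtraspecial 2 E → Nat.card E = 32 →
  (∀ A : Subgroup E, IsElementaryAbelian 2 A → Nat.card A ≠ 8) → centralizer (E : Set (centralizer ({z} : Set G))) ≤ E →
  ((centralizer ({z} : Set G) ⧸ E) ≃* Equiv.Perm (Fin 4)) →
  Group.IsSolvable (centralizer {z} : Subgroup G) ∧ ¬ 2 ∣ (centralizer {z} : Subgroup G).index ∧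
    ∃ e : Fin 4 → centralizer ({z} : Set G), @Md _ _ (hdn z h2) e

end H17.AL
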