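import Mathlib
import Cfsg.Agent.H17.BCor

/-!
# Binary actions on cosets

* `Bin H`, the family `Fam H` of intersections of conjugates, the triple property `Tri H`;
* `Bin.tri`, `bin_of_TI`, `bin_comap`;
* `se_of_tri`: a strongly embedded subgroup from a binary action.
-/

set_option autoImplicit false
set_option linter.unusedSectionVars false

open Cfsg H18 Subgroup Pointwise

namespace H17.Bin

variable {G : Type*} [Group G] {H : Subgroup G}

/-- the action on the cosets of `H` is binary -/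
def Bin (H : Subgroup G) : Prop := ∀ (n : ℕ) (I J : Fin n → G ⧸ H), 2 ≤ n →
  (∀ i j : Fin n, i ≠ j → ∃ g : G, g • I i = J i ∧ g • I j = J j) → ∃ g : G, ∀ i, g • I i = J i

theorem smul_eq {g a b : G} : g • (a : G ⧸ H) = (b : G ⧸ H) ↔ b⁻¹ * g * a ∈ H := by
  rw [MulAction.Quotient.smul_mk, eq_comm, QuotientGroup.eq, smul_eq_mul, mul_assoc]

theorem Bin.gen (h : Bin H) {ι : Type*} [Finite ι] (I J : ι → G)
    (hp : ∀ i j, ∃ g, (J i)⁻¹ * g * I i ∈ H ∧ (J j)⁻¹ * g * I j ∈ H) : ∃ g, ∀ i, (J i)⁻¹ * g * I i ∈ H := by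
  rcases subsingleton_or_nontrivial ι with hι | hι
  · rcases isEmpty_or_nonempty ι with h0 | ⟨⟨i⟩⟩
    · exact ⟨1, fun i => h0.elim i⟩
    · obtain ⟨g, hg, -⟩ := hp i i
      exact ⟨g, fun j => Subsingleton.elim i j ▸ hg⟩
  have e := Finite.equivFin ι
  obtain ⟨g, hg⟩ := h _ (fun i => (I (e.symm i) : G ⧸ H)) (fun i => (J (e.symm i) : G ⧸ H)) Finite.one_lt_card
    fun i j _ => by simpa only [smul_eq] using hp _ _
  exact ⟨g, fun i => by simpa only [smul_eq, Equiv.symm_apply_apply] using hg (e i)⟩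

theorem bin_of (h : ∀ (n : ℕ) (I J : Fin n → G), 2 ≤ n →
    (∀ i j, ∃ g, (J i)⁻¹ * g * I i ∈ H ∧ (J j)⁻¹ * g * I j ∈ H) → ∃ g, ∀ i, (J i)⁻¹ * g * I i ∈ H) : Bin H := by
  intro n I J hn hp
  choose I' hI using fun i => QuotientGroup.mk_surjective (I i)
  choose J' hJ using fun i => QuotientGroup.mk_surjective (J i)
  simp only [← hI, ← hJ, smul_eq] at hp ⊢
  refine h n I' J' hn fun i j => ?_
  by_cases e : i = j
  · have : Nontrivial (Fin n) := Fin.nontrivial_iff_two_le.2 hn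
    obtain ⟨k, hk⟩ := exists_ne i
    obtain ⟨g, h1, -⟩ := hp i k hk.symm
    exact ⟨g, h1, e ▸ h1⟩
  · exact hp i j e

theorem bin_comap {G' : Type*} [Group G'] {φ : G' →* G} (hφ : Function.Surjective φ) :
    Bin (H.comap φ) ↔ Bin H := by
  constructor
  · intro h
    refine bin_of fun n I J _ hp => ?_
    choose s hs using hφ
    obtain ⟨g, hg⟩ := h.gen (fun i => s (I i)) (fun i => s (J i)) fun i j => by
      obtain ⟨g, h1, h2⟩ := hp i j
      exact ⟨s g, by simpa [hs] using h1, by simpa [hs] using h2⟩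
    exact ⟨φ g, fun i => by simpa [hs] using hg i⟩
  · intro h
    refine bin_of fun n I J _ hp => ?_
    obtain ⟨g, hg⟩ := h.gen (fun i => φ (I i)) (fun i => φ (J i)) fun i j => by
      obtain ⟨g, h1, h2⟩ := hp i j
      exact ⟨φ g, by simpa using h1, by simpa using h2⟩
    obtain ⟨g, rfl⟩ := hφ g
    exact ⟨g, fun i => by simpa using hg i⟩

/-- the conjugate `g X g⁻¹` -/
def cn (g : G) (X : Subgroup G) : Subgroup G := X.comap (MulAut.conj g⁻¹).toMonoidHom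

theorem mem_cn {g x : G} {X : Subgroup G} : x ∈ cn g X ↔ g⁻¹ * x * g ∈ X := by simp [cn]

/-- intersections of conjugates of `H` -/
def Fam (H X : Subgroup G) : Prop := ∃ A : Set G, ∀ x, x ∈ X ↔ ∀ a ∈ A, a⁻¹ * x * a ∈ H

theorem fam_self : Fam H H := ⟨{1}, fun x => by simp⟩

theorem Fam.cn {X : Subgroup G} (h : Fam H X) (g : G) : Fam H (cn g X) := by
  obtain ⟨A, hA⟩ := h
  refine ⟨(g * ·) '' A, fun x => ?_⟩
  simp only [mem_cn, hA, Set.forall_mem_image, mul_inv_rev, mul_assoc]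

theorem Fam.inf {X Y : Subgroup G} (h : Fam H X) (h' : Fam H Y) : Fam H (X ⊓ Y) := by
  obtain ⟨A, hA⟩ := h
  obtain ⟨B, hB⟩ := h'
  exact ⟨A ∪ B, fun x => by simp only [mem_inf, hA, hB, Set.mem_union, or_imp, forall_and]⟩

/-- the triple property -/
def Tri (H : Subgroup G) : Prop := ∀ X Y W : Subgroup G, Fam H X → Fam H Y → Fam H W →
  ∀ x ∈ X, ∀ y ∈ Y, x⁻¹ * y ∈ W → ∃ g ∈ X, g ∈ Y ∧ g⁻¹ * x ∈ W

theorem Bin.tri [Finite G] (h : Bin H) : Tri H := by
  rintro X Y W ⟨A, hA⟩ ⟨B, hB⟩ ⟨C, hC⟩ x hx y hy hw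
  have h0 : ∀ a : G, a⁻¹ * 1 * a ∈ H := fun a => by simp
  have h1 : ∀ c : G, (x * c)⁻¹ * x * c ∈ H := fun a => by simp [mul_assoc]
  have h2 : ∀ c ∈ C, (x * c)⁻¹ * y * c ∈ H := fun c hc => by
    simpa [mul_assoc] using (hC _).1 hw c hc
  obtain ⟨g, hg⟩ := h.gen (ι := A ⊕ B ⊕ C) (Sum.elim (↑) (Sum.elim (↑) (↑)))
    (Sum.elim (↑) (Sum.elim (↑) fun c => x * c)) (by
      rintro (a | b | c) (a' | b' | c')
      · exact ⟨1, h0 _, h0 _⟩
      · exact ⟨1, h0 _, h0 _⟩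
      · exact ⟨x, (hA _).1 hx _ a.2, h1 _⟩
      · exact ⟨1, h0 _, h0 _⟩
      · exact ⟨1, h0 _, h0 _⟩
      · exact ⟨y, (hB _).1 hy _ b.2, h2 _ c'.2⟩
      · exact ⟨x, h1 _, (hA _).1 hx _ a'.2⟩
      · exact ⟨y, h2 _ c.2, (hB _).1 hy _ b'.2⟩
      · exact ⟨x, h1 _, h1 _⟩)
  refine ⟨g, (hA _).2 fun a ha => hg (.inl ⟨a, ha⟩), (hB _).2 fun a ha => hg (.inr (.inl ⟨a, ha⟩)),
    (hC _).2 fun c hc => ?_⟩
  simpa [mul_assoc] using inv_mem (hg (.inr (.inr ⟨c, hc⟩)))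

theorem bin_of_TI (hT : ∀ a b : G, cn a H ⊓ cn b H = ⊥ ∨ cn a H = cn b H)
    (hN : ∀ a b c : G, cn a H ⊓ cn b H = ⊥ → ∀ x ∈ cn a H, ∀ y ∈ cn b H, x⁻¹ * y ∈ cn c H → x ∈ cn c H) :
    Bin H := by
  refine bin_of fun n I J hn hp => ?_
  have d : ∀ {i : Fin n} {g g' : G}, (J i)⁻¹ * g * I i ∈ H → (J i)⁻¹ * g' * I i ∈ H → g⁻¹ * g' ∈ cn (I i) H :=
    fun h h' => mem_cn.2 (by simpa [mul_assoc] using mul_mem (inv_mem h) h')
  have d' : ∀ {i : Fin n} {g g' : G}, (J i)⁻¹ * g' * I i ∈ H → g⁻¹ * g' ∈ cn (I i) H → (J i)⁻¹ * g * I i ∈ H :=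
    fun h h' => by simpa [mul_assoc] using mul_mem h (inv_mem (mem_cn.1 h'))
  by_cases hc : ∃ i j, cn (I i) H ⊓ cn (I j) H = ⊥
  · obtain ⟨i, j, hij⟩ := hc
    obtain ⟨g, g1, g2⟩ := hp i j
    refine ⟨g, fun k => ?_⟩
    obtain ⟨x, x1, x2⟩ := hp i k
    obtain ⟨y, y1, y2⟩ := hp j k
    exact d' x2 (hN _ _ _ hij _ (d g1 x1) _ (d g2 y1) (by simpa [mul_assoc] using d x2 y2))
  · push Not at hc
    let i : Fin n := ⟨0, by omega⟩
    obtain ⟨g, g1, -⟩ := hp i i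
    refine ⟨g, fun k => ?_⟩
    obtain ⟨x, x1, x2⟩ := hp i k
    exact d' x2 (((hT _ _).resolve_left (hc i k)) ▸ d g1 x1)

theorem bin_of_invol (h1 : ∀ x ∈ H, x * x = 1) (h2 : ∀ x ∈ H, x ≠ 1 → ∀ y, y * y = 1 → x * y = y * x → y ∈ H) :
    Bin H := by
  have h1' : ∀ a, ∀ x ∈ cn a H, x * x = 1 := fun a x hx => by
    have := h1 _ (mem_cn.1 hx)
    calc _ = a * (a⁻¹ * x * a * (a⁻¹ * x * a)) * a⁻¹ := by group
      _ = _ := by rw [this]; group
  have h2' : ∀ a, ∀ x ∈ cn a H, x ≠ 1 → ∀ y, y * y = 1 → x * y = y * x → y ∈ cn a H := fun a x hx x1 y hy hc =>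
    mem_cn.2 (h2 _ (mem_cn.1 hx) (fun e => x1 (by simpa [mul_assoc, inv_mul_eq_one] using e)) _
      (calc _ = a⁻¹ * (y * y) * a := by group
        _ = _ := by rw [hy]; group)
      (calc _ = a⁻¹ * (x * y) * a := by group
        _ = _ := by rw [hc]; group))
  have cm : ∀ {x y : G}, x * x = 1 → y * y = 1 → x * y * (x * y) = 1 → x * y = y * x := fun hx hy h => by
    rw [← inv_eq_of_mul_eq_one_right h, mul_inv_rev, inv_eq_of_mul_eq_one_right hx, inv_eq_of_mul_eq_one_right hy]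
  have le : ∀ a b x, x ∈ cn a H → x ∈ cn b H → x ≠ 1 → cn a H ≤ cn b H := fun a b x ha hb x1 y hy =>
    h2' b x hb x1 y (h1' a y hy) (cm (h1' a x ha) (h1' a y hy) (h1' a _ (mul_mem ha hy)))
  refine bin_of_TI (fun a b => ?_) fun a b c hab x hx y hy hw => ?_
  · by_cases h : cn a H ⊓ cn b H = ⊥
    · exact Or.inl h
    obtain ⟨⟨x, xa, xb⟩, x1⟩ := (ne_bot_iff_exists_ne_one).1 h
    have x1' : x ≠ 1 := fun e => x1 (Subtype.ext e)
    exact Or.inr (le_antisymm (le a b x xa xb x1') (le b a x xb xa x1'))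
  · by_cases x1 : x = 1
    · rw [x1]; exact one_mem _
    have e := inv_eq_of_mul_eq_one_right (h1' a x hx)
    rw [e] at hw
    have : y ∈ cn a H ⊓ cn b H :=
      ⟨h2' a x hx x1 y (h1' b y hy) (cm (h1' a x hx) (h1' b y hy) (h1' c _ hw)), hy⟩
    rw [hab, mem_bot] at this
    rwa [this, mul_one] at hw

/-- representatives of the fixed points -/
def FA (H : Subgroup G) (t : G) : Set G := {a | a⁻¹ * t * a ∈ H}

theorem FA_conj (g t : G) : FA H (g * t * g⁻¹) = g • FA H t := by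
  ext a
  simp [FA, Set.mem_smul_set_iff_inv_smul_mem, mul_assoc]

/-- the pointwise stabilizer of the fixed points -/
def FX (H : Subgroup G) (t : G) : Subgroup G := ⨅ a ∈ FA H t, cn a H

theorem mem_FX {t x : G} : x ∈ FX H t ↔ FA H t ⊆ FA H x := by
  simp only [FX, mem_iInf, mem_cn]; rfl

theorem fam_FX (t : G) : Fam H (FX H t) := ⟨FA H t, fun _ => mem_FX⟩

variable [Finite G]

theorem FA_eq (hone : ∀ s t : G, orderOf s = 2 → orderOf t = 2 → IsConj s t) {s t : G} (hs : orderOf s = 2)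
    (ht : orderOf t = 2) (h : FA H s ⊆ FA H t) : FA H s = FA H t := by
  obtain ⟨g, rfl⟩ := isConj_iff.1 (hone s t hs ht)
  exact Set.eq_of_subset_of_ncard_le h (by rw [FA_conj, Set.ncard_smul_set])

theorem FA_comm (h : Tri H) (hone : ∀ s t : G, orderOf s = 2 → orderOf t = 2 → IsConj s t) {s t : G}
    (hs : orderOf s = 2) (ht : orderOf t = 2) (hc : Commute s t) : FA H s = FA H t := by
  by_cases e : s = t
  · rw [e]
  have hst : orderOf (s * t) = 2 := BC.ord_two (fun e' => e (by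
      rw [eq_inv_of_mul_eq_one_left e', H08.inv_eq_of_orderOf ht]))
    (by rw [hc.symm.mul_mul_mul_comm, BC.mul_self hs, BC.mul_self ht, one_mul])
  obtain ⟨g, g1, g2, g3⟩ := h _ _ _ (fam_FX s) (fam_FX t) (fam_FX (s * t)) s (mem_FX.2 le_rfl) t (mem_FX.2 le_rfl)
    (by rw [H08.inv_eq_of_orderOf hs]; exact mem_FX.2 le_rfl)
  rcases Nat.even_or_odd (orderOf g) with ho | ho
  · have hu := H08.half_pow_invol ho
    rw [FA_eq hone hs hu (mem_FX.1 (pow_mem g1 _)), FA_eq hone ht hu (mem_FX.1 (pow_mem g2 _))]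
  · have h2 : g⁻¹ ^ 2 ∈ FX H (s * t) := mem_FX.2 fun a ha => by
      have h1 : s * a ∈ FA H (s * t) := by
        change _ ∈ H
        have : (s * a)⁻¹ * (s * t) * (s * a) = a⁻¹ * (s * t) * a := by
          calc _ = a⁻¹ * (t * s) * a := by group
            _ = _ := by rw [hc.eq]
        rw [this]; exact ha
      have h3 := mem_FX.1 g3 ha
      have h4 := mem_FX.1 g3 h1
      change _ ∈ H at h3 h4 ⊢
      have h5 : (s * a)⁻¹ * (g⁻¹ * s) * (s * a) = a⁻¹ * s * g⁻¹ * a := by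
        rw [mul_inv_rev, H08.inv_eq_of_orderOf hs]
        calc _ = a⁻¹ * s * g⁻¹ * (s * s) * a := by group
          _ = _ := by rw [BC.mul_self hs, mul_one]
      rw [h5] at h4
      convert mul_mem h3 h4 using 1
      calc _ = a⁻¹ * g⁻¹ * (s * s) * g⁻¹ * a := by rw [BC.mul_self hs]; group
        _ = _ := by group
    have h3 : g⁻¹ ∈ FX H (s * t) := by
      obtain ⟨m, hm⟩ := exists_pow_eq_self_of_coprime (x := g⁻¹) (n := 2)
        (by rw [orderOf_inv]; exact Nat.coprime_two_left.2 ho)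
      exact hm ▸ pow_mem h2 m
    have h4 : s ∈ FX H (s * t) := by simpa using mul_mem (inv_mem h3) g3
    have h5 : t ∈ FX H (s * t) := by simpa using mul_mem (inv_mem h4) (mem_FX.2 (le_refl (FA H (s * t))))
    rw [← FA_eq hone hst hs (mem_FX.1 h4), ← FA_eq hone hst ht (mem_FX.1 h5)]

theorem se_of_tri [IsSimpleGroup G] (h : Tri H) (hone : ∀ s t : G, orderOf s = 2 → orderOf t = 2 → IsConj s t)
    (hH : H ≠ ⊤) (he : Even (Nat.card H)) :
    ∃ M : Subgroup G, IsStronglyEmbedded M ∧ ∀ s ∈ M, s * s = 1 → s ∈ H := by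
  have := Fact.mk Nat.prime_two
  obtain ⟨⟨t, htH⟩, ht⟩ := exists_prime_orderOf_dvd_card' (G := H) 2 he.two_dvd
  rw [← orderOf_coe] at ht
  change orderOf t = 2 at ht
  have htM : t ∈ MulAction.stabilizer G (FA H t) := by
    rw [MulAction.mem_stabilizer_iff, ← FA_conj, mul_inv_cancel_right]
  have key : ∀ s ∈ MulAction.stabilizer G (FA H t), orderOf s = 2 → FA H s = FA H t := fun s hs h2 => by
    rcases Nat.even_or_odd (orderOf (t * s)) with ho | ho
    · have hu := H08.half_pow_invol ho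
      rw [← FA_comm h hone hu ht (H08.commute_half_pow_left (BC.mul_self ht) (BC.mul_self h2) ho),
        ← FA_comm h hone hu h2 (H08.commute_half_pow_right (BC.mul_self ht) (BC.mul_self h2) ho)]
    · obtain ⟨k, hk⟩ := H08.exists_conj_of_odd_orderOf_mul (BC.mul_self ht) (BC.mul_self h2) ho
      rw [← hk, FA_conj]
      exact zpow_mem (mul_mem htM hs) k
  refine ⟨MulAction.stabilizer G (FA H t), H08.isStronglyEmbedded_iff.2 ⟨fun e => hH ?_, ⟨t, htM, ht⟩,
    fun s hs h2 g hg => ?_⟩, fun s hs h2 => ?_⟩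
  · refine top_le_iff.1 (((inferInstance : H.normalCore.Normal).eq_bot_or_eq_top.resolve_left fun e' => ?_).ge.trans
      H.normalCore_le)
    have : t ∈ H.normalCore := fun g => by
      have h1 : g⁻¹ • FA H t = FA H t := (e ▸ mem_top g⁻¹ : g⁻¹ ∈ MulAction.stabilizer G (FA H t))
      have h2 : g⁻¹ ∈ g⁻¹ • FA H t := ⟨1, by simpa [FA] using htH, by simp⟩
      rw [h1] at h2
      simpa [FA] using h2
    rw [e', mem_bot] at this
    exact BC.ne_one ht this
  · have := key _ hg (by rw [BC.ord_conj, h2])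
    rwa [FA_conj, key s hs h2] at this
  · by_cases e : s = 1
    · rw [e]; exact one_mem _
    have : (1 : G) ∈ FA H s := by rw [key s hs (BC.ord_two e h2)]; simpa [FA] using htH
    simpa [FA] using this

end H17.Bin
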