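import Mathlib
import Cfsg.Agent.H17.Bin

/-!
# Binary actions of rank one groups in characteristic two

`Dat B U w α`: split rank one data with an additive coordinate `α` on `U`; `Dat.thmA`, `Dat.thmB`.
-/

set_option autoImplicit false
set_option linter.unusedSectionVars false

open Cfsg H18 Subgroup Pointwise

namespace H17.Bin

variable {G : Type*} [Group G] {F : Type*} [Field F]

/-- `b` acts on the coordinate as the scalar `c` -/
def Sc (U : Subgroup G) (α : G → F) (b : G) (c : F) : Prop := ∀ u ∈ U, α (b * u * b⁻¹) = c * α u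

/-- rank one data with a coordinate -/
structure Dat (B U : Subgroup G) (w : G) (α : G → F) : Prop where
  rk : RK B U w
  pg : IsPGroup 2 U
  nd : ¬ 2 ∣ Nat.card (torus B w)
  add : ∀ u ∈ U, ∀ v ∈ U, α (u * v) = α u + α v
  surj : ∀ a, ∃ u ∈ U, α u = a
  sc : ∀ b ∈ B, ∃ c, Sc U α b c
  ker : ∀ b ∈ B, Sc U α b 1 → b ∈ U

/-- the extra data for the Suzuki and unitary groups -/
structure Dat2 (B U : Subgroup G) (w : G) (α : G → F) : Prop extends Dat B U w α where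
  sq : ∀ u ∈ U, u * u = 1 ↔ α u = 0
  cen : ∀ u ∈ U, (∀ v ∈ U, u * v = v * u) ↔ α u = 0
  big : Nat.card (torus B w) + 1 < Nat.card U
  two : ∃ s ∈ U, ∃ t ∈ U, s ≠ 1 ∧ t ≠ 1 ∧ s ≠ t ∧ α s = 0 ∧ α t = 0
  gen : ∀ K : Subring F, K ≠ ⊤ → ∃ b ∈ B, ∃ b' ∈ B, ∃ c c', Sc U α b c ∧ Sc U α b' c' ∧ c ∉ K ∧ c' ∉ K ∧
    c + c' ∈ K ∧ c + c' ≠ 0

section map
variable {G' : Type*} [Group G'] (e : G ≃* G') {B U : Subgroup G} {w : G} {α : G → F}

theorem Sc.map {b : G} {c : F} : Sc (U.map e.toMonoidHom) (α ∘ e.symm) (e b) c ↔ Sc U α b c := by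
  simp [Sc]

theorem ker_le : e.toMonoidHom.ker ≤ B := fun x hx => by
  rw [e.map_eq_one_iff.1 hx]; exact one_mem _

theorem card_map (X : Subgroup G) : Nat.card (X.map e.toMonoidHom) = Nat.card X :=
  card_map_of_injective e.injective

theorem Dat.map (h : Dat B U w α) : Dat (B.map e.toMonoidHom) (U.map e.toMonoidHom) (e w) (α ∘ e.symm) where
  rk := h.rk.map e.toMonoidHom (ker_le e) e.surjective
  pg := h.pg.map _
  nd := by
    have := h.rk.torus_map e.toMonoidHom (ker_le e)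
    rw [MulEquiv.coe_toMonoidHom] at this
    rw [this, card_map]; exact h.nd
  add := by rintro _ ⟨u, hu, rfl⟩ _ ⟨v, hv, rfl⟩; simpa using h.add u hu v hv
  surj a := by obtain ⟨u, hu, rfl⟩ := h.surj a; exact ⟨e u, ⟨u, hu, rfl⟩, by simp⟩
  sc := by rintro _ ⟨b, hb, rfl⟩; exact (h.sc b hb).imp fun c hc => (Sc.map e).2 hc
  ker := by rintro _ ⟨b, hb, rfl⟩ h1; exact ⟨b, h.ker b hb ((Sc.map e).1 h1), rfl⟩

theorem Dat2.map (h : Dat2 B U w α) : Dat2 (B.map e.toMonoidHom) (U.map e.toMonoidHom) (e w) (α ∘ e.symm) where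
  toDat := h.toDat.map e
  sq := by rintro _ ⟨u, hu, rfl⟩; simpa [← map_mul] using h.sq u hu
  cen := by rintro _ ⟨u, hu, rfl⟩; simpa [← map_mul] using h.cen u hu
  big := by
    have := h.rk.torus_map e.toMonoidHom (ker_le e)
    rw [MulEquiv.coe_toMonoidHom] at this
    rw [this, card_map, card_map]; exact h.big
  two := by
    obtain ⟨s, hs, t, ht, h1, h2, h3, h4, h5⟩ := h.two
    exact ⟨e s, ⟨s, hs, rfl⟩, e t, ⟨t, ht, rfl⟩, by simpa, by simpa, by simpa, by simpa, by simpa⟩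
  gen K hK := by
    obtain ⟨b, hb, b', hb', c, c', h1, h2, h3⟩ := h.gen K hK
    exact ⟨e b, ⟨b, hb, rfl⟩, e b', ⟨b', hb', rfl⟩, c, c', (Sc.map e).2 h1, (Sc.map e).2 h2, h3⟩

end map

variable [Finite G] [Finite F] [CharP F 2] {B U H : Subgroup G} {w : G} {α : G → F}

namespace Dat
variable (h : Dat B U w α)
include h

theorem one : α 1 = 0 := by simpa using h.add 1 (one_mem _) 1 (one_mem _)

theorem inv {u : G} (hu : u ∈ U) : α u⁻¹ = α u := by
  have := h.add u⁻¹ (inv_mem hu) u hu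
  rw [inv_mul_cancel, h.one] at this
  exact CharTwo.add_eq_zero.1 this.symm

theorem ne_bot : U ≠ ⊥ := fun e => by
  obtain ⟨u, hu, h1⟩ := h.surj 1
  rw [e, mem_bot] at hu
  rw [hu, h.one] at h1
  exact zero_ne_one h1

theorem sc_U {u : G} (hu : u ∈ U) : Sc U α u 1 := fun v hv => by
  rw [h.add _ (mul_mem hu hv) _ (inv_mem hu), h.add _ hu _ hv, h.inv hu, one_mul, add_right_comm,
    CharTwo.add_self_eq_zero, zero_add]

theorem sc_mul {b b' : G} {c c' : F} (hb' : b' ∈ B) (h1 : Sc U α b c) (h2 : Sc U α b' c') :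
    Sc U α (b * b') (c * c') := fun u hu => by
  rw [mul_assoc c, ← h2 u hu, ← h1 _ (h.rk.conj _ hb' _ hu)]; congr 1; group

theorem sc_ne {b : G} {c : F} (hb : b ∈ B) (h1 : Sc U α b c) : c ≠ 0 := by
  rintro rfl
  obtain ⟨u, hu, h2⟩ := h.surj 1
  have := h1 _ (h.rk.conj' hb hu)
  rw [zero_mul, show b * (b⁻¹ * u * b) * b⁻¹ = u by group, h2] at this
  exact one_ne_zero this

theorem sc_inv {b : G} {c : F} (hb : b ∈ B) (h1 : Sc U α b c) : Sc U α b⁻¹ c⁻¹ := fun u hu => by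
  have := h1 _ (h.rk.conj' hb hu)
  rw [show b * (b⁻¹ * u * b) * b⁻¹ = u by group] at this
  rw [this, inv_inv, inv_mul_cancel_left₀ (h.sc_ne hb h1)]

theorem sc_uniq {b : G} {c c' : F} (h1 : Sc U α b c) (h2 : Sc U α b c') : c = c' := by
  obtain ⟨u, hu, h3⟩ := h.surj 1
  simpa [h3] using (h1 u hu).symm.trans (h2 u hu)

theorem comm {b y : G} {c : F} (hb : b ∈ B) (hy : y ∈ U) (h1 : Sc U α b c) :
    b⁻¹ * (y⁻¹ * b * y) ∈ U ∧ α (b⁻¹ * (y⁻¹ * b * y)) = (c⁻¹ + 1) * α y := by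
  have e : b⁻¹ * (y⁻¹ * b * y) = b⁻¹ * y⁻¹ * b⁻¹⁻¹ * y := by group
  have h2 := h.rk.conj _ (inv_mem hb) _ (inv_mem hy)
  rw [e]
  exact ⟨mul_mem h2 hy, by rw [h.add _ h2 _ hy, h.sc_inv hb h1 _ (inv_mem hy), h.inv hy]; ring⟩

theorem le_B [IsSimpleGroup G] (hH : H ≠ ⊤) (hU : U ≤ H) : H ≤ B := by
  intro x hx
  by_contra hxB
  obtain ⟨u, hu, b, hb, rfl⟩ := h.rk.bruhat x hxB
  have h1 : w * b ∈ H := by simpa [mul_assoc] using mul_mem (inv_mem (hU hu)) hx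
  have h2 : U ≤ H.normalCore := fun y hy g => by
    by_cases hg : g ∈ B
    · exact hU (h.rk.conj g hg y hy)
    obtain ⟨u', hu', b', hb', rfl⟩ := h.rk.bruhat g hg
    have := mul_mem (mul_mem (mul_mem (hU hu') h1) (hU (h.rk.conj _ (mul_mem (inv_mem hb) hb') y hy)))
      (inv_mem (mul_mem (hU hu') h1))
    convert this using 1; group
  rcases (inferInstance : H.normalCore.Normal).eq_bot_or_eq_top with e | e
  · exact h.ne_bot (le_bot_iff.1 (e ▸ h2))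
  · exact hH (top_le_iff.1 (e.ge.trans H.normalCore_le))

/-- the homothety identity -/
theorem homo {e u : G} {c : F} (he : e ∈ B) (h1 : Sc U α e c) (c1 : c ≠ 1) (hu : u ∈ U) :
    ∃ v ∈ U, α u = (1 + c) * α v ∧ (v * (e * e) * v⁻¹)⁻¹ * (u * e * u⁻¹ * e) ∈ U ∧
      α ((v * (e * e) * v⁻¹)⁻¹ * (u * e * u⁻¹ * e)) = 0 := by
  have c0 := h.sc_ne he h1
  have c2 : 1 + c ≠ 0 := fun e => c1 (CharTwo.add_eq_zero.1 e).symm
  obtain ⟨v, hv, h2⟩ := h.surj (α u / (1 + c))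
  have e1 : (v * (e * e) * v⁻¹)⁻¹ * (u * e * u⁻¹ * e) =
      v * (e⁻¹ * (e⁻¹ * (v⁻¹ * u) * e⁻¹⁻¹) * e⁻¹⁻¹) * (e⁻¹ * u⁻¹ * e⁻¹⁻¹) := by group
  have m1 := h.rk.conj _ (inv_mem he) _ (mul_mem (inv_mem hv) hu)
  have m2 := h.rk.conj _ (inv_mem he) _ m1
  have m3 := h.rk.conj _ (inv_mem he) _ (inv_mem hu)
  refine ⟨v, hv, by rw [h2]; field_simp, by rw [e1]; exact mul_mem (mul_mem hv m2) m3, ?_⟩
  rw [e1, h.add _ (mul_mem hv m2) _ m3, h.add _ hv _ m2, h.sc_inv he h1 _ m1, h.sc_inv he h1 _ (inv_mem hu),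
    h.sc_inv he h1 _ (mul_mem (inv_mem hv) hu), h.add _ (inv_mem hv) _ hu, h.inv hv, h.inv hu, h2]
  field_simp
  have h2' : (2 : F) = 0 := CharTwo.two_eq_zero
  linear_combination (α u * (c ^ 2 + c + 1)) * h2'

theorem sq_ne {c : F} (c1 : c ≠ 1) : c * c ≠ 1 := fun e => c1 (by
  have : (c + 1) ^ 2 = 0 := by rw [CharTwo.add_sq, pow_two, e, one_pow, CharTwo.add_self_eq_zero]
  exact CharTwo.add_eq_zero.1 (pow_eq_zero_iff two_ne_zero |>.1 this))

theorem w_norm {e : G} (he : e ∈ torus B w) : w * e * w ∈ zpowers e := by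
  have he' := h.rk.mem_torus.1 he
  have hw : w * e * w ∈ torus B w := h.rk.mem_torus.2 ⟨he'.2, by
    rw [← mul_assoc, ← mul_assoc, h.rk.ww, one_mul, h.rk.xww]; exact he'.1⟩
  obtain ⟨c, hc⟩ := h.sc e he'.1
  obtain ⟨c', hc'⟩ := h.sc _ he'.2
  have pw : ∀ {b : G} {c : F}, b ∈ B → Sc U α b c → ∀ n : ℕ, Sc U α (b ^ n) (c ^ n) := fun hb hc n => by
    induction n with
    | zero => simpa using h.sc_U (one_mem _)
    | succ n ih => rw [pow_succ, pow_succ]; exact h.sc_mul hb ih hc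
  have h1 : e ^ orderOf c = 1 := h.rk.eq_one_of_mem_torus
    (h.ker _ (pow_mem he'.1 _) (by simpa using pw he'.1 hc (orderOf c))) (pow_mem he _)
  have h2 : c' ^ orderOf c = 1 := by
    have h3 := pw he'.2 hc' (orderOf c)
    have : (w * e * w) ^ orderOf c = 1 := by
      conv_lhs => rw [show w * e * w = w * e * w⁻¹ by rw [h.rk.winv]]
      rw [conj_pow, h1]; group
    rw [this] at h3
    exact h.sc_uniq h3 (h.sc_U (one_mem _))
  have : NeZero (orderOf c) := ⟨(orderOf_pos (Units.mk0 c (h.sc_ne he'.1 hc))).ne' ∘ fun e => by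
    rw [← orderOf_units]; exact e⟩
  obtain ⟨i, -, hi⟩ := (IsPrimitiveRoot.orderOf c).eq_pow_of_pow_eq_one h2
  have h4 := h.sc_mul he'.2 (h.sc_inv (pow_mem he'.1 i) (pw he'.1 hc i)) hc'
  rw [hi, inv_mul_cancel₀ (h.sc_ne he'.2 hc')] at h4
  have m := mul_mem (inv_mem (pow_mem he i)) hw
  have := h.rk.eq_one_of_mem_torus (h.ker _ (h.rk.mem_torus.1 m).1 h4) m
  rw [inv_mul_eq_one] at this
  exact this ▸ pow_mem (mem_zpowers e) i

theorem thmA [IsSimpleGroup G] (hi : ∀ u ∈ U, α u = 0 → u = 1) (hT : Tri H) (hH : H ≠ ⊤) (hU : U ≤ H) : H = U := by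
  have hB := h.le_B hH hU
  refine le_antisymm (fun x hx => ?_) hU
  by_contra hxU
  obtain ⟨u0, hu0, e, he, rfl⟩ := h.rk.dec (hB hx)
  have heH : e ∈ H := by simpa using mul_mem (inv_mem (hU hu0)) hx
  have heB := (h.rk.mem_torus.1 he).1
  obtain ⟨c, hc⟩ := h.sc e heB
  have c1 : c ≠ 1 := fun e' => hxU (mul_mem hu0 (h.ker e heB (e' ▸ hc)))
  have hE : ∀ d ∈ H ⊓ cn w H, d ∈ torus B w := fun d hd =>
    h.rk.mem_torus.2 ⟨hB hd.1, by have := hB (mem_cn.1 hd.2); rwa [h.rk.winv] at this⟩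
  have frob : ∀ d ∈ torus B w, ∀ y ∈ U, α y ≠ 0 → y⁻¹ * d * y ∈ torus B w → Sc U α d 1 := fun d hd y hy y0 h1 => by
    have hdB := (h.rk.mem_torus.1 hd).1
    obtain ⟨a, ha⟩ := h.sc d hdB
    obtain ⟨m1, m2⟩ := h.comm hdB hy ha
    rw [h.rk.eq_one_of_mem_torus m1 (mul_mem (inv_mem hd) h1), h.one, eq_comm, mul_eq_zero, or_iff_left y0,
      CharTwo.add_eq_zero, inv_eq_one] at m2
    exact m2 ▸ ha
  have heE : e ∈ H ⊓ cn w H := ⟨heH, mem_cn.2 (by
    rw [h.rk.winv]; exact zpowers_le.2 heH (h.w_norm he))⟩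
  obtain ⟨u, hu, u1⟩ := h.surj 1
  obtain ⟨v, hv, h1, h2, h3⟩ := h.homo heB hc c1 hu
  have h4 := inv_mul_eq_one.1 (hi _ h2 h3)
  have v0 : α v ≠ 0 := fun e => by rw [e, u1, mul_zero] at h1; exact one_ne_zero h1
  have fE := (fam_self (H := H)).inf (fam_self.cn w)
  obtain ⟨g, g1, g2, g3⟩ := hT _ _ _ (fE.cn v) (fE.cn u) fE (u * e * u⁻¹ * e)
    (mem_cn.2 (by rw [← h4]; simpa [mul_assoc] using mul_mem heE heE)) (u * e * u⁻¹)
    (mem_cn.2 (by simpa [mul_assoc] using heE)) (by simpa [mul_assoc] using inv_mem heE)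
  have g4 := hE _ (mem_cn.1 g1)
  have h5 := frob _ g4 (v⁻¹ * u) (mul_mem (inv_mem hv) hu) (by
      rw [h.add _ (inv_mem hv) _ hu, h.inv hv, h1, add_mul, one_mul, ← add_assoc, CharTwo.add_self_eq_zero, zero_add]
      exact mul_ne_zero (h.sc_ne heB hc) v0)
    (by simpa [mul_assoc] using hE _ (mem_cn.1 g2))
  have h6 := h.rk.eq_one_of_mem_torus (h.ker _ (h.rk.mem_torus.1 g4).1 h5) g4
  have h7 : g = 1 := by simpa [mul_assoc, inv_mul_eq_one] using h6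
  rw [h7, inv_one, one_mul, ← h4] at g3
  have h8 := frob _ (mul_mem he he) v⁻¹ (inv_mem hv) (by rwa [h.inv hv]) (by rw [inv_inv]; exact hE _ g3)
  exact h.sq_ne c1 (h.sc_uniq (h.sc_mul heB hc hc) h8)

theorem invol_mem {s : G} (hs : s ∈ B) (h2 : s * s = 1) : s ∈ U :=
  h.rk.mem_U_of_pow h.pg h.ne_bot h.nd hs (n := 1) (by rw [pow_one, pow_two, h2])

theorem pigeon (hT : Tri H) (hU : U ≤ H) (hB : H ≤ B) : Nat.card U ≤ Nat.card (torus B w) + 1 := by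
  classical
  have hd : ∀ u : {u : U // u ≠ 1}, ∃ d : torus B w, ∃ u1 ∈ U, ∃ u2 ∈ U, w * u * w = u1 * w * (u2 * d) := fun u => by
    obtain ⟨u1, h1, b, hb, e⟩ := h.rk.bruhat (w * u * w) fun h' => u.2 (Subtype.ext (h.rk.free _ u.1.2 h'))
    obtain ⟨u2, h2, d, hd, rfl⟩ := h.rk.dec hb
    exact ⟨⟨d, hd⟩, u1, h1, u2, h2, e⟩
  choose d u1 h1 u2 h2 he using hd
  let E := H.subgroupOf (torus B w)
  have key : ∀ u u' : {u : U // u ≠ 1}, (d u' : torus B w ⧸ E) = d u → ∃ g : E, (u' : G) = (g : G) * u * (g : G)⁻¹ :=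
    fun u u' e => by
      have e1 : ((d u')⁻¹ * d u : torus B w).1 ∈ H := (QuotientGroup.eq (s := E)).1 e
      have m : (d u' : G)⁻¹ * (u2 u')⁻¹ * u2 u * d u ∈ H := by
        have := mul_mem (hU (h.rk.conj' (h.rk.mem_torus.1 (d u').2).1 (mul_mem (inv_mem (h2 u')) (h2 u)))) e1
        simpa [mul_assoc] using this
      obtain ⟨g, g1, g2, g3⟩ := hT _ _ _ fam_self (fam_self.cn w) (fam_self.cn (u * w)) (u' * (u : G)⁻¹)
        (hU (mul_mem u'.1.2 (inv_mem u.1.2))) (u' * w * ((d u' : G)⁻¹ * (u2 u')⁻¹ * u2 u * d u) * w * (u : G)⁻¹)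
        (mem_cn.2 (by
          have e2 : w⁻¹ * (u' * w * ((d u' : G)⁻¹ * (u2 u')⁻¹ * u2 u * d u) * w * (u : G)⁻¹) * w =
              w * u' * w * ((d u' : G)⁻¹ * (u2 u')⁻¹ * u2 u * d u) * (w * u * w)⁻¹ := by
            rw [mul_inv_rev, mul_inv_rev, h.rk.winv]; group
          rw [e2, he, he]
          simpa [mul_assoc] using hU (mul_mem (h1 u') (inv_mem (h1 u)))))
        (mem_cn.2 (by
          convert m using 1
          rw [mul_inv_rev (u : G) w, h.rk.winv]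
          calc _ = w * w * ((d u' : G)⁻¹ * (u2 u')⁻¹ * u2 u * d u) * (w * w) := by group
            _ = _ := by rw [h.rk.ww]; group))
      have g4 : g ∈ torus B w := mem_torus'.2 ⟨hB g1, hB (mem_cn.1 g2)⟩
      have g5 := mem_torus'.1 g4
      refine ⟨⟨⟨g, g4⟩, g1⟩, ?_⟩
      have m2 : (u : G)⁻¹ * (g⁻¹ * u' * g) ∈ U := mul_mem (inv_mem u.1.2) (h.rk.conj' g5.1 u'.1.2)
      have := h.rk.free _ m2 (by
        have := mul_mem (hB (mem_cn.1 g3)) g5.2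
        rw [mul_inv_rev, h.rk.winv] at this
        convert this using 1
        calc _ = w * (u : G)⁻¹ * g⁻¹ * u' * (w * w) * g * w := by rw [h.rk.ww]; group
          _ = _ := by group)
      change (u' : G) = g * u * g⁻¹
      rw [inv_mul_eq_one.1 this]; group
  let r : (torus B w ⧸ E) → Option {u : U // u ≠ 1} := fun x => if hx : ∃ u, (d u : torus B w ⧸ E) = x then some hx.choose else none
  have hf : ∀ u : {u : U // u ≠ 1}, ∃ g : E, ∃ u0, r (d u) = some u0 ∧ (u : G) = (g : G) * u0 * (g : G)⁻¹ := fun u => by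
    have hx : ∃ u', (d u' : torus B w ⧸ E) = d u := ⟨u, rfl⟩
    obtain ⟨g, hg⟩ := key hx.choose u hx.choose_spec.symm
    exact ⟨g, _, dif_pos hx, hg⟩
  choose g u0 hr hg using hf
  have := Nat.card_le_card_of_injective (fun u => ((d u : torus B w ⧸ E), g u)) fun u u' e => by
    obtain ⟨e1, e2⟩ := Prod.ext_iff.1 e
    have e3 : u0 u = u0 u' := Option.some_injective _ (by rw [← hr, ← hr]; exact congrArg r e1)
    exact Subtype.ext (Subtype.ext (by rw [hg u, hg u', e3]; exact congrArg (fun x : E => (x : G) * _ * (x : G)⁻¹) e2))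
  rw [Nat.card_prod, ← card_eq_card_quotient_mul_card_subgroup] at this
  have h3 := Set.ncard_add_ncard_compl ({1} : Set U)
  rw [Set.ncard_singleton, ← Nat.card_coe_set_eq] at h3
  have h4 : Nat.card {u : U // u ≠ 1} = Nat.card ({1}ᶜ : Set U) := rfl
  omega

/-- the coordinates of `X ∩ U` -/
def co (X : Subgroup G) : AddSubgroup F where
  carrier := {a | ∃ u ∈ X, u ∈ U ∧ α u = a}
  zero_mem' := ⟨1, one_mem _, one_mem _, h.one⟩
  add_mem' := by
    rintro _ _ ⟨u, h1, h2, rfl⟩ ⟨v, h3, h4, rfl⟩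
    exact ⟨u * v, mul_mem h1 h3, mul_mem h2 h4, h.add _ h2 _ h4⟩
  neg_mem' := by
    intro a ha
    rwa [CharTwo.neg_eq]

theorem mem_co {X : Subgroup G} (hZ : ∀ z ∈ U, α z = 0 → z ∈ X) {u : G} (hu : u ∈ U) : α u ∈ h.co X ↔ u ∈ X := by
  refine ⟨?_, fun h1 => ⟨u, h1, hu, rfl⟩⟩
  rintro ⟨v, h1, h2, h3⟩
  simpa using mul_mem h1 (hZ _ (mul_mem (inv_mem h2) hu) (by
    rw [h.add _ (inv_mem h2) _ hu, h.inv h2, h3, CharTwo.add_self_eq_zero]))

theorem co_mul {X : Subgroup G} {b : G} {c a : F} (hb : b ∈ B) (hX : b ∈ X) (hc : Sc U α b c) (ha : a ∈ h.co X) :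
    c * a ∈ h.co X := by
  obtain ⟨u, h1, h2, rfl⟩ := ha
  exact ⟨_, mul_mem (mul_mem hX h1) (inv_mem hX), h.rk.conj b hb u h2, hc u h2⟩

omit h in
theorem cancel {A : AddSubgroup F} {c a : F} (c0 : c ≠ 0) (hc : ∀ a ∈ A, c * a ∈ A) (ha : c * a ∈ A) : a ∈ A := by
  have : Function.Surjective (fun a : A => (⟨c * a, hc a a.2⟩ : A)) := Finite.surjective_of_injective fun a b e =>
    Subtype.ext (mul_left_cancel₀ c0 (congrArg Subtype.val e))
  obtain ⟨b, hb⟩ := this ⟨_, ha⟩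
  exact mul_left_cancel₀ c0 (congrArg Subtype.val hb) ▸ b.2

theorem frob (hZ : ∀ z ∈ U, α z = 0 → z ∈ H) {b y : G} (hb : b ∈ B) (hbH : b ∈ H) (hy : y ∈ U) (hyH : y ∉ H)
    (h1 : y⁻¹ * b * y ∈ H) : b ∈ U := by
  obtain ⟨c, hc⟩ := h.sc b hb
  obtain ⟨m1, m2⟩ := h.comm hb hy hc
  by_contra hbU
  have c1 : c⁻¹ + 1 ≠ 0 := fun e => hbU (h.ker b hb (by
    rw [CharTwo.add_eq_zero, inv_eq_one] at e; exact e ▸ hc))
  refine hyH ((h.mem_co hZ hy).1 (cancel c1 (fun a ha => ?_) ?_))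
  · rw [add_mul, one_mul]
    exact add_mem (h.co_mul (inv_mem hb) (inv_mem hbH) (h.sc_inv hb hc) ha) ha
  · rw [← m2]; exact (h.mem_co hZ m1).2 (mul_mem (inv_mem hbH) h1)

end Dat

namespace Dat2
variable (h : Dat2 B U w α)
include h

theorem le_B {P : Subgroup G} (hZ : ∀ z ∈ U, α z = 0 → z ∈ P) (hP : ∀ b ∈ P, b ∈ B → b ∈ U) : P ≤ B := by
  intro p hp
  by_contra hpB
  obtain ⟨s, hs, t, ht, s1, t1, st, s0, t0⟩ := h.two
  have s2 := (h.sq s hs).2 s0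
  have t2 := (h.sq t ht).2 t0
  have p2 : p * s * p⁻¹ * (p * s * p⁻¹) = 1 := by rw [conj_mul, s2]; group
  have mP : p * s * p⁻¹ ∈ P := mul_mem (mul_mem hp (hZ s hs s0)) (inv_mem hp)
  rcases Nat.even_or_odd (orderOf (p * s * p⁻¹ * t)) with ho | ho
  · have hu := H08.half_pow_invol ho
    have h1 := h.rk.mem_B_of_comm ht t1 (H08.commute_half_pow_right p2 t2 ho).eq
    exact hpB (h.rk.mem_B_of_conj hs s1 (h.rk.mem_B_of_comm (h.toDat.invol_mem h1 (BC.mul_self hu)) (BC.ne_one hu)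
      (H08.commute_half_pow_left p2 t2 ho).symm.eq))
  · obtain ⟨k, hk⟩ := H08.exists_conj_of_odd_orderOf_mul p2 t2 ho
    have h1 : (p * s * p⁻¹ * t) ^ k * p * s * ((p * s * p⁻¹ * t) ^ k * p)⁻¹ = t := Eq.trans (by group) hk
    have h2 := hP _ (mul_mem (zpow_mem (mul_mem mP (hZ t ht t0)) k) hp)
      (h.rk.mem_B_of_conj hs s1 (by rw [h1]; exact h.rk.le ht))
    rw [← (h.cen s hs).2 s0 _ h2, mul_inv_cancel_right] at h1
    exact st h1

theorem cn_Z {X : Subgroup G} (hZ : ∀ z ∈ U, α z = 0 → z ∈ X) {b : G} (hb : b ∈ B) :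
    ∀ z ∈ U, α z = 0 → z ∈ cn b X := fun z hz z0 => by
  obtain ⟨c, hc⟩ := h.sc _ (inv_mem hb)
  have := hc z hz
  rw [inv_inv, z0, mul_zero] at this
  exact mem_cn.2 (hZ _ (h.rk.conj' hb hz) this)

theorem thmB [IsSimpleGroup G] (hT : Tri H) (hH : H ≠ ⊤) (hZ : ∀ z ∈ U, α z = 0 → z ∈ H) {x : G} (hx : x ∈ H) :
    x ∈ U ∧ α x = 0 := by
  have hU : ¬ U ≤ H := fun hU => by
    have := h.toDat.pigeon hT hU (h.toDat.le_B hH hU)
    have := h.big
    omega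
  obtain ⟨u, hu, huH⟩ := SetLike.not_le_iff_exists.1 hU
  have hBU : ∀ e ∈ H, e ∈ B → e ∈ U := fun e heH heB => by
    by_contra heU
    obtain ⟨c, hc⟩ := h.sc e heB
    have c1 : c ≠ 1 := fun e' => heU (h.ker e heB (e' ▸ hc))
    obtain ⟨v, hv, h1, h2, h3⟩ := h.toDat.homo heB hc c1 hu
    have hvH : v ∉ H := fun hvH => huH ((h.toDat.mem_co hZ hu).1 (by
      rw [h1, add_mul, one_mul]
      exact add_mem ((h.toDat.mem_co hZ hv).2 hvH) (h.toDat.co_mul heB heH hc ((h.toDat.mem_co hZ hv).2 hvH))))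
    have hy := mul_mem (inv_mem hv) hu
    have hyH : v⁻¹ * u ∉ H := fun hyH => hvH ((h.toDat.mem_co hZ hv).1 (by
      have := h.toDat.co_mul (inv_mem heB) (inv_mem heH) (h.toDat.sc_inv heB hc) ((h.toDat.mem_co hZ hy).2 hyH)
      rwa [h.add _ (inv_mem hv) _ hu, h.toDat.inv hv, h1, add_mul, one_mul, ← add_assoc, CharTwo.add_self_eq_zero,
        zero_add, inv_mul_cancel_left₀ (h.toDat.sc_ne heB hc)] at this))
    have hx1 : u * e * u⁻¹ * e ∈ cn v H := by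
      have := mul_mem (mem_cn.2 (by simpa [mul_assoc] using mul_mem heH heH) : v * (e * e) * v⁻¹ ∈ cn v H)
        (h.cn_Z hZ (h.rk.le hv) _ h2 h3)
      rwa [mul_inv_cancel_left] at this
    obtain ⟨g, g1, g2, g3⟩ := hT _ _ _ (fam_self.cn v) (fam_self.cn u) fam_self (u * e * u⁻¹ * e) hx1 (u * e * u⁻¹)
      (mem_cn.2 (by simpa [mul_assoc] using heH)) (by simpa [mul_assoc] using inv_mem heH)
    have hP : ∀ b ∈ cn v H ⊓ cn u H, b ∈ B → b ∈ U := fun b hb hbB => by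
      have := h.toDat.frob hZ (mul_mem (mul_mem (inv_mem (h.rk.le hv)) hbB) (h.rk.le hv)) (mem_cn.1 hb.1) hy hyH
        (by simpa [mul_assoc] using mem_cn.1 hb.2)
      simpa [mul_assoc] using mul_mem (mul_mem hv this) (inv_mem hv)
    have g4 := hP g ⟨g1, g2⟩ (h.le_B (P := cn v H ⊓ cn u H)
      (fun z hz z0 => ⟨h.cn_Z hZ (h.rk.le hv) z hz z0, h.cn_Z hZ (h.rk.le hu) z hz z0⟩) hP ⟨g1, g2⟩)
    have g5 : g ∈ H := (h.toDat.mem_co hZ g4).1 (by
      have := (h.toDat.mem_co hZ (h.rk.conj' (h.rk.le hv) g4)).2 (mem_cn.1 g1)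
      have h4 := h.toDat.sc_U (inv_mem hv) g g4
      rw [inv_inv, one_mul] at h4
      rwa [h4] at this)
    have m : u * e * u⁻¹ * e ∈ B := mul_mem (mul_mem (mul_mem (h.rk.le hu) heB) (inv_mem (h.rk.le hu))) heB
    have h5 := h.toDat.frob hZ m (by simpa using mul_mem g5 g3) hv hvH (mem_cn.1 hx1)
    have h6 := h.toDat.sc_mul heB (h.toDat.sc_mul (inv_mem (h.rk.le hu)) (h.toDat.sc_mul heB (h.toDat.sc_U hu) hc)
      (h.toDat.sc_U (inv_mem hu))) hc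
    rw [one_mul, mul_one] at h6
    exact h.toDat.sq_ne c1 (h.toDat.sc_uniq h6 (h.toDat.sc_U h5))
  have hHU : H ≤ U := fun y hy => hBU y hy (h.le_B hZ hBU hy)
  refine ⟨hHU hx, ?_⟩
  by_contra x0
  obtain ⟨M, ⟨M1, M2, M3, m, hm, m0⟩, hmin⟩ := exists_minimal_of_wellFoundedLT
    (fun X : Subgroup G => Fam H X ∧ X ≤ H ∧ (∀ z ∈ U, α z = 0 → z ∈ X) ∧ ∃ x ∈ X, α x ≠ 0)
    ⟨H, fam_self, le_rfl, hZ, x, hx, x0⟩
  have MU := M2.trans hHU
  let K : Subring F :=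
    { carrier := {c | ∀ a ∈ h.toDat.co M, c * a ∈ h.toDat.co M}
      mul_mem' := fun hc hd a ha => by rw [mul_assoc]; exact hc _ (hd a ha)
      one_mem' := fun a ha => by rwa [one_mul]
      add_mem' := fun hc hd a ha => by rw [add_mul]; exact add_mem (hc a ha) (hd a ha)
      zero_mem' := fun a _ => by rw [zero_mul]; exact zero_mem _
      neg_mem' := fun hc a ha => by rw [neg_mul]; exact neg_mem (hc a ha) }
  have hmc := (h.toDat.mem_co M3 (MU hm)).2 hm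
  obtain ⟨b, hb, b', hb', c, c', h1, h2, h3, h4, h5, h6⟩ := h.gen K fun e => huH (M2 ((h.toDat.mem_co M3 hu).1 (by
    have := (e ▸ Subring.mem_top (α u / α m) : α u / α m ∈ K) _ hmc
    rwa [div_mul_cancel₀ _ m0] at this)))
  have triv : ∀ {b : G} {c : F}, b ∈ B → Sc U α b c → c ∉ K → ∀ y ∈ M, y ∈ cn b M → α y = 0 :=
    fun {b c} hb hc hK y y1 y2 => by
      by_contra y0
      have := hmin (y := M ⊓ cn b M) ⟨M1.inf (M1.cn b), inf_le_left.trans M2,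
        fun z hz z0 => ⟨M3 z hz z0, h.cn_Z M3 hb z hz z0⟩, y, ⟨y1, y2⟩, y0⟩ inf_le_left
      refine hK fun a ha => Dat.cancel (c := c⁻¹) (inv_ne_zero (h.toDat.sc_ne hb hc)) ?_
        (by rwa [inv_mul_cancel_left₀ (h.toDat.sc_ne hb hc)])
      rintro _ ⟨z, z1, z2, rfl⟩
      exact ⟨_, mem_cn.1 (this z1).2, h.rk.conj' hb z2, by simpa using h.toDat.sc_inv hb hc z z2⟩
  obtain ⟨y, y1, y2, y3⟩ := h5 _ hmc
  have m1 := h.rk.conj b hb m (MU hm)
  have m2 := mul_mem (inv_mem y2) m1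
  obtain ⟨g, g1, g2, g3⟩ := hT _ _ _ M1 (M1.cn b) (M1.cn b') y y1 (b * m * b⁻¹)
    (mem_cn.2 (by simpa [mul_assoc] using hm)) (mem_cn.2 ((h.toDat.mem_co M3 (h.rk.conj' hb' m2)).1 (by
      have := h.toDat.sc_inv hb' h2 _ m2
      rw [inv_inv] at this
      rw [this, h.add _ (inv_mem y2) _ m1, h.toDat.inv y2, y3, h1 m (MU hm), add_mul, add_right_comm,
        CharTwo.add_self_eq_zero, zero_add, inv_mul_cancel_left₀ (h.toDat.sc_ne hb' h2)]
      exact hmc)))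
  have e1 := triv hb h1 h3 g g1 g2
  have e2 := triv hb' h2 h4 _ (mul_mem (inv_mem g1) y1) g3
  rw [h.add _ (inv_mem (MU g1)) _ y2, h.toDat.inv (MU g1), e1, zero_add, y3] at e2
  exact mul_ne_zero h6 m0 e2

end Dat2

end H17.Bin
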