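import Mathlib
import Cfsg.Agent.H17.Bin2
import Cfsg.Agent.H17.PGU
import Cfsg.Agent.H12.Sz4

/-!
# Binary actions: the models `SL₂(2^a)`, `Sz(q)`, `PSU₃(2^a)` and the theorem `main`
-/

set_option autoImplicit false
set_option linter.unusedSectionVars false

open Cfsg H18 Subgroup Matrix MatrixGroups

namespace H17.Bin

theorem gen_one {F : Type*} [Field F] [CharP F 2] {K : Subring F} {ρ : F} (h : ρ ∉ K) :
    ρ ≠ 0 ∧ 1 + ρ ≠ 0 ∧ 1 + ρ ∉ K ∧ ρ + (1 + ρ) ∈ K ∧ ρ + (1 + ρ) ≠ 0 := by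
  have e : ρ + (1 + ρ) = 1 := by rw [add_comm 1, ← add_assoc, CharTwo.add_self_eq_zero, zero_add]
  refine ⟨fun e => h (e ▸ zero_mem _), fun e => h (CharTwo.add_eq_zero.1 e ▸ one_mem _), fun h' => h ?_,
    e.symm ▸ one_mem _, e.symm ▸ one_ne_zero⟩
  simpa using sub_mem h' (one_mem K)

theorem dat_sl2 (F : Type*) [Field F] [Finite F] [CharP F 2] :
    Dat (S2.B F) (S2.uu (F := F)).range S2.ww (fun g => g.1 0 1) where
  rk := S2.rk
  pg := by
    rintro ⟨_, x, rfl⟩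
    refine ⟨1, Subtype.ext ?_⟩
    change S2.uu x ^ 2 ^ 1 = 1
    rw [← map_pow, pow_one, pow_two, show x * x = 1 from CharTwo.add_self_eq_zero x.toAdd, map_one]
  nd h := by
    have := Fact.mk Nat.prime_two
    obtain ⟨⟨d, hd⟩, ho⟩ := exists_prime_orderOf_dvd_card' 2 h
    rw [← orderOf_coe] at ho
    have h2 := BC.mul_self ho
    obtain ⟨h3, h4⟩ := S2.rk.mem_torus.1 hd
    have h5 : d.1 0 1 = 0 := by simpa [S2.mem_B, S2.ww_val, Matrix.mul_apply, Fin.sum_univ_two, vecMul, dotProduct] using h4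
    have h6 := congrArg (fun g : SL(2, F) => g.1 0 0) h2
    have h7 := congrArg (fun g : SL(2, F) => g.1 1 1) h2
    simp [Matrix.mul_apply, Fin.sum_univ_two, h5, mul_self_eq_one_iff, CharTwo.neg_eq] at h6 h7
    refine BC.ne_one ho ?_
    ext i j
    fin_cases i <;> fin_cases j <;> simp [h5, h6, h7, S2.mem_B.1 h3]
  add := by
    rintro _ ⟨x, rfl⟩ _ ⟨y, rfl⟩
    rw [← map_mul]; rfl
  surj a := ⟨_, ⟨.ofAdd a, rfl⟩, rfl⟩
  sc b hb := ⟨b.1 0 0 * b.1 0 0, by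
    rintro _ ⟨x, rfl⟩
    simp [S2.uu_val, Matrix.mul_apply, Fin.sum_univ_two, SpecialLinearGroup.coe_inv, adjugate_fin_two, vecMul,
      dotProduct]
    ring⟩
  ker b hb h := by
    have h1 := h _ ⟨.ofAdd 1, rfl⟩
    have hd := b.2
    rw [det_fin_two, S2.mem_B.1 hb] at hd
    simp [S2.uu_val, Matrix.mul_apply, Fin.sum_univ_two, SpecialLinearGroup.coe_inv, adjugate_fin_two, vecMul,
      dotProduct] at h1
    have h2 : b.1 0 0 = 1 := by
      have : b.1 0 0 * b.1 0 0 = 1 := by linear_combination h1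
      simpa [mul_self_eq_one_iff, CharTwo.neg_eq] using this
    refine ⟨.ofAdd (b.1 0 1), ?_⟩
    ext i j
    fin_cases i <;> fin_cases j <;> simp [S2.uu_val, h2, S2.mem_B.1 hb]
    simpa [h2] using hd.symm

theorem inj_sl2 (F : Type*) [Field F] [CharP F 2] :
    ∀ u ∈ (S2.uu (F := F)).range, (fun g : SL(2, F) => g.1 0 1) u = 0 → u = 1 := by
  rintro _ ⟨x, rfl⟩ h
  rw [show x = 1 from h, map_one]

section sz
open H12.Sz
variable {F : Type*} [Field F] [Fintype F] {m : ℕ} [hS : SzF F m]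

/-- the coordinate on the Suzuki group -/
noncomputable def aS (g : H12.Sz.G F m) : F := (Function.invFun (fun p : F × F => (uu p.1 p.2 : H12.Sz.G F m)) g).1

theorem aS_uu (a b : F) : aS (uu a b : H12.Sz.G F m) = a :=
  congrArg Prod.fst (Function.leftInverse_invFun (f := fun p : F × F => (uu p.1 p.2 : H12.Sz.G F m))
    (fun _ _ e => Prod.ext (uu_inj.1 e).1 (uu_inj.1 e).2) (a, b))

theorem sc_sz (a b : F) (k : Fˣ) : Sc (U F m) aS (uu a b * hh k) (th (k : F)) := fun u hu => by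
  obtain ⟨c, d, rfl⟩ := mem_U.1 hu
  rw [show uu a b * hh k * uu c d * (uu a b * hh k)⁻¹ = uu a b * (hh k * uu c d * (hh k)⁻¹) * (uu a b : H12.Sz.G F m)⁻¹ by
    group, hh_conj, uu_inv, uu_mul, uu_mul, aS_uu, aS_uu, add_right_comm, CharTwo.add_self_eq_zero, zero_add]

theorem card_torus_sz : Nat.card (torus (B F m) ww) = Fintype.card F - 1 := by
  have := (sz_rk (F := F) (m := m)).card_B
  rw [card_B, card_U] at this
  exact (Nat.eq_of_mul_eq_mul_left (by positivity) this).symm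

theorem dat_sz : Dat2 (B F m) (U F m) ww aS where
  rk := sz_rk
  pg := (sylowU F m).isPGroup'
  nd h := by
    rw [card_torus_sz] at h
    exact absurd (Nat.eq_one_of_dvd_coprimes (cop_two_pow (F := F) 1) dvd_rfl h) (by norm_num)
  add u hu v hv := by
    obtain ⟨a, b, rfl⟩ := mem_U.1 hu
    obtain ⟨c, d, rfl⟩ := mem_U.1 hv
    rw [uu_mul, aS_uu, aS_uu, aS_uu]
  surj a := ⟨_, uu_mem_U a 0, aS_uu _ _⟩
  sc b hb := by
    obtain ⟨x, y, k, rfl⟩ := mem_B'.1 hb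
    exact ⟨_, sc_sz x y k⟩
  ker b hb h := by
    obtain ⟨x, y, k, rfl⟩ := mem_B'.1 hb
    have := (h _ (uu_mem_U 1 0)).symm.trans (sc_sz x y k _ (uu_mem_U 1 0))
    rw [aS_uu, mul_one, mul_one, ← map_one th] at this
    rw [show k = 1 from Units.ext (th_inj this).symm, hh_one, mul_one]
    exact uu_mem_U _ _
  sq u hu := by
    obtain ⟨a, b, rfl⟩ := mem_U.1 hu
    rw [uu_sq, uu_eq_one, aS_uu]
    simp [th_eq_zero]
  cen u hu := by
    obtain ⟨a, b, rfl⟩ := mem_U.1 hu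
    rw [aS_uu]
    refine ⟨fun h => ?_, fun h v hv => ?_⟩
    · by_contra a0
      obtain ⟨c, c0, c1⟩ := exists_ne (F := F)
      rcases th_add_eq_zero a0 (uu_commute.1 (h _ (uu_mem_U (a * c) 0))) with e | e
      · exact mul_ne_zero a0 c0 e
      · exact c1 (mul_left_cancel₀ a0 (e.trans (mul_one a).symm))
    · obtain ⟨c, d, rfl⟩ := mem_U.1 hv
      rw [h, uu_comm_Z]
  big := by
    rw [card_torus_sz, card_U]
    have := card_ge (F := F)
    have h2 : Fintype.card F - 1 + 1 = Fintype.card F := by omega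
    rw [h2]; nlinarith
  two := by
    obtain ⟨c, c0, c1⟩ := exists_ne (F := F)
    exact ⟨_, uu_mem_U 0 1, _, uu_mem_U 0 c, by simp [uu_eq_one], by simp [uu_eq_one, c0], by simp [uu_inj, c1.symm],
      aS_uu _ _, aS_uu _ _⟩
  gen K hK := by
    obtain ⟨ρ, hρ⟩ : ∃ ρ, ρ ∉ K := by
      by_contra! h; exact hK (eq_top_iff.2 fun x _ => h x)
    obtain ⟨h1, h2, h3, h4, h5⟩ := gen_one hρ
    obtain ⟨k, hk⟩ := th_surj ρ
    obtain ⟨l, hl⟩ := th_surj (1 + ρ)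
    have k0 : k ≠ 0 := fun e => h1 (by rw [← hk, e, map_zero])
    have l0 : l ≠ 0 := fun e => h2 (by rw [← hl, e, map_zero])
    exact ⟨_, mem_B'.2 ⟨0, 0, Units.mk0 k k0, rfl⟩, _, mem_B'.2 ⟨0, 0, Units.mk0 l l0, rfl⟩, ρ, 1 + ρ,
      hk ▸ sc_sz 0 0 (Units.mk0 k k0), hl ▸ sc_sz 0 0 (Units.mk0 l l0), hρ, h3, h4, h5⟩

end sz

section su
open H18.U3 PGU
variable {F : Type*} [Field F] [Fintype F] {q : ℕ} [hU : UF F q] [CharP F 2]

/-- the coordinate on the unitary group -/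
noncomputable def aU (g : PSU 3 F q) : F := (Function.invFun (ub : Q F q → PSU 3 F q) g).a

theorem aU_ub (x : Q F q) : aU (ub x) = x.a := congrArg Q.a (Function.leftInverse_invFun ub_inj x)

theorem sc_su (x : Q F q) (k : Fˣ) : Sc ((U F q).map toP) aU (ub x * hb k) (lam k) := fun u hu => by
  obtain ⟨y, rfl⟩ := mem_Ub.1 hu
  rw [show ub x * hb k * ub y * (ub x * hb k)⁻¹ = ub x * (hb k * ub y * (hb k)⁻¹) * (ub x)⁻¹ by group, hb_conj,
    ← map_inv, ← map_mul, ← map_mul, aU_ub, aU_ub]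
  simp [Q.mul_a, Q.inv_a, Q.scale_a]

theorem dat_su (hq : 2 < q) : Dat2 ((B F q).map toP) ((U F q).map toP) (toP ww) aU where
  rk := rkP
  pg := isPGroup_UP
  nd := not_dvd_torusP
  add u hu v hv := by
    obtain ⟨a, rfl⟩ := mem_Ub.1 hu
    obtain ⟨c, rfl⟩ := mem_Ub.1 hv
    rw [← map_mul, aU_ub, aU_ub, aU_ub, Q.mul_a]
  surj a := by
    obtain ⟨x, rfl⟩ := Q.exists_a (q := q) a
    exact ⟨_, mem_Ub.2 ⟨x, rfl⟩, aU_ub _⟩
  sc b hb := by
    obtain ⟨x, k, rfl⟩ := mem_Bb.1 hb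
    exact ⟨_, sc_su x k⟩
  ker b hb' h := by
    obtain ⟨x, k, rfl⟩ := mem_Bb.1 hb'
    obtain ⟨y, hy⟩ := Q.exists_a (q := q) (1 : F)
    have := (h _ (mem_Ub.2 ⟨y, rfl⟩)).symm.trans (sc_su x k _ (mem_Ub.2 ⟨y, rfl⟩))
    rw [aU_ub, hy, mul_one, mul_one] at this
    have h1 : hb k = (1 : PSU 3 F q) := by
      change hh k ∈ (toP : U3.G F q →* _).ker
      rw [ker_toP]
      exact U3.mem_center.2 ⟨k, Units.ext this.symm, rfl⟩
    rw [h1, mul_one]
    exact mem_Ub.2 ⟨x, rfl⟩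
  sq u hu := by
    obtain ⟨a, rfl⟩ := mem_Ub.1 hu
    rw [← map_mul, map_eq_one_iff _ ub_inj, aU_ub, Q.sq_eq_one]
  cen u hu := by
    obtain ⟨a, rfl⟩ := mem_Ub.1 hu
    rw [aU_ub, ← Q.mem_center, mem_center_iff]
    refine ⟨fun h y => ub_inj (by rw [map_mul, map_mul, h _ (mem_Ub.2 ⟨y, rfl⟩)]), fun h v hv => ?_⟩
    obtain ⟨c, rfl⟩ := mem_Ub.1 hv
    rw [← map_mul, ← map_mul, h]
  big := by
    rw [torusP, card_UP]
    have h1 : 4 ≤ q ^ 2 := by nlinarith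
    have := Nat.le_of_dvd (by omega) (card_HP_dvd (F := F) (q := q))
    have h2 : q ^ 2 < q ^ 3 := Nat.pow_lt_pow_right (by omega) (by norm_num)
    omega
  two := by
    obtain ⟨x, y, h1, h2, h3, h4, h5, -⟩ := U3.exists_four (F := F) (q := q) hq
    exact ⟨_, mem_Ub.2 ⟨x, rfl⟩, _, mem_Ub.2 ⟨y, rfl⟩, by rwa [Ne, map_eq_one_iff _ ub_inj],
      by rwa [Ne, map_eq_one_iff _ ub_inj], ub_inj.ne h3, by rw [aU_ub, ← Q.sq_eq_one, h4],
      by rw [aU_ub, ← Q.sq_eq_one, h5]⟩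
  gen K hK := by
    have mB : ∀ k : Fˣ, ub 1 * hb k ∈ (B F q).map toP := fun k => mem_Bb.2 ⟨1, k, rfl⟩
    by_cases h : ∃ ρ, bar ρ = ρ ∧ ρ ∉ K
    · obtain ⟨ρ, hb', hρ⟩ := h
      obtain ⟨h1, h2, h3, h4, h5⟩ := gen_one hρ
      have hl : ∀ (x : F) (x0 : x ≠ 0), bar x = x → (lam (Units.mk0 x x0) : F) = x := fun x x0 e => by
        simp [lam, e]; field_simp
      exact ⟨_, mB (Units.mk0 _ h1), _, mB (Units.mk0 _ h2), ρ, 1 + ρ,
        by simpa only [hl _ h1 hb'] using sc_su 1 (Units.mk0 _ h1),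
        by simpa only [hl _ h2 (by simp [hb'])] using sc_su 1 (Units.mk0 _ h2), hρ, h3, h4, h5⟩
    push Not at h
    obtain ⟨k, hk, hk1⟩ := exists_k (F := F) hq
    have n1 : (lam k : F) * bar (lam k : F) = 1 := by rw [lam_norm, hk]
    have n2 : (lam k⁻¹ : F) = bar (lam k : F) := by
      rw [eq_inv_of_mul_eq_one_right n1]; simp [lam, mul_comm]
    have n3 : (lam k : F) + bar (lam k : F) ≠ 0 := fun e => hk1 (Units.ext (by
      rw [← CharTwo.add_eq_zero.1 e] at n1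
      simpa [mul_self_eq_one_iff, CharTwo.neg_eq] using n1))
    have n4 : (lam k : F) + bar (lam k : F) ∈ K := h _ (by simp [bar_bar, add_comm])
    have n5 : (lam k : F) ∉ K := fun hK' => hK (eq_top_iff.2 fun y _ => by
      have e1 : bar ((y + bar y) / (lam k + bar (lam k : F))) = (y + bar y) / (lam k + bar (lam k : F)) := by
        simp [bar_bar, add_comm]
      have e2 : bar (y + (y + bar y) / (lam k + bar (lam k : F)) * lam k) =
          y + (y + bar y) / (lam k + bar (lam k : F)) * lam k := by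
        rw [map_add, map_mul, e1]
        field_simp
        have h2 : (2 : F) = 0 := CharTwo.two_eq_zero
        linear_combination (bar y * bar (lam k : F) - y * lam k) * h2
      simpa using sub_mem (h _ e2) (mul_mem (h _ e1) hK'))
    exact ⟨_, mB k, _, mB k⁻¹, _, _, sc_su 1 k, n2 ▸ sc_su 1 k⁻¹, n5, fun h' => n5 (by simpa using sub_mem n4 h'), n4, n3⟩

end su

section main
variable {G : Type*} [Group G] [Finite G] {F : Type*} [Field F] [Finite F] [CharP F 2]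

theorem Dat.sylow {B U : Subgroup G} {w : G} {α : G → F} (h : Dat B U w α) (S : Sylow 2 G) :
    ∃ g, U.map (MulAut.conj g).toMonoidHom = S := by
  have := Fact.mk Nat.prime_two
  obtain ⟨g, hg⟩ := MulAction.exists_smul_eq G (h.rk.sylow h.pg h.ne_bot h.nd) S
  exact ⟨g, by rw [← hg]; rfl⟩

theorem exA {X : Type*} [Group X] [Finite X] {B U : Subgroup X} {w : X} {α : X → F} (h : Dat B U w α)
    (hi : ∀ u ∈ U, α u = 0 → u = 1) (e : G ≃* X) (S : Sylow 2 G) :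
    ∃ B w, ∃ α : G → F, Dat B S w α ∧ ∀ u ∈ (S : Subgroup G), α u = 0 → u = 1 := by
  obtain ⟨g, hg⟩ := (h.map e.symm).sylow S
  refine ⟨_, _, _, hg ▸ (h.map e.symm).map (MulAut.conj g), ?_⟩
  rw [← hg]
  rintro _ ⟨_, ⟨u, hu, rfl⟩, rfl⟩ h0
  rw [hi u hu (by simpa [mul_assoc] using h0)]; simp

theorem exB {X : Type*} [Group X] [Finite X] {B U : Subgroup X} {w : X} {α : X → F} (h : Dat2 B U w α)
    (e : G ≃* X) (S : Sylow 2 G) : ∃ B w, ∃ α : G → F, Dat2 B S w α := by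
  obtain ⟨g, hg⟩ := (h.map e.symm).toDat.sylow S
  exact ⟨_, _, _, hg ▸ (h.map e.symm).map (MulAut.conj g)⟩

variable {B U H : Subgroup G} {w : G} {α : G → F}

theorem Dat.binA (h : Dat B U w α) (hi : ∀ u ∈ U, α u = 0 → u = 1) : Bin U :=
  bin_of_invol (fun x hx => hi _ (mul_mem hx hx) (by rw [h.add _ hx _ hx, CharTwo.add_self_eq_zero]))
    fun _ hx x1 _ hy hc => h.invol_mem (h.rk.mem_B_of_comm hx x1 hc.symm) hy

theorem Dat2.mem_Z (h : Dat2 B U w α) {x : G} : x ∈ (center U).map U.subtype ↔ x ∈ U ∧ α x = 0 := by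
  constructor
  · rintro ⟨y, hy, rfl⟩
    exact ⟨y.2, (h.cen _ y.2).1 fun v hv => (congrArg Subtype.val (mem_center_iff.1 hy ⟨v, hv⟩)).symm⟩
  · rintro ⟨h1, h2⟩
    exact ⟨⟨x, h1⟩, mem_center_iff.2 fun v => Subtype.ext ((h.cen _ h1).2 h2 _ v.2).symm, rfl⟩

theorem Dat2.binB (h : Dat2 B U w α) : Bin ((center U).map U.subtype) :=
  bin_of_invol (fun x hx => (h.sq x (h.mem_Z.1 hx).1).2 (h.mem_Z.1 hx).2) fun _ hx x1 _ hy hc =>
    have := h.toDat.invol_mem (h.rk.mem_B_of_comm (h.mem_Z.1 hx).1 x1 hc.symm) hy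
    h.mem_Z.2 ⟨this, (h.sq _ this).1 hy⟩

theorem Dat.eqA [IsSimpleGroup G] (h : Dat B U w α) (hi : ∀ u ∈ U, α u = 0 → u = 1) (hT : Tri H) (hH : H ≠ ⊤)
    (hs : ∀ s ∈ normalizer (U : Set G), s * s = 1 → s ∈ H) : H = U :=
  h.thmA hi hT hH fun x hx => hs x (le_normalizer hx)
    (hi _ (mul_mem hx hx) (by rw [h.add _ hx _ hx, CharTwo.add_self_eq_zero]))

theorem Dat2.eqB [IsSimpleGroup G] (h : Dat2 B U w α) (hT : Tri H) (hH : H ≠ ⊤)
    (hs : ∀ s ∈ normalizer (U : Set G), s * s = 1 → s ∈ H) : H = (center U).map U.subtype := by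
  have hZ : ∀ z ∈ U, α z = 0 → z ∈ H := fun z hz z0 => hs z (le_normalizer hz) ((h.sq z hz).2 z0)
  ext x
  rw [h.mem_Z]
  exact ⟨h.thmB hT hH hZ, fun h' => hZ x h'.1 h'.2⟩

end main

theorem not_comm {G : Type*} [Group G] [Finite G] [IsSimpleGroup G] {H : Subgroup G} (hH : H ≠ ⊤)
    (he : Even (Nat.card H)) : ¬ IsMulCommutative G := fun hc => by
  have : H.Normal := ⟨fun n hn g => by rwa [hc.is_comm.comm g n, mul_inv_cancel_right]⟩
  rw [(this.eq_bot_or_eq_top).resolve_right hH] at he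
  simp at he

theorem main {G : Type*} [Group G] [Finite G] [IsSimpleGroup G]
    (hone : ∀ s t : G, orderOf s = 2 → orderOf t = 2 → IsConj s t)
    (H : Subgroup G) (hH : H ≠ ⊤) (heven : Even (Nat.card H)) :
    Bin H ↔
      (((∃ (F : Type) (_ : Field F) (_ : Fintype F) (a : ℕ), 2 ≤ a ∧ Fintype.card F = 2 ^ a ∧ Nonempty (G ≃* SL(2, F))) ∧
          ∃ P : Sylow 2 G, H = P) ∨
        (Cfsg.Lie.IsoSuzuki G ∧ ∃ P : Sylow 2 G, H = (center (P : Subgroup G)).map (P : Subgroup G).subtype) ∨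
        ((∃ (F : Type) (_ : Field F) (_ : Fintype F) (a : ℕ), 2 ≤ a ∧ Fintype.card F = (2 ^ a) ^ 2 ∧
            Nonempty (G ≃* PSU 3 F (2 ^ a))) ∧
          ∃ P : Sylow 2 G, H = (center (P : Subgroup G)).map (P : Subgroup G).subtype)) := by
  constructor
  · intro h
    obtain ⟨M, hM, hs⟩ := se_of_tri h.tri hone hH heven
    obtain ⟨h1, S, rfl⟩ := BC.c1792 H25.BE.bender_core (not_comm hH heven) hM
    rcases h1 with ⟨F, _, _, n, hn, hF, ⟨e⟩⟩ | ⟨F, _, _, m, hm, hF, ⟨e⟩⟩ | ⟨F, _, _, n, hn, hF, ⟨e⟩⟩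
    · have := BC.charP_of_card hn hF
      obtain ⟨e'⟩ := BC.psl_equiv_sl F
      obtain ⟨B, w, α, h1, h2⟩ := exA (dat_sl2 F) (inj_sl2 F) (e.trans e') S
      exact Or.inl ⟨⟨F, inferInstance, inferInstance, n, hn, hF, ⟨e.trans e'⟩⟩, S, h1.eqA h2 h.tri hH hs⟩
    · have : H12.Sz.SzF F m := ⟨hm, hF⟩
      obtain ⟨B, w, α, h1⟩ := exB dat_sz (e.trans H12.Sz.lieEquiv.symm) S
      exact Or.inr (Or.inl ⟨⟨F, inferInstance, inferInstance, m, hm, hF, ⟨e⟩⟩, S, h1.eqB h.tri hH hs⟩)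
    · have : U3.UF F (2 ^ n) := ⟨hF⟩
      have := U3.charTwo (F := F) (n := n)
      obtain ⟨B, w, α, h1⟩ := exB (dat_su (lt_of_lt_of_le (by norm_num) (BC.four_le hn))) e S
      exact Or.inr (Or.inr ⟨⟨F, inferInstance, inferInstance, n, hn, hF, ⟨e⟩⟩, S, h1.eqB h.tri hH hs⟩)
  · rintro (⟨⟨F, _, _, n, hn, hF, ⟨e⟩⟩, S, rfl⟩ | ⟨⟨F, _, _, m, hm, hF, ⟨e⟩⟩, S, rfl⟩ |
      ⟨⟨F, _, _, n, hn, hF, ⟨e⟩⟩, S, rfl⟩)
    · have := BC.charP_of_card hn hF
      obtain ⟨B, w, α, h1, h2⟩ := exA (dat_sl2 F) (inj_sl2 F) e S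
      exact h1.binA h2
    · have : H12.Sz.SzF F m := ⟨hm, hF⟩
      obtain ⟨B, w, α, h1⟩ := exB dat_sz (e.trans H12.Sz.lieEquiv.symm) S
      exact h1.binB
    · have : U3.UF F (2 ^ n) := ⟨hF⟩
      have := U3.charTwo (F := F) (n := n)
      obtain ⟨B, w, α, h1⟩ := exB (dat_su (lt_of_lt_of_le (by norm_num) (BC.four_le hn))) e S
      exact h1.binB

end H17.Bin
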