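import Mathlib
import Cfsg.Agent.H17.Bin3
import Cfsg.Agent.L.PSL2Tr
import Cfsg.Agent.H01.Basic

/-!
# Binary actions of `PSL₂(q)`
-/

set_option autoImplicit false
set_option linter.unusedSectionVars false

open Cfsg H18 Subgroup Matrix MatrixGroups L H09

namespace H17.Bin

theorem comm_of_se {G : Type*} [Group G] [Finite G] [IsSimpleGroup G] (hG : ¬ IsMulCommutative G) {M : Subgroup G}
    (hM : IsStronglyEmbedded M) {t a b : G} (ht : orderOf t = 2) (ha : a * a = 1) (hb : b * b = 1)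
    (h1 : a * t = t * a) (h2 : b * t = t * b) : a * b = b * a := by
  have := Fact.mk Nat.prime_two
  obtain ⟨S, hS⟩ := IsPGroup.exists_le_sylow (P := zpowers t) (IsPGroup.of_card (n := 1)
    (by rw [Nat.card_zpowers, ht, pow_one]))
  have htS := hS (mem_zpowers t)
  have B : ∀ {F : Type} [Field F] [Finite F] [CharP F 2] {B : Subgroup G} {w : G} {α : G → F}, Dat2 B S w α →
      a * b = b * a := fun h =>
    have a1 := h.toDat.invol_mem (h.rk.mem_B_of_comm htS (BC.ne_one ht) h1) ha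
    (h.cen a a1).2 ((h.sq a a1).1 ha) b (h.toDat.invol_mem (h.rk.mem_B_of_comm htS (BC.ne_one ht) h2) hb)
  obtain ⟨h0, -⟩ := BC.c1792 H25.BE.bender_core hG hM
  rcases h0 with ⟨F, _, _, n, hn, hF, ⟨e⟩⟩ | ⟨F, _, _, m, hm, hF, ⟨e⟩⟩ | ⟨F, _, _, n, hn, hF, ⟨e⟩⟩
  · have := BC.charP_of_card hn hF
    obtain ⟨e'⟩ := BC.psl_equiv_sl F
    obtain ⟨B, w, α, h, hi⟩ := exA (dat_sl2 F) (inj_sl2 F) (e.trans e') S
    have a1 := h.invol_mem (h.rk.mem_B_of_comm htS (BC.ne_one ht) h1) ha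
    have b1 := h.invol_mem (h.rk.mem_B_of_comm htS (BC.ne_one ht) h2) hb
    have := hi _ (mul_mem (mul_mem a1 b1) (mul_mem a1 b1)) (by
      rw [h.add _ (mul_mem a1 b1) _ (mul_mem a1 b1), CharTwo.add_self_eq_zero])
    rw [← inv_eq_of_mul_eq_one_right this, _root_.mul_inv_rev, inv_eq_of_mul_eq_one_right ha,
      inv_eq_of_mul_eq_one_right hb]
  · have : H12.Sz.SzF F m := ⟨hm, hF⟩
    obtain ⟨_, w, α, h⟩ := exB dat_sz (e.trans H12.Sz.lieEquiv.symm) S
    exact B h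
  · have : U3.UF F (2 ^ n) := ⟨hF⟩
    have := U3.charTwo (F := F) (n := n)
    obtain ⟨_, w, α, h⟩ := exB (dat_su (lt_of_lt_of_le (by norm_num) (BC.four_le hn))) e S
    exact B h

variable {F : Type*} [Field F] [Fintype F]

/-- the projection to `PSL₂` -/
abbrev pr (s : SL(2, F)) : PSL(2, F) := QuotientGroup.mk s

theorem pr_sq {s : SL(2, F)} (h : (s : M2 F).trace = 0) : pr s * pr s = 1 := by
  rw [← QuotientGroup.mk_mul, sq_eq_neg_one_of_trace h]; exact PSL2.mk_eq_one_iff.2 (Or.inr rfl)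

theorem pr_neg (s : SL(2, F)) : pr (-s) = pr s := PSL2.mk_eq_mk_iff.2 (Or.inr rfl)

theorem trace_zero {s : SL(2, F)} (h : orderOf (pr s) = 2) : (s : M2 F).trace = 0 := by
  have h1 := mk_ne_one_iff.1 (BC.ne_one h)
  have h2 := BC.mul_self h
  rw [← QuotientGroup.mk_mul, PSL2.mk_eq_one_iff, ← SL2_scal_iff, SL2_coe_mul, m2_sq, s.2, sub_eq_add_neg, add_comm,
    ← neg_smul] at h2
  exact (isScal_lin_iff h1 _ _).1 h2

theorem hone {s t : PSL(2, F)} (hs : orderOf s = 2) (ht : orderOf t = 2) : IsConj s t := by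
  obtain ⟨s, rfl⟩ := QuotientGroup.mk_surjective s
  obtain ⟨t, rfl⟩ := QuotientGroup.mk_surjective t
  refine isConj_mk_iff.2 (Or.inl ((isConj_SL_iff (mk_ne_one_iff.1 (BC.ne_one hs)) (mk_ne_one_iff.1 (BC.ne_one ht))
    ?_).2 (by rw [trace_zero hs, trace_zero ht])))
  by_cases h2 : (2 : F) = 0
  · exact Or.inl h2
  · exact Or.inr (trace_sq_ne_of_zero h2 (trace_zero hs))

theorem scal_of_odd {X : Subgroup PSL(2, F)} (ho : Odd (Nat.card X)) {s : SL(2, F)} (hs : pr s ∈ X)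
    (h : (s : M2 F).trace = 0) : IsScal (s : M2 F) := by
  by_contra h1
  have := BC.odd_of_mem_odd ho hs
  rw [BC.ord_two (mk_ne_one_iff.2 h1) (pr_sq h)] at this
  exact absurd this (by decide)

theorem struct {X : Subgroup PSL(2, F)} (ho : Odd (Nat.card X)) (h0 : X ≠ ⊥) :
    (∃ s : SL(2, F), pr s ∈ X ∧ (s : M2 F).trace ^ 2 ≠ 4 ∧ ∀ g, pr g ∈ X → g ∈ centralizer {s}) ∨
      ((2 : F) ≠ 0 ∧ ∃ v : Fin 2 → F, v ≠ 0 ∧ ∀ g : SL(2, F), pr g ∈ X → ∃ c : F, (g : M2 F).mulVec v = c • v) := by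
  have := Cfsg.Agent.S0205.result (G := X) ho
  have : Group.IsSolvable (⊤ : Subgroup X) := inferInstance
  obtain ⟨A, A1, -, A2, A3⟩ := H01.exists_abelian_normal_le (⊤ : Subgroup X) (by
    have := (nontrivial_iff_ne_bot X).2 h0
    exact top_ne_bot)
  obtain ⟨⟨⟨a, aX⟩, aA⟩, a1⟩ := ne_bot_iff_exists_ne_one.1 A2
  obtain ⟨s, rfl⟩ := QuotientGroup.mk_surjective a
  have s1 : ¬ IsScal (s : M2 F) := mk_ne_one_iff.1 fun e => a1 (Subtype.ext (Subtype.ext e))
  have t0 : (s : M2 F).trace ≠ 0 := fun e => s1 (scal_of_odd ho aX e)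
  have hc : ∀ g, pr g ∈ X → g * s * g⁻¹ ∈ centralizer {s} := fun g hg => by
    rw [← comap_centralizer_of_trace (Or.inr t0), mem_comap, mem_centralizer_singleton_iff]
    exact congrArg (fun x : A => ((x : X) : PSL(2, F))) (A3.is_comm.comm ⟨_, A1.conj_mem _ aA ⟨_, hg⟩⟩ ⟨_, aA⟩)
  by_cases h4 : (s : M2 F).trace ^ 2 = 4
  · have h2 : (2 : F) ≠ 0 := fun e => t0 (pow_eq_zero_iff (two_ne_zero) |>.1 (by rw [h4]; linear_combination 2 * e))
    obtain ⟨v, v0, hv⟩ := (exists_eigvec_iff (s : M2 F) ((s : M2 F).trace / 2)).2 (by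
      rw [s.2]; field_simp; linear_combination -h4)
    refine Or.inr ⟨h2, v, v0, fun g hg => ?_⟩
    have hK : (s : M2 F) - ((s : M2 F).trace / 2) • 1 ≠ 0 := fun e => s1 (isScal_iff.2 ⟨_, sub_eq_zero.1 e⟩)
    obtain ⟨x, y, hxy⟩ := (commute_iff s1 _).1 (mem_centralizer_SL.1 (hc g⁻¹ (inv_mem hg)))
    have h5 : ((g⁻¹ * s * g⁻¹⁻¹ : SL(2, F)) : M2 F).mulVec v = (x + y * ((s : M2 F).trace / 2)) • v := by
      rw [hxy, add_mulVec, smul_mulVec, smul_mulVec, one_mulVec, hv, smul_smul, add_smul]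
    have h6 := (exists_eigvec_iff _ _).1 ⟨v, v0, h5⟩
    rw [SL2_trace_conj, SLc.det_SL] at h6
    have h7 : x + y * ((s : M2 F).trace / 2) = (s : M2 F).trace / 2 := by
      have : (x + y * ((s : M2 F).trace / 2) - (s : M2 F).trace / 2) ^ 2 = 0 := by
        generalize x + y * ((s : M2 F).trace / 2) = r at h6
        field_simp
        linear_combination 4 * h6 + h4
      exact sub_eq_zero.1 (pow_eq_zero_iff two_ne_zero |>.1 this)
    rw [h7] at h5
    refine exists_smul_of_ker hK v0 (by rw [sub_mulVec, hv, smul_mulVec, one_mulVec, sub_self]) ?_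
    have h8 := congrArg (g : M2 F).mulVec h5
    rw [mulVec_mulVec, ← SL2_coe_mul, show g * (g⁻¹ * s * g⁻¹⁻¹) = s * g by group, SL2_coe_mul, ← mulVec_mulVec,
      mulVec_smul] at h8
    rw [sub_mulVec, h8, smul_mulVec, one_mulVec, sub_self]
  · refine Or.inl ⟨s, aX, h4, fun g hg => ?_⟩
    rcases eq_or_eq_inv_of_mem h4 (hc g hg) (SL2_trace_conj g s) with e | e
    · exact mem_centralizer_singleton_iff.2 (mul_inv_eq_iff_eq_mul.1 e)
    · exact SLc.mem_center_le_centralizer (scal_of_odd ho hg (trace_eq_zero_of_conj_eq_inv h4 e))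

theorem det_zero {X : Subgroup PSL(2, F)} (ho : Odd (Nat.card X)) {x y : SL(2, F)} (hx : pr x ∈ X) (hy : pr y ∈ X)
    (x1 : pr x ≠ 1) : ((x : M2 F) * y - y * x).det = 0 := by
  rcases struct ho (fun e => x1 (by rwa [e, mem_bot] at hx)) with ⟨s, -, h1, h2⟩ | ⟨-, v, v0, h⟩
  · rw [← SL2_coe_mul, mul_comm_of_mem_centralizer (SLc.not_isScal_of_trace h1) (h2 x hx) (h2 y hy), SL2_coe_mul,
      sub_self, Matrix.det_zero]
  · obtain ⟨a, ha⟩ := h x hx
    obtain ⟨b, hb⟩ := h y hy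
    exact det_comm_eq_zero v0 ha hb

theorem card_cn {G : Type*} [Group G] (g : G) (X : Subgroup G) : Nat.card (cn g X) = Nat.card X := by
  rw [cn, comap_equiv_eq_map_symm']; exact card_map _ _

theorem mem_cn_of {G : Type*} [Group G] {X : Subgroup G} {e x : G} (he : e ∈ X) (h : IsConj e x) :
    ∃ g, x ∈ cn g X := by
  obtain ⟨g, rfl⟩ := isConj_iff.1 h
  exact ⟨g, mem_cn.2 (by simpa [mul_assoc] using he)⟩

theorem conj_un {s : SL(2, F)} (h : (s : M2 F).trace = 2) (c0 : s 1 0 ≠ 0) : IsConj (SLc.un (-1 / s 1 0)) s := by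
  refine (isConj_SL_iff_exists _ _).2 ⟨!![s 1 1 - 1, 1 / s 1 0; -s 1 0, 0], by simp [det_fin_two, c0], ?_⟩
  have hd := SL2_det s
  rw [trace_fin_two] at h
  rw [SLc.coe_un]
  simp only [m2_ext_iff, m2_mul_apply]
  change s 0 0 + s 1 1 = 2 at h
  change s 0 0 * s 1 1 - s 0 1 * s 1 0 = 1 at hd
  simp
  refine ⟨?_, ?_, ?_, ?_⟩
  · linear_combination hd - h
  · field_simp; linear_combination h
  · ring
  · field_simp

theorem odd_ne (h2 : (2 : F) ≠ 0) {H : Subgroup PSL(2, F)} (hT : Tri H) (ho : Odd (Nat.card H)) : H = ⊥ := by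
  by_contra h0
  obtain ⟨E, ⟨E1, E2, E3⟩, hmin⟩ := exists_minimal_of_wellFoundedLT
    (fun X : Subgroup PSL(2, F) => Fam H X ∧ Odd (Nat.card X) ∧ X ≠ ⊥) ⟨H, fam_self, ho, h0⟩
  have ti : ∀ a b, cn a E ⊓ cn b E ≠ ⊥ → cn a E ≤ cn b E := fun a b h => by
    have := hmin (y := E ⊓ cn (a⁻¹ * b) E) ⟨E1.inf (E1.cn _), E2.of_dvd_nat (card_dvd_of_le inf_le_left), fun e => h ?_⟩
      inf_le_left
    · intro x hx
      simpa [mem_cn, mul_assoc] using (this (mem_cn.1 hx)).2
    · rw [eq_bot_iff]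
      intro x hx
      have : a⁻¹ * x * a ∈ E ⊓ cn (a⁻¹ * b) E := ⟨mem_cn.1 hx.1, by simpa [mem_cn, mul_assoc] using hx.2⟩
      rw [e, mem_bot] at this
      simpa [mul_assoc, inv_mul_eq_one] using this
  have key : ∀ x y : SL(2, F), (∃ a, pr x ∈ cn a E) → (∃ a, pr y ∈ cn a E) → (∃ a, pr (x * y) ∈ cn a E) →
      ((x : M2 F) * y - y * x).det = 0 := by
    rintro x y ⟨a, ha⟩ ⟨b, hb⟩ ⟨c, hc⟩
    by_contra hd
    have x1 := mk_ne_one_iff.2 (not_isScal_of_det_comm hd)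
    refine hd (det_zero (X := cn a E) (by rwa [card_cn]) ha ?_ x1)
    by_cases hab : cn b E ⊓ cn a E = ⊥
    · obtain ⟨g, g1, g2, g3⟩ := hT _ _ _ (E1.cn a) (E1.cn b) (E1.cn c) _ (inv_mem ha) _ hb (by rw [inv_inv]; exact hc)
      have : g ∈ cn b E ⊓ cn a E := ⟨g2, g1⟩
      rw [hab, mem_bot] at this
      rw [this, inv_one, one_mul] at g3
      have h3 := ti c a fun e => x1 (by
        have : pr x ∈ cn c E ⊓ cn a E := ⟨by simpa using inv_mem g3, ha⟩
        rwa [e, mem_bot] at this)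
      have := mul_mem (inv_mem ha) (h3 hc)
      rwa [show pr (x * y) = pr x * pr y from rfl, inv_mul_cancel_left] at this
    · exact ti b a hab hb
  have cj : ∀ {s x : SL(2, F)}, pr s ∈ E → IsConj s x → ∃ a, pr x ∈ cn a E := fun hs h =>
    mem_cn_of hs (isConj_mk_iff.2 (Or.inl h))
  obtain ⟨⟨e, he⟩, e1⟩ := ne_bot_iff_exists_ne_one.1 E3
  obtain ⟨s, rfl⟩ := QuotientGroup.mk_surjective e
  have s1 : ¬ IsScal (s : M2 F) := mk_ne_one_iff.1 fun e => e1 (Subtype.ext e)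
  by_cases h4 : (s : M2 F).trace ^ 2 = 4
  · obtain ⟨s', h5, h6, h7⟩ : ∃ s' : SL(2, F), pr s' ∈ E ∧ ¬ IsScal (s' : M2 F) ∧ (s' : M2 F).trace = 2 := by
      rcases sq_eq_sq_iff_eq_or_eq_neg.1 (h4.trans (show (4 : F) = 2 ^ 2 by norm_num)) with e | e
      · exact ⟨s, he, s1, e⟩
      · exact ⟨-s, by rwa [pr_neg], mk_ne_one_iff.1 (by rw [← pr, pr_neg]; exact mk_ne_one_iff.2 s1),
          by rw [trace_neg', e, neg_neg]⟩
    obtain ⟨a, a0, ha⟩ : ∃ a : F, a ≠ 0 ∧ IsConj (SLc.un a) s' := by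
      by_cases c0 : s' 1 0 = 0
      · have hd := SL2_det s'
        rw [trace_fin_two] at h7
        change s' 0 0 + s' 1 1 = 2 at h7
        change s' 0 0 * s' 1 1 - s' 0 1 * s' 1 0 = 1 at hd
        have e1 : s' 0 0 = 1 := sub_eq_zero.1 (pow_eq_zero_iff (n := 2) two_ne_zero |>.1 (by
          linear_combination s' 0 0 * h7 - hd - s' 0 1 * c0))
        have e2 : s' 1 1 = 1 := by linear_combination h7 - e1
        have e3 : SLc.un (s' 0 1) = s' := SL2.ext' e1.symm rfl c0.symm e2.symm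
        exact ⟨s' 0 1, fun e => h6 ⟨e, c0, e1.trans e2.symm⟩, e3.symm ▸ IsConj.refl _⟩
      · exact ⟨_, div_ne_zero (by simp) c0, conj_un h7 c0⟩
    have h4' : (4 : F) ≠ 0 := four_ne_zero_of (h2 := h2)
    have c1 : IsConj (SLc.un a) (sl2 1 0 (-4 / a) 1 (by simp)) :=
      (isConj_SL_iff_exists _ _).2 ⟨!![0, a / 2; -2 / a, 0], by simp [det_fin_two]; field_simp, by
        rw [SLc.coe_un]; simp; field_simp; ring⟩
    have c2 : IsConj (SLc.un a)⁻¹ (-(SLc.un a * sl2 1 0 (-4 / a) 1 (by simp))) :=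
      (isConj_SL_iff_exists _ _).2 ⟨!![1, 0; 2 / a, 1], by simp [det_fin_two], by
        rw [SL2_coe_inv, SLc.coe_un]
        simp [m2_ext_iff, m2_mul_apply, SLc.coe_un, adjugate_fin_two]
        refine ⟨by field_simp; ring, by field_simp; ring, by field_simp; ring⟩⟩
    have := key _ _ (cj h5 ha.symm) (cj h5 (ha.symm.trans c1)) (by
      rw [← pr_neg]
      obtain ⟨g, hg⟩ := isConj_iff.1 ha.symm
      exact cj (s := s'⁻¹) (inv_mem h5) ((isConj_iff.2 ⟨g, by rw [← hg]; group⟩).trans c2))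
    rw [L.det_comm] at this
    simp [SLc.coe_un, trace_fin_two, m2_mul_apply] at this
    field_simp at this
    exact h4' (pow_eq_zero_iff (n := 2) two_ne_zero |>.1 (by linear_combination (-1 : F) * this))
  · have n1 : (s : M2 F).trace - 2 ≠ 0 := fun e => h4 (by linear_combination ((s : M2 F).trace + 2) * e)
    have n2 : (s : M2 F).trace + 2 ≠ 0 := fun e => h4 (by linear_combination ((s : M2 F).trace - 2) * e)
    by_cases h5 : (s : M2 F).trace = -1
    · obtain ⟨y, z, h6, h7, h8⟩ := exists_trace_pair s1 (s : M2 F).trace (-(s : M2 F).trace) (Or.inl h4)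
      have := key y z (cj he (isConj_SL_of_disc h4 h6.symm)) (by
        rw [← pr_neg]; exact cj he (isConj_SL_of_disc h4 (by rw [trace_neg', h7, neg_neg])))
        (h8 ▸ cj he (IsConj.refl _))
      rw [L.det_comm, ← SL2_coe_mul, ← h8, h6, h7, y.2, z.2, h5] at this
      exact h2 (by linear_combination this)
    · obtain ⟨y, z, h6, h7, h8⟩ := exists_trace_pair s1 (s : M2 F).trace (s : M2 F).trace (Or.inl h4)
      have := key y z (cj he (isConj_SL_of_disc h4 h6.symm)) (cj he (isConj_SL_of_disc h4 h7.symm))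
        (h8 ▸ cj he (IsConj.refl _))
      rw [L.det_comm, ← SL2_coe_mul, ← h8, h6, h7, y.2, z.2] at this
      exact mul_ne_zero (pow_ne_zero 2 n1) (fun e => h5 (eq_neg_of_add_eq_zero_left e)) (by linear_combination this)

theorem even_ne (h2 : (2 : F) ≠ 0) (h4 : 4 ≤ Fintype.card F) (h5 : Fintype.card F ≠ 5) {H : Subgroup PSL(2, F)}
    (hT : Tri H) (hH : H ≠ ⊤) : ¬ Even (Nat.card H) := fun he => by
  classical
  have := PSL_simple_fin (F := F) 2 le_rfl fun _ => h4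
  obtain ⟨M, hM, -⟩ := se_of_tri hT (fun _ _ => hone) hH he
  obtain ⟨a, b, hab⟩ : ∃ a b : F, a ^ 2 + b ^ 2 = -1 := by
    obtain ⟨a, b, h⟩ := FiniteField.exists_root_sum_quadratic (f := Polynomial.X ^ 2 + 1) (g := Polynomial.X ^ 2)
      (Polynomial.degree_X_pow_add_C (by norm_num) 1) (Polynomial.degree_X_pow 2)
      (Nat.odd_iff.1 (odd_card_of_two_ne_zero h2))
    exact ⟨a, b, by simp at h; linear_combination h⟩
  obtain ⟨u, hu⟩ : ∃ u : F, u * (u ^ 4 - 1) ≠ 0 := by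
    by_contra! h
    have h1 : (Finset.univ : Finset F) ⊆ insert 0 (Polynomial.nthRoots 4 (1 : F)).toFinset := fun u _ => by
      rcases mul_eq_zero.1 (h u) with e | e
      · simp [e]
      · simp [sub_eq_zero.1 e]
    have h3 := (Finset.card_le_card h1).trans ((Finset.card_insert_le _ _).trans (Nat.succ_le_succ
      ((Multiset.toFinset_card_le _).trans (Polynomial.card_nthRoots 4 1))))
    obtain ⟨k, hk⟩ := odd_card_of_two_ne_zero h2
    rw [Finset.card_univ] at h3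
    omega
  have u0 : u ≠ 0 := fun e => hu (by simp [e])
  have u1 : 1 - u ^ 2 ≠ 0 := fun e => hu (by linear_combination (-u * (u ^ 2 + 1)) * e)
  have u2 : 1 + u ^ 2 ≠ 0 := fun e => hu (by linear_combination (u * (u ^ 2 - 1)) * e)
  let c := (1 - u ^ 2) / (1 + u ^ 2)
  let d := 2 * u / (1 + u ^ 2)
  have hcd : c ^ 2 + d ^ 2 = 1 := by simp only [c, d]; field_simp; ring
  have c0 : c ≠ 0 := div_ne_zero u1 u2
  have d0 : d ≠ 0 := div_ne_zero (mul_ne_zero h2 u0) u2
  clear_value c d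
  let t : SL(2, F) := sl2 0 1 (-1) 0 (by ring)
  let r : ∀ x y : F, x ^ 2 + y ^ 2 = -1 → SL(2, F) := fun x y h => sl2 x y y (-x) (by linear_combination -h)
  have hr : ∀ x y h, pr (r x y h) * pr t = pr t * pr (r x y h) := fun x y h =>
    PSL2.mk_eq_mk_iff.2 (Or.inr (by simp [r, t, sl2_mul, sl2_neg, sl2_eq_iff]))
  have hr2 : ∀ x y h, pr (r x y h) * pr (r x y h) = 1 := fun x y h => pr_sq (by simp [r, trace_fin_two])
  have h6 : (a * c - b * d) ^ 2 + (a * d + b * c) ^ 2 = -1 := by linear_combination (c ^ 2 + d ^ 2) * hab - hcd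
  have := comm_of_se (not_comm hH he) hM (t := pr t) (BC.ord_two (mk_ne_one_iff.2 fun h => one_ne_zero h.1)
    (pr_sq (by simp [t, trace_fin_two]))) (hr2 _ _ hab) (hr2 _ _ h6) (hr _ _ hab) (hr _ _ h6)
  rcases PSL2.mk_eq_mk_iff.1 this with e | e
  · simp only [r, sl2_mul, sl2_eq_iff] at e
    exact mul_ne_zero h2 d0 (by linear_combination (-1 : F) * e.2.1 + 2 * d * hab)
  · simp only [r, sl2_mul, sl2_neg, sl2_eq_iff] at e
    exact mul_ne_zero h2 c0 (by linear_combination (-1 : F) * e.1 + 2 * c * hab)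

section two
variable [CharP F 2]

theorem pr_inj {s t : SL(2, F)} (h : pr s = pr t) : s = t := by
  rcases PSL2.mk_eq_mk_iff.1 h with e | e
  · exact e
  · rw [e, SL2.neg_eq_self CharTwo.two_eq_zero]

theorem four_zero : (4 : F) = 0 := by
  have : (2 : F) = 0 := CharTwo.two_eq_zero
  linear_combination 2 * this

theorem odd_two (h4 : 4 ≤ Fintype.card F) {H : Subgroup PSL(2, F)} (hT : Tri H) (ho : Odd (Nat.card H)) (h0 : H ≠ ⊥) :
    (∃ a : ℕ, Odd a ∧ Fintype.card F = 2 ^ a) ∧ Nat.card H = 3 := by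
  have h2 : (2 : F) = 0 := CharTwo.two_eq_zero
  have st : ∀ a, ∀ x y z : SL(2, F), pr x ∈ cn a H → pr y ∈ cn a H → x ≠ 1 → z ∈ centralizer {x} → y * z = z * y :=
    fun a x y z hx hy x1 hz => by
      obtain ⟨s, -, s1, s2⟩ := (struct (X := cn a H) (by rwa [card_cn]) fun e => x1 (pr_inj (by
        rwa [e, mem_bot] at hx))).resolve_right fun h => h.1 h2
      have s3 := SLc.not_isScal_of_trace s1
      rw [centralizer_eq_of_mem s3 (s2 x hx) fun h => x1 ((SL2_scal_iff_two h2).1 h)] at hz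
      exact mul_comm_of_mem_centralizer s3 (s2 y hy) hz
  have key : ∀ x y : SL(2, F), (∃ a, pr x ∈ cn a H) → (∃ a, pr y ∈ cn a H) → (∃ a, pr (x * y) ∈ cn a H) →
      x * y = y * x := by
    rintro x y ⟨a, ha⟩ ⟨b, hb⟩ ⟨c, hc⟩
    obtain ⟨g, g1, g2, g3⟩ := hT _ _ _ (fam_self.cn a) (fam_self.cn b) (fam_self.cn c) _ (inv_mem ha) _ hb
      (by rw [inv_inv]; exact hc)
    obtain ⟨g, rfl⟩ := QuotientGroup.mk_surjective g
    by_cases e : g = 1
    · rw [e, QuotientGroup.mk_one, inv_one, one_mul] at g3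
      by_cases x1 : x = 1
      · rw [x1, one_mul, mul_one]
      have := st c x (x⁻¹ * (x * y)) x (by simpa using inv_mem g3) (mul_mem g3 hc) x1
        (mem_centralizer_singleton_iff.2 rfl)
      rw [inv_mul_cancel_left] at this
      exact this.symm
    · exact st a g x y g1 ha e
        (mem_centralizer_singleton_iff.2 (st b g y g g2 hb e (mem_centralizer_singleton_iff.2 rfl)))
  have cj : ∀ {s x : SL(2, F)}, pr s ∈ H → IsConj s x → ∃ a, pr x ∈ cn a H := fun hs h =>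
    mem_cn_of hs (isConj_mk_iff.2 (Or.inl h))
  have t1 : ∀ s : SL(2, F), pr s ∈ H → s ≠ 1 → (s : M2 F).trace = 1 := fun s he s1 => by
    have s2 : ¬ IsScal (s : M2 F) := fun h => s1 ((SL2_scal_iff_two h2).1 h)
    have t0 : (s : M2 F).trace ≠ 0 := fun e => s2 (scal_of_odd ho he e)
    have h4 : (s : M2 F).trace ^ 2 ≠ 4 := by rw [four_zero]; exact pow_ne_zero 2 t0
    obtain ⟨y, z, h6, h7, h8⟩ := exists_trace_pair s2 (s : M2 F).trace (s : M2 F).trace (Or.inl h4)
    have := key y z (cj he (isConj_SL_of_disc h4 h6.symm)) (cj he (isConj_SL_of_disc h4 h7.symm))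
      (h8 ▸ cj he (IsConj.refl _))
    have h9 := L.det_comm (y : M2 F) z
    rw [← SL2_coe_mul, ← SL2_coe_mul, ← this, sub_self, Matrix.det_zero, ← h8, h6, h7, y.2, z.2] at h9
    exact mul_left_cancel₀ (pow_ne_zero 2 t0) (by linear_combination -h9 - (2 - (s : M2 F).trace ^ 2) * h2)
  obtain ⟨s, hs, s1, s2⟩ := (struct ho h0).resolve_right fun h => h.1 h2
  have s3 : s ≠ 1 := fun e => SLc.not_isScal_of_trace s1 ((SL2_scal_iff_two h2).2 e)
  refine ⟨?_, ?_⟩
  · obtain ⟨n, -, hn⟩ := FiniteField.card F 2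
    refine ⟨n, ?_, hn⟩
    by_contra hn'
    obtain ⟨k, hk⟩ := Nat.not_odd_iff_even.1 hn'
    have := Fact.mk Nat.prime_three
    obtain ⟨ω, hω⟩ := exists_prime_orderOf_dvd_card' (G := Fˣ) 3 (by
      rw [Nat.card_units, Nat.card_eq_fintype_card, hn, hk, ← two_mul, pow_mul]
      exact Nat.sub_dvd_pow_sub_pow 4 1 k |>.trans (by rw [one_pow]; rfl))
    have w3 : (ω : F) ^ 3 = 1 := by rw [← Units.val_pow_eq_pow_val, ← hω, pow_orderOf_eq_one, Units.val_one]
    have w1 : (ω : F) - 1 ≠ 0 := fun e => by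
      rw [show ω = 1 from Units.ext (sub_eq_zero.1 e), orderOf_one] at hω; omega
    have w2 : (ω : F) ^ 2 + ω + 1 = 0 := mul_left_cancel₀ w1 (by linear_combination w3)
    have c : ∀ x : SL(2, F), (x : M2 F).trace = 1 → ∃ a, pr x ∈ cn a H := fun x hx =>
      cj hs (isConj_SL_of_disc s1 (by rw [t1 s hs s3, hx]))
    have := key (sl2 ω 0 0 (ω ^ 2) (by linear_combination w3)) (sl2 ω 1 0 (ω ^ 2) (by linear_combination w3))
      (c _ (by simp [trace_fin_two]; linear_combination w2 - h2)) (c _ (by simp [trace_fin_two]; linear_combination w2 - h2))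
      (c _ (by simp [trace_fin_two, sl2_mul]; linear_combination w2 + ω * w3 - h2))
    simp only [sl2_mul, sl2_eq_iff] at this
    exact one_ne_zero (α := F) (by linear_combination w2 + this.2.1 - ω * h2)
  · classical
    have e : (H : Set PSL(2, F)) = {1, pr s, pr s⁻¹} := by
      ext x
      obtain ⟨x, rfl⟩ := QuotientGroup.mk_surjective x
      constructor
      · intro hx
        by_cases x1 : x = 1
        · exact Or.inl (by rw [x1]; rfl)
        rcases eq_or_eq_inv_of_mem s1 (s2 x hx) (by rw [t1 x hx x1, t1 s hs s3]) with e | e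
        · exact Or.inr (Or.inl (by rw [e]))
        · exact Or.inr (Or.inr (by rw [e]; rfl))
      · rintro (e | e | e) <;> rw [e]
        · exact one_mem H
        · exact hs
        · exact inv_mem hs
    rw [← SetLike.coe_sort_coe, e, Nat.card_coe_set_eq]
    exact Set.ncard_eq_three.2 ⟨_, _, _, fun e => s3 (pr_inj e.symm), fun e => s3 (inv_eq_one.1 (pr_inj e.symm)),
      fun e => SL2_inv_ne s1 (pr_inj e.symm), rfl⟩

theorem bin_three {a : ℕ} (ha : Odd a) (hF : Fintype.card F = 2 ^ a) {H : Subgroup PSL(2, F)} (h3 : Nat.card H = 3) :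
    Bin H := by
  have h2 : (2 : F) = 0 := CharTwo.two_eq_zero
  have := Fact.mk Nat.prime_three
  have t1 : ∀ b, ∀ s : SL(2, F), pr s ∈ cn b H → s ≠ 1 → (s : M2 F).trace = 1 := fun b s hs s1 => by
    have s2 : ¬ IsScal (s : M2 F) := fun h => s1 ((SL2_scal_iff_two h2).1 h)
    have h4 : s ^ 3 = 1 := pr_inj (by
      have := pow_card_eq_one' (x := (⟨_, hs⟩ : cn b H))
      rw [card_cn, h3] at this
      exact congrArg Subtype.val this)
    have h5 : (s : M2 F) ^ 3 = (-(s : M2 F).trace) • (1 : M2 F) + ((s : M2 F).trace ^ 2 - 1) • (s : M2 F) := by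
      rw [pow_succ', pow_two, m2_sq, mul_sub, mul_smul_comm, m2_sq, s.2]
      simp only [one_smul, mul_one, smul_sub, smul_smul, sub_smul, neg_smul, pow_two]
      abel
    rw [← SL2_coe_pow, h4] at h5
    have := (lin_inj s2 (a := 1) (b := 0) (by rw [← h5]; simp)).1
    rw [CharTwo.neg_eq] at this
    exact this.symm
  refine bin_of_TI (fun b c => ?_) fun b c d hbc x hx y hy hw => ?_
  · rcases (Nat.dvd_prime Nat.prime_three).1 (h3 ▸ card_cn b H ▸ card_dvd_of_le (inf_le_left (b := cn c H))) with e | e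
    · exact Or.inl (card_eq_one.1 e)
    · exact Or.inr ((eq_of_le_of_card_ge inf_le_left (by rw [e, card_cn, h3])).symm.trans
        (eq_of_le_of_card_ge inf_le_right (by rw [e, card_cn, h3])))
  obtain ⟨x, rfl⟩ := QuotientGroup.mk_surjective x
  obtain ⟨y, rfl⟩ := QuotientGroup.mk_surjective y
  by_cases x1 : x = 1
  · rw [x1]; exact one_mem _
  by_cases y1 : y = 1
  · rw [y1, QuotientGroup.mk_one, mul_one] at hw
    simpa using inv_mem hw
  exfalso
  have hn : pr y ∉ cn b H := fun h => y1 (pr_inj (by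
    have : pr y ∈ cn b H ⊓ cn c H := ⟨h, hy⟩
    rwa [hbc, mem_bot] at this))
  have w1 : x⁻¹ * y ≠ 1 := fun e => hn (inv_mul_eq_one.1 e ▸ hx)
  have tx := t1 b x⁻¹ (inv_mem hx) (by simpa using x1)
  have ty := t1 c y hy y1
  have h4 := L.det_comm ((x⁻¹ : SL(2, F)) : M2 F) y
  rw [← SL2_coe_mul _ y, tx, ty, t1 d _ hw w1, y.2, x⁻¹.2, SL2_coe_mul] at h4
  have hne : NoEig ((x⁻¹ : SL(2, F)) : M2 F) := noEig_iff.2 fun u hu => by
    rw [tx, x⁻¹.2] at hu
    have u0 : u ≠ 0 := fun e => by simp [e] at hu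
    have u3 : orderOf (Units.mk0 u u0) = 3 := orderOf_eq_prime (Units.ext (by
      simp; linear_combination (u + 1) * hu - h2)) fun e => by
        have : u = 1 := congrArg Units.val e
        simp [this] at hu
    have := orderOf_dvd_natCard (Units.mk0 u u0)
    obtain ⟨k, rfl⟩ := ha
    rw [u3, Nat.card_units, Nat.card_eq_fintype_card, hF, pow_succ, pow_mul] at this
    have h5 : 3 ∣ 4 ^ k - 1 := Nat.sub_dvd_pow_sub_pow 4 1 k |>.trans (by rw [one_pow])
    have h6 : 1 ≤ 4 ^ k := Nat.one_le_pow _ _ (by norm_num)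
    norm_num at this
    omega
  generalize hA : ((x⁻¹ : SL(2, F)) : M2 F) = A at h4 hne
  have hK : A * y - y * A = 0 := by
    by_contra hK
    obtain ⟨v, v0, hv⟩ := Matrix.exists_mulVec_eq_zero_iff.2 (h4.trans (by linear_combination h2))
    have e : (A * y - y * A) * A.adjugate = A * (A * y - y * A) := by
      simp only [m2_ext_iff, m2_mul_apply, adjugate_fin_two, Matrix.sub_apply]
      simp
      refine ⟨by ring, by ring, by ring, by ring⟩
    obtain ⟨r, hr⟩ := exists_smul_of_ker hK v0 hv (w := A.adjugate *ᵥ v) (by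
      rw [mulVec_mulVec, e, ← mulVec_mulVec, hv, mulVec_zero])
    rw [adjugate_eq, sub_mulVec, smul_mulVec, one_mulVec] at hr
    exact hne (A.trace - r) v v0 (by rw [sub_smul, ← hr]; abel)
  have h5 : ((x⁻¹ : SL(2, F)) : M2 F).trace ^ 2 ≠ 4 := by rw [tx, four_zero]; simp
  rcases eq_or_eq_inv_of_mem h5 (mem_centralizer_SL.2 (by rw [hA]; exact (sub_eq_zero.1 hK).symm))
    (ty.trans tx.symm) with e | e
  · exact hn (e ▸ inv_mem hx)
  · exact hn (by rw [e, inv_inv]; exact hx)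

end two

theorem psl2 (h4 : 4 ≤ Fintype.card F) (h5 : Fintype.card F ≠ 5) (H : Subgroup PSL(2, F)) (hH : H ≠ ⊤) :
    Bin H ↔ (H = ⊥ ∨ ((∃ a : ℕ, Fintype.card F = 2 ^ a) ∧ ∃ P : Sylow 2 PSL(2, F), H = P) ∨
        ((∃ a : ℕ, Odd a ∧ Fintype.card F = 2 ^ a) ∧ Nat.card H = 3)) := by
  have := PSL_simple_fin (F := F) 2 le_rfl fun _ => h4
  have cp : ∀ a, Fintype.card F = 2 ^ a → CharP F 2 := fun a ha => BC.charP_of_card (n := a) (by
    by_contra h
    have : a = 0 ∨ a = 1 := by omega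
    rcases this with rfl | rfl <;> omega) ha
  constructor
  · intro h
    by_cases h2 : (2 : F) = 0
    · have : CharP F 2 := CharTwo.of_one_ne_zero_of_two_eq_zero one_ne_zero h2
      rcases Nat.even_or_odd (Nat.card H) with he | ho
      · obtain ⟨n, -, hn⟩ := FiniteField.card F 2
        obtain ⟨M, hM, hs⟩ := se_of_tri h.tri (fun _ _ => hone) hH he
        obtain ⟨-, S, rfl⟩ := BC.c1792 H25.BE.bender_core (not_comm hH he) hM
        obtain ⟨e⟩ := BC.psl_equiv_sl F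
        obtain ⟨B, w, α, h1, h2⟩ := exA (dat_sl2 F) (inj_sl2 F) e S
        exact Or.inr (Or.inl ⟨⟨n, hn⟩, S, h1.eqA h2 h.tri hH hs⟩)
      · by_cases h0 : H = ⊥
        · exact Or.inl h0
        · exact Or.inr (Or.inr (odd_two h4 h.tri ho h0))
    · exact Or.inl (odd_ne h2 h.tri (Nat.not_even_iff_odd.1 (even_ne h2 h4 h5 h.tri hH)))
  · rintro (rfl | ⟨⟨a, ha⟩, S, rfl⟩ | ⟨⟨a, h1, ha⟩, h3⟩)
    · exact bin_of_invol (fun x hx => by rw [mem_bot.1 hx, one_mul]) fun x hx x1 => absurd (mem_bot.1 hx) x1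
    · have := cp a ha
      obtain ⟨e⟩ := BC.psl_equiv_sl F
      obtain ⟨B, w, α, h1, h2⟩ := exA (dat_sl2 F) (inj_sl2 F) e S
      exact h1.binA h2
    · have := cp a ha
      exact bin_three h1 ha h3

end H17.Bin
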