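import Mathlib

/-! The group `2⁴:A₆`: abstract properties. -/

set_option autoImplicit false

namespace H17.JA
open Subgroup

abbrev A6 := alternatingGroup (Fin 6)

theorem cA : Nat.card A6 = 360 := by rw [Nat.card_eq_fintype_card, card_alternatingGroup]; rfl
theorem simp6 : IsSimpleGroup A6 := alternatingGroup.isSimpleGroup (by simp)

theorem idx (J : Subgroup A6) (h : J.index ≤ 5) : J = ⊤ := by
  haveI := simp6
  rcases J.normalCore_normal.eq_bot_or_eq_top with e | e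
  · exfalso
    have h1 : J.normalCore.index ∣ J.index.factorial := by
      rw [J.normalCore_eq_ker, index_ker, index_eq_card, ← Nat.card_perm]; exact card_subgroup_dvd_card _
    rw [e, index_bot, cA] at h1
    have := Nat.le_of_dvd (Nat.factorial_pos _) h1
    have := Nat.factorial_le h
    simp only [Nat.factorial] at this; omega
  · exact top_le_iff.1 (e ▸ J.normalCore_le)

theorem e4 (E : Subgroup A6) (h : ∀ g ∈ E, g * g = 1) : Nat.card E ≤ 4 := by
  by_contra! l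
  have p : IsPGroup 2 E := fun g => ⟨1, Subtype.ext (by simpa [pow_two] using h g g.2)⟩
  obtain ⟨n, hn⟩ := IsPGroup.iff_card.1 p
  have d := card_subgroup_dvd_card E
  rw [cA, hn] at d
  have n3 : n = 3 := by
    have : n ≤ 3 := by
      by_contra! c
      exact absurd ((pow_dvd_pow 2 c).trans d) (by norm_num)
    rw [hn] at l
    interval_cases n <;> simp_all
  subst n3
  let P := Sylow.ofCard (p := 2) E (by
    rw [hn, cA, (by norm_num : 360 = 2 ^ 3 * 45), Nat.factorization_mul (by norm_num) (by norm_num), Nat.factorization_pow]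
    simp [Nat.prime_two.factorization_self, Nat.factorization_eq_zero_of_not_dvd (by norm_num : ¬ 2 ∣ 45)])
  let a : A6 := ⟨Equiv.swap 0 1 * Equiv.swap 1 2 * Equiv.swap 2 3 * Equiv.swap 4 5, by
    simp [Equiv.Perm.mem_alternatingGroup]⟩
  have a4 : a ^ 2 ^ 2 = 1 := Subtype.ext (by decide)
  have a2 : a * a ≠ 1 := fun e => absurd (congrArg Subtype.val e) (by decide)
  obtain ⟨Q, hQ⟩ := (IsPGroup.of_card (G := zpowers a) (p := 2) (n := 2) (by
    rw [Nat.card_zpowers]; exact orderOf_eq_prime_pow (n := 1) (by simpa [pow_two] using a2) a4)).exists_le_sylow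
  obtain ⟨g, rfl⟩ := MulAction.exists_smul_eq A6 P Q
  obtain ⟨b, hb, e⟩ := hQ (mem_zpowers a)
  apply a2
  have e' : g * b * g⁻¹ = a := e
  rw [← e', conj_mul, h b hb]; simp

variable {Γ : Type*} [Group Γ] [Finite Γ] {K Y : Subgroup Γ}

theorem hx (φ : K →* A6) (sur : Function.Surjective φ) (ker : ∀ k : K, φ k = 1 ↔ (k : Γ) ∈ Y) (YK : Y ≤ K)
    (cY : Nat.card Y = 16) (Y2 : ∀ y ∈ Y, y * y = 1) (nc : ∃ k ∈ K, ∃ y ∈ Y, k * y ≠ y * k) :
    (∀ k ∈ K, ∀ y ∈ Y, k * y * k⁻¹ ∈ Y) ∧ (∀ y ∈ Y, ∀ y' ∈ Y, y ≠ 1 → y' ≠ 1 → ∃ k ∈ K, k * y * k⁻¹ = y') ∧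
    (∀ J ≤ K, Y ≤ J → 1 ∈ J → J.relIndex K ≤ 5 → K ≤ J) ∧
    (∀ N ≤ K, Y ≤ N → 1 ∈ N → (∀ k ∈ K, ∀ n ∈ N, k * n * k⁻¹ ∈ N) → K ≤ N ∨ ∀ g ∈ N, g * g = 1 → g ∈ Y) ∧
    (∀ E ≤ K, (∀ g ∈ E, g * g = 1) → Nat.card E ≤ 4 * Nat.card ↥(E ⊓ Y)) := by
  haveI := simp6
  have kk : ∀ J : Subgroup Γ, Y ≤ J → φ.ker ≤ J.subgroupOf K := fun J h k hk => h ((ker k).1 hk)
  have tp : ∀ J : Subgroup Γ, Y ≤ J → (J.subgroupOf K).map φ = ⊤ → K ≤ J := fun J h e => by
    have := comap_map_eq_self (kk J h)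
    rw [e, comap_top] at this
    exact subgroupOf_eq_top.1 this.symm
  have nY : ∀ k ∈ K, ∀ y ∈ Y, k * y * k⁻¹ ∈ Y := fun k hk y hy =>
    (ker (⟨k, hk⟩ * ⟨y, YK hy⟩ * ⟨k, hk⟩⁻¹)).1 (by rw [map_mul, map_mul, (ker ⟨y, YK hy⟩).2 hy]; simp)
  have s1 : ∀ J ≤ K, Y ≤ J → 1 ∈ J → J.relIndex K ≤ 5 → K ≤ J := fun J _ h _ l =>
    tp J h (idx _ (by rwa [index_map_eq _ sur (kk J h)]))
  have s2 : ∀ N ≤ K, Y ≤ N → (∀ k ∈ K, ∀ n ∈ N, k * n * k⁻¹ ∈ N) → K ≤ N ∨ N ≤ Y := fun N a h n => by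
    have : (N.subgroupOf K).Normal := ⟨fun x hx k => n k k.2 x hx⟩
    refine (this.map φ sur).eq_bot_or_eq_top.symm.imp (tp N h) fun e g hg => (ker ⟨g, a hg⟩).1 ?_
    exact (e.le (mem_map_of_mem φ (show (⟨g, a hg⟩ : K) ∈ N.subgroupOf K from hg)) :)
  have ab : ∀ a ∈ Y, ∀ b ∈ Y, a * b = b * a := fun a ha b hb => by
    rw [← inv_eq_of_mul_eq_one_right (Y2 _ (mul_mem ha hb)), mul_inv_rev, inv_eq_of_mul_eq_one_right (Y2 a ha),
      inv_eq_of_mul_eq_one_right (Y2 b hb)]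
  have cK : Nat.card K = 5760 := by
    have e : φ.ker = Y.subgroupOf K := by ext k; exact ker k
    rw [← φ.ker.card_mul_index, index_ker, φ.range_eq_top.2 sur, card_top, cA, e,
      Nat.card_congr (subgroupOfEquivOfLe YK).toEquiv, cY]
  have cy : K ⊓ centralizer (Y : Set Γ) ≤ Y := by
    refine (s2 (K ⊓ centralizer (Y : Set Γ)) inf_le_left (le_inf YK fun a ha b hb => ab b hb a ha) fun k hk n hn =>
      mem_inf.2 ⟨K.mul_mem (K.mul_mem hk hn.1) (K.inv_mem hk), fun y hy => ?_⟩).resolve_left fun h => ?_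
    · have := hn.2 _ (nY _ (inv_mem hk) y hy)
      calc _ = k * (k⁻¹ * y * k⁻¹⁻¹ * n) * k⁻¹ := by group
        _ = _ := by rw [this]; group
    · obtain ⟨k, hk, y, hy, e⟩ := nc
      exact e ((h hk).2 y hy).symm
  have f5 : ∀ f ∈ K, orderOf f = 5 → ∀ y ∈ Y, f * y = y * f → y = 1 := fun f hf o y hy c => by
    classical
    haveI : Fact (Nat.Prime 5) := ⟨by norm_num⟩
    letI := Fintype.ofFinite Y
    let σ : Function.End Y := fun y => ⟨f * y * f⁻¹, nY f hf y y.2⟩
    have pw : ∀ n (y : Y), (((σ ^ n) y : Y) : Γ) = f ^ n * y * (f ^ n)⁻¹ := fun n => by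
      induction n with
      | zero => intro y; simp; rfl
      | succ n ih => intro y; rw [pow_succ, pow_succ]; exact (ih (σ y)).trans (by simp [σ, mul_assoc])
    have m := Equiv.Perm.card_fixedPoints_modEq (f := σ) (p := 5) (n := 1) (funext fun y => Subtype.ext (by
      rw [pw, pow_one, ← o, pow_orderOf_eq_one]; simp; rfl))
    have e : Fintype.card σ.fixedPoints = Nat.card ((centralizer {f}).subgroupOf Y) := by
      rw [← Nat.card_eq_fintype_card]
      exact Nat.card_congr (Equiv.subtypeEquivRight fun y => by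
        rw [mem_subgroupOf, mem_centralizer_singleton_iff, eq_comm, ← mul_inv_eq_iff_eq_mul]; exact Subtype.ext_iff)
    rw [e, ← Nat.card_eq_fintype_card, cY] at m
    have d := card_subgroup_dvd_card ((centralizer {f}).subgroupOf Y)
    rw [cY] at d
    have l := Nat.le_of_dvd (by norm_num) d
    have : Nat.card ((centralizer {f}).subgroupOf Y) = 1 ∨ Nat.card ((centralizer {f}).subgroupOf Y) = 16 := by
      generalize Nat.card ((centralizer {f}).subgroupOf Y) = n at *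
      unfold Nat.ModEq at m
      interval_cases n <;> omega
    rcases this with h | h
    · exact congrArg Subtype.val ((eq_bot_iff_forall _).1 (card_eq_one.1 h) ⟨y, hy⟩ (mem_centralizer_singleton_iff.2 c.symm))
    · have t := subgroupOf_eq_top.1 (eq_top_of_card_eq _ (h.trans cY.symm))
      have := orderOf_dvd_of_pow_eq_one ((pow_two f).trans (Y2 f (cy ⟨hf, fun a ha => mem_centralizer_singleton_iff.1 (t ha)⟩)))
      rw [o] at this; omega
  have big : ∀ y ∈ Y, y ≠ 1 → 10 ≤ {x | ∃ k ∈ K, k * y * k⁻¹ = x}.ncard := fun y hy n => by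
    let A : MulAction K Γ := MulAction.compHom Γ ((MulAut.conj (G := Γ)).comp K.subtype)
    have e := @MulAction.index_stabilizer K Γ _ A y
    have e1 : @MulAction.stabilizer K Γ _ A y = (centralizer {y}).subgroupOf K := by
      ext k; rw [mem_subgroupOf, mem_centralizer_singleton_iff, ← mul_inv_eq_iff_eq_mul]; rfl
    have e2 : @MulAction.orbit K Γ A.toSMul y = {x | ∃ k ∈ K, k * y * k⁻¹ = x} := by
      ext x; exact ⟨fun ⟨k, h⟩ => ⟨k, k.2, h⟩, fun ⟨k, hk, h⟩ => ⟨⟨k, hk⟩, h⟩⟩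
    rw [e1, e2] at e
    rw [← e]
    have d5 : 5 ∣ ((centralizer {y}).subgroupOf K).index := by
      haveI : Fact (Nat.Prime 5) := ⟨by norm_num⟩
      refine ((Nat.Prime.dvd_mul (by norm_num)).1 (by rw [card_mul_index, cK]; norm_num)).resolve_left fun h => n ?_
      obtain ⟨f, hf⟩ := exists_prime_orderOf_dvd_card' 5 h
      exact f5 f.1 f.1.2 (by rw [orderOf_coe, orderOf_coe, hf]) y hy (mem_centralizer_singleton_iff.1 f.2)
    have p := ((centralizer {y}).subgroupOf K).index_ne_zero_of_finite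
    by_contra! l
    have := s1 (centralizer {y} ⊓ K) inf_le_right (le_inf (fun a ha => mem_centralizer_singleton_iff.2 (ab a ha y hy)) YK)
      (one_mem _) (by rw [inf_relIndex_right]; unfold relIndex; omega)
    rw [subgroupOf_eq_top.2 (this.trans inf_le_left), index_top] at d5
    omega
  refine ⟨nY, ?_, s1, fun N a h _ n => (s2 N a h n).imp_right fun e g hg _ => e hg, fun E hE h => ?_⟩
  · intro y hy y' hy' n n'
    by_contra! H
    have sub : ∀ y ∈ Y, y ≠ 1 → {x | ∃ k ∈ K, k * y * k⁻¹ = x} ⊆ (Y : Set Γ) := by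
      rintro y hy - _ ⟨k, hk, rfl⟩; exact nY k hk y hy
    have u := Set.ncard_le_ncard (Set.union_subset (sub y hy n) (sub y' hy' n'))
    have dj : Disjoint {x | ∃ k ∈ K, k * y * k⁻¹ = x} {x | ∃ k ∈ K, k * y' * k⁻¹ = x} := Set.disjoint_left.2 (by
      rintro _ ⟨k, hk, rfl⟩ ⟨l, hl, e⟩
      refine H _ (mul_mem (inv_mem hl) hk) ?_
      calc _ = l⁻¹ * (k * y * k⁻¹) * l := by group
        _ = _ := by rw [← e]; group)
    rw [Set.ncard_union_eq dj] at u
    have c : (Y : Set Γ).ncard = 16 := cY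
    have := big y hy n
    have := big y' hy' n'
    omega
  · have e : (φ.comp (inclusion hE)).ker = (E ⊓ Y).subgroupOf E := by
      ext k; simp [MonoidHom.mem_ker, ker, mem_subgroupOf]
    rw [← (φ.comp (inclusion hE)).ker.card_mul_index, index_ker, e,
      Nat.card_congr (subgroupOfEquivOfLe inf_le_left).toEquiv, mul_comm]
    refine Nat.mul_le_mul_right _ (e4 _ ?_)
    rintro _ ⟨k, rfl⟩
    rw [← map_mul, show k * k = 1 from Subtype.ext (h k k.2), map_one]

end H17.JA
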