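import Mathlib
import Cfsg.Agent.H09.L34
import Cfsg.Agent.H02.FPF
import Cfsg.Agent.H08.Dihedral

/-!
# The Sylow 2-subgroup of `L₃(4)`
-/

set_option autoImplicit false
set_option linter.unusedSectionVars false

open Subgroup Matrix
open scoped MatrixGroups

namespace H17.L34

/-- the Heisenberg group -/
@[ext] structure Hs (F : Type*) where
  a : F
  b : F
  c : F

variable {F : Type*} [Field F]

instance hsMul : Mul (Hs F) := ⟨fun x y => ⟨x.a + y.a, x.b + y.b, x.c + y.c + x.a * y.b⟩⟩
instance hsOne : One (Hs F) := ⟨⟨0, 0, 0⟩⟩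
instance hsInv : Inv (Hs F) := ⟨fun x => ⟨-x.a, -x.b, x.a * x.b - x.c⟩⟩

@[simp] theorem mul_a (x y : Hs F) : (x * y).a = x.a + y.a := rfl
@[simp] theorem mul_b (x y : Hs F) : (x * y).b = x.b + y.b := rfl
@[simp] theorem mul_c (x y : Hs F) : (x * y).c = x.c + y.c + x.a * y.b := rfl
@[simp] theorem one_a : (1 : Hs F).a = 0 := rfl
@[simp] theorem one_b : (1 : Hs F).b = 0 := rfl
@[simp] theorem one_c : (1 : Hs F).c = 0 := rfl
@[simp] theorem inv_a (x : Hs F) : x⁻¹.a = -x.a := rfl
@[simp] theorem inv_b (x : Hs F) : x⁻¹.b = -x.b := rfl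
@[simp] theorem inv_c (x : Hs F) : x⁻¹.c = x.a * x.b - x.c := rfl

instance hsGroup : Group (Hs F) := Group.ofLeftAxioms (fun _ _ _ => by ext <;> simp <;> ring)
  (fun _ => by ext <;> simp) (fun _ => by ext <;> simp)

/-- coordinates -/
def hsEquiv : Hs F ≃ F × F × F := ⟨fun x => (x.a, x.b, x.c), fun p => ⟨p.1, p.2.1, p.2.2⟩, fun _ => rfl, fun _ => rfl⟩

instance hsFinite [Finite F] : Finite (Hs F) := Finite.of_equiv _ hsEquiv.symm

/-- unitriangular matrices -/
def ut : Hs F →* SL(3, F) := MonoidHom.mk' (fun x => ⟨!![1, x.a, x.c; 0, 1, x.b; 0, 0, 1], by simp [det_fin_three]⟩)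
  fun x y => Subtype.ext (show _ = (_ * _ : Matrix _ _ F) by
    ext i j; fin_cases i <;> fin_cases j <;> simp [mul_apply, Fin.sum_univ_three] <;> ring)

theorem ut_val (x : Hs F) : (ut x).1 = !![1, x.a, x.c; 0, 1, x.b; 0, 0, 1] := rfl

/-- the map to `PSL₃` -/
def ψ : Hs F →* PSL(3, F) := (QuotientGroup.mk' _).comp ut

variable [Fintype F] (hF : Fintype.card F = 4)
include hF

theorem ψ_inj : Function.Injective (ψ (F := F)) := (injective_iff_map_eq_one _).2 fun x hx => by
  obtain ⟨c, hc⟩ := H09.L34.center_iff.1 ((QuotientGroup.eq_one_iff _).1 hx)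
  rw [ut_val] at hc
  have h1 := congrFun (congrFun hc 0) 1
  have h2 := congrFun (congrFun hc 1) 2
  have h3 := congrFun (congrFun hc 0) 2
  ext <;> simp_all

theorem card_hs : Nat.card (Hs F) = 2 ^ 6 := by
  rw [Nat.card_congr hsEquiv]; simp [hF]

theorem card_psl : Nat.card PSL(3, F) = 20160 := by
  have h1 := H09.card_PSL_mul (ι := Fin 3) (F := F)
  have h2 := H09.card_SL_mul (ι := Fin 3) (F := F)
  rw [H09.card_GL] at h2
  rw [hF, Fintype.card_fin] at h1 h2
  rw [Fin.prod_univ_three] at h2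
  norm_num [-Nat.card_eq_fintype_card] at h1 h2
  omega

theorem exists_sylow : ∃ S : Sylow 2 PSL(3, F), (S : Subgroup PSL(3, F)) = ψ.range := by
  have := Fact.mk Nat.prime_two
  have hc : Nat.card (ψ (F := F)).range = 2 ^ 6 :=
    (Nat.card_congr (MonoidHom.ofInjective (ψ_inj hF)).toEquiv).symm.trans (card_hs hF)
  have := (ψ (F := F)).range.index_mul_card
  rw [hc, card_psl hF] at this
  exact ⟨(IsPGroup.of_card hc).toSylow (by omega), rfl⟩

omit hF

/-- the field with four elements -/
inductive F4 | o | i | w | v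
  deriving DecidableEq

namespace F4

instance f4Fintype : Fintype F4 := ⟨{o, i, w, v}, fun x => by cases x <;> decide⟩

/-- addition -/
def add : F4 → F4 → F4
  | o, x => x
  | x, o => x
  | i, i => o
  | i, w => v
  | i, v => w
  | w, i => v
  | w, w => o
  | w, v => i
  | v, i => w
  | v, w => i
  | v, v => o

/-- multiplication -/
def mul : F4 → F4 → F4
  | o, _ => o
  | _, o => o
  | i, x => x
  | x, i => x
  | w, w => v
  | w, v => i
  | v, w => i
  | v, v => w

/-- inversion -/
def inv : F4 → F4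
  | o => o
  | i => i
  | w => v
  | v => w

instance f4Add : Add F4 := ⟨add⟩
instance f4Mul : Mul F4 := ⟨mul⟩
instance f4Zero : Zero F4 := ⟨o⟩
instance f4One : One F4 := ⟨i⟩
instance f4Neg : Neg F4 := ⟨id⟩
instance f4Inv : Inv F4 := ⟨inv⟩

instance f4Field : Field F4 where
  add_assoc := by decide
  zero_add := by decide
  add_zero := by decide
  add_comm := by decide
  neg_add_cancel := by decide
  mul_assoc := by decide
  one_mul := by decide
  mul_one := by decide
  mul_comm := by decide
  zero_mul := by decide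
  mul_zero := by decide
  left_distrib := by decide
  right_distrib := by decide
  exists_pair_ne := ⟨o, i, by decide⟩
  mul_inv_cancel := by decide
  inv_zero := rfl
  nsmul := nsmulRec
  zsmul := zsmulRec
  nnqsmul := _
  nnqsmul_def := fun _ _ => rfl
  qsmul := _
  qsmul_def := fun _ _ => rfl

end F4

variable {T : Type*} [Group T]

/-- `F4`-coordinates on the four-group `{1, x, y, x y}` -/
def ee (x y : T) : F4 → T
  | .o => 1
  | .i => x
  | .w => y
  | .v => x * y

theorem ee_add {x y : T} (hx : x * x = 1) (hy : y * y = 1) (h : x * y = y * x) (l m : F4) :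
    ee x y (l + m) = ee x y l * ee x y m := by
  have h1 : ∀ g, x * (x * g) = g := fun g => by rw [← mul_assoc, hx, one_mul]
  have h2 : ∀ g, y * (x * g) = x * (y * g) := fun g => by rw [← mul_assoc, ← h, mul_assoc]
  cases l <;> cases m <;> change ee x y (F4.add _ _) = _ <;> simp [ee, F4.add, mul_assoc, h1, h2, ← h, hx, hy]

theorem heis [Finite T] (hT : Nat.card T = 64) {s s' t t' z z' : T} (s2 : s * s = 1) (s2' : s' * s' = 1)
    (t2 : t * t = 1) (t2' : t' * t' = 1) (z2 : z * z = 1) (z2' : z' * z' = 1) (hs : s * s' = s' * s)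
    (ht : t * t' = t' * t) (hz : ∀ g, z * g = g * z) (hz' : ∀ g, z' * g = g * z') (n1 : z ≠ 1) (n2 : z' ≠ 1)
    (n3 : z * z' ≠ 1) (c1 : s * t = t * s * z) (c2 : s * t' = t' * s * z') (c3 : s' * t = t * s' * z')
    (c4 : s' * t' = t' * s' * (z * z')) : Nonempty (Hs F4 ≃* T) := by
  have hc : ∀ l g, ee z z' l * g = g * ee z z' l := fun l g => by
    cases l
    · simp [ee]
    · exact hz g
    · exact hz' g
    · change z * z' * g = g * (z * z')
      rw [mul_assoc, hz', ← mul_assoc, hz, mul_assoc]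
  have hab : ∀ l m, ee s s' l * ee t t' m = ee t t' m * ee s s' l * ee z z' (l * m) := by
    have d1 : ∀ g, s * (t * g) = z * (t * (s * g)) := fun g => by
      rw [← mul_assoc, c1, ← hz]; group
    have d2 : ∀ g, s * (t' * g) = z' * (t' * (s * g)) := fun g => by
      rw [← mul_assoc, c2, ← hz']; group
    have d3 : ∀ g, s' * (t * g) = z' * (t * (s' * g)) := fun g => by
      rw [← mul_assoc, c3, ← hz']; group
    have d4 : ∀ g, s' * (t' * g) = z * (z' * (t' * (s' * g))) := fun g => by
      rw [← mul_assoc, c4, ← show z * z' * (t' * s') = t' * s' * (z * z') from hc .v _]; group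
    have d5 : ∀ a g, a * (z * g) = z * (a * g) := fun a g => by rw [← mul_assoc, ← hz, mul_assoc]
    have d6 : ∀ a g, a * (z' * g) = z' * (a * g) := fun a g => by rw [← mul_assoc, ← hz', mul_assoc]
    have d7 : ∀ g, z * (z * g) = g := fun g => by rw [← mul_assoc, z2, one_mul]
    have d8 : ∀ g, z' * (z' * g) = g := fun g => by rw [← mul_assoc, z2', one_mul]
    intro l m
    rw [← hc, ← mul_one (ee t t' m * ee s s' l), ← mul_one (ee s s' l * ee t t' m)]
    cases l <;> cases m <;> change _ = ee z z' (F4.mul _ _) * _ <;>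
      simp only [ee, F4.mul, mul_assoc, one_mul, d1, d2, d3, d4, d5 s, d6 s, d5 t, d6 t, d5 z', d7, d8]
  let Φ : Hs F4 →* T := MonoidHom.mk' (fun x => ee t t' x.b * ee s s' x.a * ee z z' x.c) fun x y => by
    simp only [mul_a, mul_b, mul_c, ee_add s2 s2' hs, ee_add t2 t2' ht, ee_add z2 z2' (hz z')]
    calc _ = ee t t' x.b * (ee t t' y.b * ee s s' x.a * ee z z' (x.a * y.b)) * (ee s s' y.a * ee z z' x.c) *
          ee z z' y.c := by
          simp only [mul_assoc]
          rw [hc (x.a * y.b)]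
          simp only [mul_assoc]
      _ = _ := by
          rw [← hab]; simp only [mul_assoc]; rw [hc x.c (_ * _)]; simp only [mul_assoc]; rw [hc y.c, hc x.c]
  have hz0 : ∀ c : F4, Φ ⟨0, 0, c⟩ = 1 → c = 0 := fun c h => by
    have h' : ee t t' .o * ee s s' .o * ee z z' c = 1 := h
    cases c
    · rfl
    all_goals simp [ee] at h'; contradiction
  have hΦ : Function.Injective Φ := (injective_iff_map_eq_one _).2 fun x hx => by
    have k : ∀ y : Hs F4, x.a * y.b - y.a * x.b = 0 := fun y => hz0 _ (by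
      rw [show (⟨0, 0, x.a * y.b - y.a * x.b⟩ : Hs F4) = x * y * x⁻¹ * y⁻¹ by ext <;> simp; ring]
      simp [hx])
    have h1 : x.a = 0 := by simpa using k ⟨0, 1, 0⟩
    have h2 : x.b = 0 := by simpa using k ⟨1, 0, 0⟩
    have h3 := hz0 x.c (by rw [← hx]; congr 1; ext <;> simp [h1, h2])
    ext <;> simp [h1, h2, h3]
  exact ⟨MulEquiv.ofBijective Φ (hΦ.bijective_of_nat_card_le (by rw [hT, card_hs rfl]; rfl))⟩

end H17.L34
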