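import Mathlib
import Cfsg.Agent.H17.Stab2
import Cfsg.Agent.H17.Constr

/-!
# `p`-stability with an acting subgroup is weak stability of `G / O_{p'}(G)`
-/

set_option autoImplicit false
set_option linter.unusedSectionVars false

namespace H17
open Subgroup H26 Cfsg

variable {G G' : Type*} [Group G] [Group G'] {p : ℕ} [Fact p.Prime] [Finite G]

theorem isPStable_iff {f : G →* G'} (hf : Function.Surjective f) (hk : f.ker = pPrimeCore p G) :
    IsPStable p G ↔ Odd p ∧ pCore p G ≠ ⊥ ∧ WeaklyStable p G' := by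
  have hc : (Nat.card f.ker).Coprime p := hk ▸ H02.pPrimeCore_coprime p G
  refine and_congr_right fun _ => and_congr_right fun _ => ⟨fun h E _ hE A' hA' hq => ?_, fun h => ?_⟩
  · obtain ⟨A, hA, rfl, -⟩ := exists_lift_pSubgroup hf hA'
    obtain ⟨P, hP, hAP⟩ := exists_lift_pSubgroup_normalized f (Q := E) hA (norm_of_normal _ _)
    have e1 := map_eq_of_isSyl_comap hf hE hP
    have e2 := normalizer_map_of_isSyl hf hE hP
    have hn : (pPrimeCore p G ⊔ P).Normal := by
      rw [← hk, sup_comm, ← comap_map_eq, e1]; infer_instance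
    have h1 : ⁅⁅P, A⁆, A⁆ ≤ P :=
      (commutator_mono (commutator_le_of_le_normalizer hAP) le_rfl).trans (commutator_le_of_le_normalizer hAP)
    have h2 := h A P hA hP.pg (fun a ha x hx => (mem_normalizer_iff.1 (hAP ha) x).1 hx) (by
      refine map_le_iff_le_comap.1 (@le_pCore _ _ _ _ ?_ (hP.pg.map _))
      have := hn.map _ (QuotientGroup.mk'_surjective (pPrimeCore p G))
      rwa [Subgroup.map_sup, (Subgroup.map_eq_bot_iff _).2 (QuotientGroup.ker_mk' _).ge, bot_sup_eq] at this)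
      hn (eq_bot_iff.2 fun x hx => injOn_of_coprime_ker f hc hP.pg (h1 hx) (one_mem P) (by
        have : f x ∈ (⊥ : Subgroup G') := by
          rw [← hq, ← e1, ← Subgroup.map_commutator, ← Subgroup.map_commutator]; exact ⟨x, hx, rfl⟩
        rw [mem_bot.1 this, map_one]))
    have hs : Function.Surjective (f.comp 𝐍(P).subtype) := fun y => by
      obtain ⟨x, hx, rfl⟩ := e2.ge (norm_of_normal ⊤ E (mem_top y))
      exact ⟨⟨x, hx⟩, rfl⟩
    haveI := (opMod_normal p (𝐂(P).subgroupOf 𝐍(P))).map _ hs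
    refine le_trans ?_ (le_opMod (D := (opMod p (𝐂(P).subgroupOf 𝐍(P))).map (f.comp 𝐍(P).subtype)) ?_)
    · rintro _ ⟨a, ha, rfl⟩
      exact ⟨⟨a, hAP ha⟩, h2 ⟨_, ha, rfl⟩, rfl⟩
    · rintro _ ⟨x, hx, rfl⟩
      obtain ⟨k, hk⟩ := exists_pow_mem_of_mem_opMod hx
      exact ⟨k, e1 ▸ cent_map_le f P ⟨_, hk, map_pow (f.comp 𝐍(P).subtype) x _⟩⟩
  · intro A P hA hP hn _ hN hq
    haveI : (P.map f).Normal := by
      have := hN.map f hf
      rwa [Subgroup.map_sup, (Subgroup.map_eq_bot_iff _).2 hk.ge, bot_sup_eq] at this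
    have h1 := h _ (hP.map f) _ (hA.map f) (by
      rw [← Subgroup.map_commutator, ← Subgroup.map_commutator, hq, Subgroup.map_bot])
    refine map_le_iff_le_comap.2 (le_trans ?_
      (le_opMod (D := (opMod p 𝐂(P.map f)).comap (f.comp 𝐍(P).subtype)) fun x hx => ?_))
    · exact fun a ha => h1 ⟨a, ha, rfl⟩
    · obtain ⟨k, hk⟩ := exists_pow_mem_of_mem_opMod hx
      refine ⟨k, mem_cent_of_conj fun y hy => injOn_of_coprime_ker f hc hP
        ((mem_normalizer_iff.1 (x ^ p ^ k).2 y).1 hy) hy ?_⟩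
      rw [map_mul, map_mul, map_inv]
      rw [← map_pow] at hk
      exact conj_eq_of_cent hk (mem_map_of_mem f hy)

theorem IsPStable.weaklyStable (h : IsPStable p G) : WeaklyStable p (G ⧸ pPrimeCore p G) :=
  ((isPStable_iff (QuotientGroup.mk'_surjective _) (QuotientGroup.ker_mk' _)).1 h).2.2

end H17
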