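import Mathlib
import Cfsg.Agent.H17.TI1
import Cfsg.Agent.H18.ZK
import Cfsg.Agent.H18.Sharp3Even
import Cfsg.Agent.H17.Bin4
import Cfsg.Agent.L.PSL2Sub
import Cfsg.Agent.H08.BaerSuzuki
import Cfsg.Agent.H08.Dihedral
import Cfsg.Agent.H02.FPF

/-!
# A TI-subgroup inverted by many involutions (Bender): counting and identification
-/

set_option autoImplicit false
set_option linter.unusedSectionVars false

open Subgroup H18 MulAction
open scoped MatrixGroups

namespace H17.TI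

variable {G : Type*} [Group G] [Finite G]

/-- the elements of `C(z)` outside `N(M)` -/
abbrev T (M : Subgroup G) (z : G) : Type _ := {c : G // c ∉ normalizer (M : Set G) ∧ c * z = z * c}

/-- `C_N(z)` -/
abbrev A (M : Subgroup G) (z : G) : Subgroup G := normalizer (M : Set G) ⊓ centralizer {z}

theorem mem_A {M : Subgroup G} {z a : G} : a ∈ A M z ↔ a ∈ normalizer (M : Set G) ∧ a * z = z * a := by
  rw [mem_inf, mem_centralizer_singleton_iff]

theorem card_split {α : Type*} [Finite α] (p q : α → Prop) :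
    Nat.card {x // p x} = Nat.card {x // q x ∧ p x} + Nat.card {x // ¬ q x ∧ p x} := by
  classical
  rw [← Nat.card_sum]
  exact Nat.card_congr ((Equiv.sumCompl (fun x : {x // p x} => q x.1)).symm.trans (Equiv.sumCongr
    ((Equiv.subtypeSubtypeEquivSubtypeInter p q).trans (Equiv.subtypeEquivRight fun _ => and_comm))
    ((Equiv.subtypeSubtypeEquivSubtypeInter p (fun x => ¬ q x)).trans (Equiv.subtypeEquivRight fun _ => and_comm))))

theorem card_C (M : Subgroup G) (z : G) :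
    Nat.card (centralizer ({z} : Set G)) = Nat.card (A M z) + Nat.card (T M z) := by
  have := card_split (fun c : G => c * z = z * c) (fun c => c ∈ normalizer (M : Set G))
  rw [← Nat.card_congr (Equiv.subtypeEquivRight (fun a => mem_A (M := M) (z := z) (a := a)))] at this
  rw [← this]
  exact Nat.card_congr (Equiv.subtypeEquivRight fun a => mem_centralizer_singleton_iff)

namespace Hyp

variable {M : Subgroup G} {z : G} (h : Hyp M z)
include h

theorem card_N : Nat.card (normalizer (M : Set G)) = Nat.card M * Nat.card (A M z) := by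
  rw [← Nat.card_prod]
  symm
  refine Nat.card_congr (Equiv.ofBijective (fun p => ⟨p.1.1 * p.2.1, mul_mem (le_normalizer p.1.2) p.2.2.1⟩)
    ⟨?_, ?_⟩)
  · rintro ⟨⟨m, hm⟩, a, ha⟩ ⟨⟨n, hn⟩, b, hb⟩ e
    have e' : m * a = n * b := congrArg Subtype.val e
    have e1 : n⁻¹ * m = b * a⁻¹ := by
      calc _ = n⁻¹ * (m * a) * a⁻¹ := by group
        _ = _ := by rw [e']; group
    obtain rfl := inv_mul_eq_one.1 (h.cz (mul_mem (inv_mem hn) hm)
      (e1 ▸ (mem_A.1 (mul_mem hb (inv_mem ha))).2))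
    obtain rfl := mul_left_cancel e'
    rfl
  · rintro ⟨n, hn⟩
    obtain ⟨m, hm, a, ea, rfl⟩ := h.fac n hn
    exact ⟨⟨⟨m, hm⟩, a, mem_A.2 ⟨h.memA hm hn, ea⟩⟩, rfl⟩

theorem card_G : Nat.card G = Nat.card (normalizer (M : Set G)) + Nat.card M * Nat.card (T M z) * Nat.card M := by
  have e := card_split (fun _ : G => True) (fun c => c ∈ normalizer (M : Set G))
  rw [Nat.card_congr (Equiv.subtypeUnivEquiv fun _ => trivial)] at e
  rw [e, ← Nat.card_prod, ← Nat.card_prod]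
  congr 1
  · exact Nat.card_congr (Equiv.subtypeEquivRight fun a => by simp)
  symm
  refine Nat.card_congr (Equiv.ofBijective (fun p => ⟨p.1.1.1 * p.1.2.1 * p.2.1, fun e => p.1.2.2.1
    (h.memA p.1.1.2 (by simpa using mul_mem e (inv_mem (le_normalizer p.2.2)))), trivial⟩) ⟨?_, ?_⟩)
  · rintro ⟨⟨⟨m, hm⟩, c, hc⟩, n, hn⟩ ⟨⟨⟨m', hm'⟩, c', hc'⟩, n', hn'⟩ e
    obtain ⟨rfl, rfl, rfl⟩ := h.dec_uniq hm hn hm' hn' hc.1 hc.2 hc'.2 (congrArg Subtype.val e)
    rfl
  · rintro ⟨g, hg, -⟩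
    obtain ⟨m, hm, c, hc, ec, n, hn, rfl⟩ := h.dec hg
    exact ⟨⟨⟨⟨m, hm⟩, c, hc, ec⟩, n, hn⟩, rfl⟩

theorem card_I : Nat.card {g : G // orderOf g = 2} = Nat.card M + Nat.card M * Nat.card (T M z) := by
  rw [card_split (fun g : G => orderOf g = 2) (fun c => c ∈ normalizer (M : Set G)), ← Nat.card_prod]
  congr 1
  · symm
    refine Nat.card_congr (Equiv.ofBijective (fun m => ⟨m.1 * z, mul_mem (le_normalizer m.2) h.zN,
      ord2.2 (h.mz m.2)⟩) ⟨fun m n e => Subtype.ext (mul_right_cancel (congrArg Subtype.val e)), ?_⟩)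
    rintro ⟨s, hs, s2⟩
    obtain ⟨m, hm, rfl⟩ := h.invN hs (ord2.1 s2).1 (ord2.1 s2).2
    exact ⟨⟨m, hm⟩, rfl⟩
  symm
  refine Nat.card_congr (Equiv.ofBijective (fun p => ⟨p.1.1 * p.2.1 * p.1.1⁻¹, fun e => p.2.2.1
    (h.memA p.1.2 (by simpa using mul_mem e (le_normalizer p.1.2))), ord2.2 ⟨?_, fun e => p.2.2.1 ?_⟩⟩) ⟨?_, ?_⟩)
  · calc _ = p.1.1 * (p.2.1 * p.2.1) * p.1.1⁻¹ := by group
      _ = 1 := by rw [h.cent p.2.2.1 p.2.2.2]; group
  · rw [show p.2.1 = 1 by simpa using e]; exact one_mem _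
  · rintro ⟨⟨m, hm⟩, c, hc⟩ ⟨⟨m', hm'⟩, c', hc'⟩ e
    obtain ⟨rfl, rfl, -⟩ := h.dec_uniq hm (inv_mem hm) hm' (inv_mem hm') hc.1 hc.2 hc'.2 (congrArg Subtype.val e)
    rfl
  · rintro ⟨g, hg, g2⟩
    obtain ⟨m, hm, c, hc, ec, rfl⟩ := h.invol_conj hg (ord2.1 g2).1
    exact ⟨⟨⟨m, hm⟩, c, hc, ec⟩, rfl⟩

theorem odd_M : Odd (Nat.card M) := by
  have := Fact.mk Nat.prime_two
  rw [← Nat.not_even_iff_odd, even_iff_two_dvd]
  intro e
  obtain ⟨x, hx⟩ := exists_prime_orderOf_dvd_card' 2 e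
  have := ord2.1 hx
  exact this.2 (Subtype.ext (h.sq1 x.2 (congrArg Subtype.val this.1)))

theorem three_le : 3 ≤ Nat.card M := by
  have h1 := (one_lt_card_iff_ne_bot M).2 h.ne
  obtain ⟨k, hk⟩ := h.odd_M
  omega

theorem isMulComm : IsMulCommutative M := ⟨⟨fun a b => Subtype.ext (h.comm a.2 b.2)⟩⟩

theorem case1 {c : G} (hc : c ∉ normalizer (M : Set G)) (ec : c * z = z * c)
    (hk : ∀ d, d ∉ normalizer (M : Set G) → d * z = z * d → c * d ∈ normalizer (M : Set G)) :
    ∃ (F : Type) (_ : Field F) (_ : Fintype F) (p : ℕ) (_ : Fact p.Prime) (_ : CharP F p),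
      Fintype.card F = Nat.card M ∧ Cfsg.IsElementaryAbelian p M ∧
        (Nonempty (G ≃* (GL (Fin 2) F ⧸ Subgroup.center (GL (Fin 2) F))) ∨
         (Fintype.card F % 4 = 1 ∧ Nonempty (G ≃* Matrix.ProjectiveSpecialLinearGroup (Fin 2) F))) := by
  classical
  have c2 := h.cent hc ec
  have hT : Nat.card (T M z) = Nat.card (A M z) := by
    symm
    refine Nat.card_congr (Equiv.ofBijective (fun a => ⟨c * a.1, fun e => hc (by
      simpa using mul_mem e (inv_mem a.2.1)), by rw [mul_assoc, (mem_A.1 a.2).2, ← mul_assoc, ec, mul_assoc]⟩)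
      ⟨fun a b e => Subtype.ext (mul_left_cancel (congrArg Subtype.val e)), ?_⟩)
    rintro ⟨d, hd, ed⟩
    refine ⟨⟨c * d, mem_A.2 ⟨hk d hd ed, by rw [mul_assoc, ed, ← mul_assoc, ec, mul_assoc]⟩⟩, Subtype.ext ?_⟩
    change c * (c * d) = d
    rw [← mul_assoc, c2, one_mul]
  set N := normalizer (M : Set G) with hN
  have := Fintype.ofFinite (G ⧸ N)
  have hΩ : Nat.card M + 1 = Nat.card (G ⧸ N) := by
    have e1 := h.card_G
    have e2 := h.card_N
    have e3 := N.card_mul_index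
    rw [← hN] at e1 e2
    rw [hT] at e1
    refine Nat.eq_of_mul_eq_mul_left (Nat.card_pos (α := N)) ?_
    change _ = _ * N.index
    rw [e3, e1, e2]; ring
  have hsm : ∀ g x : G, g • (x : G ⧸ N) = x ↔ x⁻¹ * g * x ∈ N := fun g x => by
    rw [Quotient.smul_coe, eq_comm, QuotientGroup.eq, smul_eq_mul, mul_assoc]
  have hs1 : ∀ g : G, g • ((1 : G) : G ⧸ N) = (1 : G) ↔ g ∈ N := fun g => by rw [hsm]; simp
  have hF : IsKer ((1 : G) : G ⧸ N) M := isKer_of_free (fun k hk => (hs1 k).2 (le_normalizer hk))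
    (fun g hg k hk => cj ((hs1 g).1 hg) hk) (fun o ho k hk e => by
      obtain ⟨x, rfl⟩ := QuotientGroup.mk_surjective o
      exact h.free (g := x) (fun hx => ho (by rw [eq_comm, QuotientGroup.eq]; simpa using hx)) hk
        ((hsm k x).1 e)) hΩ
  have hZ : Z3 G (G ⧸ N) := hF.z3 fun g hg k hk k1 e => h.frob hc ec ((hs1 g).1 hg) hk k1 e
  have hab : ((1 : G) : G ⧸ N) ≠ (c : G) := fun e => hc (by rw [QuotientGroup.eq] at e; simpa using e)
  have hci : ∀ a ∈ A M z, c * a * c⁻¹ = a⁻¹ := fun a ha => h.cinv hc ec ha.1 (mem_A.1 ha).2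
  have hst : st2 G ((1 : G) : G ⧸ N) (c : G) = A M z := by
    ext g
    rw [mem_st2, hs1, hsm]
    have k : ∀ a ∈ A M z, c⁻¹ * a * c ∈ N := fun a ha => by
      have := hci a ha
      rw [inv_self c2] at this ⊢
      rw [this]; exact inv_mem ha.1
    refine ⟨fun ⟨h1, h2⟩ => ?_, fun hg => ⟨hg.1, k g hg⟩⟩
    obtain ⟨m, hm, a, ea, rfl⟩ := h.fac g h1
    have ha := mem_A.2 ⟨h.memA hm h1, ea⟩
    rw [h.free hc hm (by simpa [mul_assoc] using mul_mem h2 (inv_mem (k a ha))), one_mul]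
    exact ha
  have hev : 2 ∣ Nat.card (st2 G ((1 : G) : G ⧸ N) (c : G)) := by
    rw [hst, ← ord2.2 ⟨h.z2, h.z1⟩]
    exact orderOf_dvd_natCard _ (mem_A.2 ⟨h.zN, rfl⟩)
  have h3 := h.three_le
  rw [Nat.card_eq_fintype_card (α := G ⧸ N)] at hΩ
  have hm : 3 ≤ Fintype.card (G ⧸ N) := by omega
  have hle := hF.card_le_two_mul hZ hab hev
  obtain ⟨-, p, f, hp, hf, hpw, hcard⟩ := hF.elemAb_of_large hZ hab h.ne hle
  have := Fact.mk hp
  have hel : Cfsg.IsElementaryAbelian p M := ⟨h.isMulComm, hpw⟩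
  obtain ⟨r, hr⟩ := hF.card_dvd hZ hab
  by_cases hd : 2 * Nat.card (st2 G ((1 : G) : G ⧸ N) (c : G)) ≤ Fintype.card (G ⧸ N) - 2
  · obtain ⟨e1, -, e2, e3⟩ := hF.inverts_of_even_half hZ hab hev hd
    have := hZ.faithful hm
    obtain ⟨q, e, K, _, _, hq, -, -, hK, hK2, he⟩ := hF.psl2_of_half hZ hab e1 e2 e3
    have hKM : Fintype.card K = Nat.card M := by omega
    refine ⟨K, inferInstance, inferInstance, p, inferInstance, ?_, hKM, hel, Or.inr ⟨by omega, he⟩⟩
    obtain ⟨n, h1, h2⟩ := FiniteField.card K (ringChar K)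
    have : p = ringChar K := (Nat.prime_dvd_prime_iff_eq hp h1).1 (hp.dvd_of_dvd_pow (n := n) (by
      rw [← h2, hKM, hcard]; exact dvd_pow_self p (by omega)))
    rw [this]; infer_instance
  · have hd2 : Nat.card (st2 G ((1 : G) : G ⧸ N) (c : G)) + 2 = Fintype.card (G ⧸ N) := by
      rcases r with _ | _ | r
      · omega
      · omega
      · exfalso; apply hd
        rw [show Fintype.card (G ⧸ N) - 2 = Nat.card M - 1 by omega, hr]
        nlinarith
    have hS := sharp3_of_card hZ hab hd2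
    let K := GaloisField p f
    have := Fintype.ofFinite K
    have hK : Fintype.card K = Nat.card M := by
      rw [← Nat.card_eq_fintype_card, hcard]; exact GaloisField.card p f (by omega)
    refine ⟨K, inferInstance, this, p, inferInstance, inferInstance, hK, hel, Or.inl ?_⟩
    exact hS.pgl2_of_inverts hm hab.symm (j := c) (by simp) (by simp [c2])
      (fun k k1 k2 => hci k (hst ▸ (show k ∈ st2 G _ _ from ⟨k1, k2⟩))) (by omega)

omit h in
theorem arith {n t m i b : ℕ} (h1 : n = 2 + t) (hb : n = 2 ^ b) (ht : 0 < t) (hm : Odd m) (h3 : 3 ≤ m)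
    (h2 : i * n = m * 2 + m * t * m) (h4 : i ≤ m + m * t) :
    (m = n + 1 ∧ i = m + m * t) ∨ (2 * m = n + 2 ∧ i + m = m * m) := by
  obtain ⟨k, rfl⟩ : ∃ k, m = k + 1 := ⟨m - 1, by omega⟩
  have hc : Nat.Coprime n (k + 1) := hb ▸ (Nat.coprime_two_left.2 hm).pow_left b
  have e : i * n + (k + 1) * (2 * k) = n * ((k + 1) * (k + 1)) := by rw [h2, h1]; ring
  obtain ⟨c, hc⟩ : n ∣ 2 * k := hc.dvd_of_dvd_mul_left ((Nat.dvd_add_right (dvd_mul_left n i)).1
    (e ▸ dvd_mul_right _ _))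
  have e2 : i + (k + 1) * c = (k + 1) * (k + 1) :=
    Nat.eq_of_mul_eq_mul_left (show 0 < n by omega) (by rw [← e, hc]; ring)
  have e3 : k ≤ c + t := by
    have : (k + 1) * (k + 1) ≤ (k + 1) * (c + t + 1) := by rw [← e2]; nlinarith
    have := Nat.le_of_mul_le_mul_left this (by omega)
    omega
  rcases c with _ | _ | _ | c
  · omega
  · right; omega
  · left; refine ⟨by omega, ?_⟩
    obtain rfl : k = t + 2 := by omega
    nlinarith
  · exfalso; rw [h1] at hc; nlinarith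

theorem case2 {c : G} (hc : c ∉ normalizer (M : Set G)) (ec : c * z = z * c)
    (hA : ∀ a ∈ normalizer (M : Set G), a * z = z * a → a = 1 ∨ a = z) :
    (∃ (F : Type) (_ : Field F) (_ : Fintype F) (e : ℕ), 1 < e ∧ Fintype.card F = 2 ^ e ∧ IsCyclic M ∧
        Nat.card M = 2 ^ e + 1 ∧ Nonempty (G ≃* Matrix.ProjectiveSpecialLinearGroup (Fin 2) F)) ∨
    (∃ (d : ℕ) (E : Subgroup G), 1 ≤ d ∧ E.Normal ∧ Cfsg.IsElementaryAbelian 2 E ∧ Nat.card E = 2 ^ (2 * d) ∧
        E ⊓ normalizer (M : Set G) = ⊥ ∧ E ⊔ normalizer (M : Set G) = ⊤ ∧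
        Nonempty (normalizer (M : Set G) ≃* DihedralGroup (2 ^ d + 1))) := by
  classical
  have := Fact.mk Nat.prime_two
  have hz := ord2.2 ⟨h.z2, h.z1⟩
  have hA2 : Nat.card (A M z) = 2 := by
    rw [← hz, ← Nat.card_zpowers]
    congr 2
    refine le_antisymm (fun a ha => ?_) (zpowers_le.2 (mem_A.2 ⟨h.zN, rfl⟩))
    rcases hA a ha.1 (mem_A.1 ha).2 with rfl | rfl
    exacts [one_mem _, mem_zpowers _]
  have hC : ∀ d, d * z = z * d → d * d = 1 := fun d ed => by
    by_cases hd : d ∈ normalizer (M : Set G)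
    · rcases hA d hd ed with rfl | rfl
      exacts [one_mul _, h.z2]
    · exact h.cent hd ed
  obtain ⟨b, hb⟩ := IsPGroup.iff_card.1 (show IsPGroup 2 (centralizer ({z} : Set G)) from fun g =>
    ⟨1, Subtype.ext (by simpa [sq] using hC g (mem_centralizer_singleton_iff.1 g.2))⟩)
  have e1 := card_C M z
  have e2 := h.card_G
  have eN := h.card_N
  have e3 := h.card_I
  have e4 := (centralizer ({z} : Set G)).index_mul_card
  have e5 := card_split (fun g : G => orderOf g = 2) (fun g => IsConj z g)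
  rw [Nat.card_congr (Equiv.subtypeEquivRight (p := fun g => IsConj z g ∧ orderOf g = 2)
    (q := fun g => IsConj z g) fun g => ⟨fun e => e.1, fun e => ⟨e, by
      obtain ⟨u, rfl⟩ := isConj_iff.1 e
      exact ((MulAut.conj u).orderOf_eq z).trans hz⟩⟩), H27.card_isConj, H27.cs] at e5
  rw [hA2] at e1 eN
  have ht : 0 < Nat.card (T M z) := Nat.card_pos_iff.2 ⟨⟨⟨c, hc, ec⟩⟩, inferInstance⟩
  have hb2 : 2 ≤ b := by
    rcases b with _ | _ | b <;> omega
  have hmo := h.odd_M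
  rcases arith e1 hb ht hmo h.three_le (by rw [e4, e2, eN]) (show (centralizer ({z} : Set G)).index ≤ _ by omega)
    with ⟨f1, f2⟩ | ⟨f1, f2⟩
  · left
    have hone : ∀ s : G, s * s = 1 → s ≠ 1 → ∃ u, s = u * z * u⁻¹ := fun s s2 s1 => by
      by_contra hne
      have : 0 < Nat.card {g : G // ¬ IsConj z g ∧ orderOf g = 2} := Nat.card_pos_iff.2
        ⟨⟨⟨s, fun e => hne (let ⟨u, e⟩ := isConj_iff.1 e; ⟨u, e.symm⟩), ord2.2 ⟨s2, s1⟩⟩⟩, inferInstance⟩
      omega
    have hcs : ∀ s : G, s * s = 1 → s ≠ 1 → Nat.card (centralizer ({s} : Set G)) = 2 ^ b ∧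
        ∀ d, d * s = s * d → d * d = 1 := fun s s2 s1 => by
      obtain ⟨u, rfl⟩ := hone s s2 s1
      refine ⟨?_, fun d ed => ?_⟩
      · have := (centralizer ({u * z * u⁻¹} : Set G)).index_mul_card
        rw [show (centralizer ({u * z * u⁻¹} : Set G)).index = (centralizer ({z} : Set G)).index from
          H27.cs_conj _ _, ← e4, hb] at this
        exact Nat.eq_of_mul_eq_mul_left (Nat.pos_of_ne_zero FiniteIndex.index_ne_zero) this
      · have := hC (u⁻¹ * d * u) (by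
          calc _ = u⁻¹ * (d * (u * z * u⁻¹)) * u := by group
            _ = _ := by rw [ed]; group)
        calc _ = u * (u⁻¹ * d * u * (u⁻¹ * d * u)) * u⁻¹ := by group
          _ = 1 := by rw [this]; group
    have hodd : ¬ 2 ∣ (centralizer ({z} : Set G)).index := by
      have : Odd (1 + Nat.card (T M z)) := by
        obtain ⟨k, hk⟩ := hmo
        exact ⟨k - 1, by omega⟩
      rw [f2, ← mul_one_add, ← even_iff_two_dvd, Nat.not_even_iff_odd]
      exact hmo.mul this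
    let P : Sylow 2 G := (IsPGroup.of_card hb).toSylow hodd
    have hQ : ∀ Q : Sylow 2 G, Nat.card Q = 2 ^ b ∧ ∀ x ∈ (Q : Subgroup G), x * x = 1 := fun Q => by
      refine ⟨(Sylow.card_eq_multiplicity Q).trans ((Sylow.card_eq_multiplicity P).symm.trans hb), fun x hx => ?_⟩
      obtain ⟨g, rfl⟩ := exists_smul_eq G P Q
      obtain ⟨y, hy, rfl⟩ := hx
      have := hC y (mem_centralizer_singleton_iff.1 hy)
      change g * y * g⁻¹ * (g * y * g⁻¹) = 1
      calc _ = g * (y * y) * g⁻¹ := by group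
        _ = 1 := by rw [this]; group
    have hQC : ∀ Q : Sylow 2 G, ∀ x ∈ (Q : Subgroup G), x ≠ 1 → (Q : Subgroup G) = centralizer {x} :=
      fun Q x hx x1 => eq_of_le_of_card_ge (fun y hy => mem_centralizer_singleton_iff.2 (by
        rw [← inv_self ((hQ Q).2 _ (mul_mem hy hx)), mul_inv_rev, inv_self ((hQ Q).2 _ hx),
          inv_self ((hQ Q).2 _ hy)])) (by rw [(hQ Q).1, (hcs x ((hQ Q).2 _ hx) x1).1])
    have hn : Nat.card (Sylow 2 G) = Nat.card P + 1 := by
      have := Fintype.ofFinite (Sylow 2 G)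
      have e : Nat.card (Σ Q : Sylow 2 G, {x : (Q : Subgroup G) // x ≠ 1}) = Nat.card {g : G // orderOf g = 2} := by
        refine Nat.card_congr (Equiv.ofBijective (fun p => ⟨p.2.1.1, ord2.2 ⟨(hQ _).2 _ p.2.1.2,
          fun e => p.2.2 (Subtype.ext e)⟩⟩) ⟨?_, ?_⟩)
        · rintro ⟨Q, ⟨x, hx⟩, x1⟩ ⟨R, ⟨y, hy⟩, y1⟩ e
          obtain rfl : x = y := congrArg Subtype.val e
          obtain rfl : Q = R := Sylow.ext ((hQC Q x hx fun e => x1 (Subtype.ext e)).trans
            (hQC R x hy fun e => x1 (Subtype.ext e)).symm)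
          rfl
        · rintro ⟨s, hs⟩
          obtain ⟨Q, hQ⟩ := IsPGroup.exists_le_sylow (P := zpowers s) (IsPGroup.of_card (n := 1)
            (by rw [Nat.card_zpowers, hs, pow_one]))
          exact ⟨⟨Q, ⟨s, hQ (mem_zpowers s)⟩, fun e => (ord2.1 hs).2 (congrArg Subtype.val e)⟩, rfl⟩
      have e' : ∀ Q : Sylow 2 G, Nat.card {x : (Q : Subgroup G) // x ≠ 1} = 1 + Nat.card (T M z) := fun Q => by
        have := Fintype.ofFinite (Q : Subgroup G)
        rw [Nat.card_eq_fintype_card, Fintype.card_subtype_compl, Fintype.card_subtype_eq,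
          ← Nat.card_eq_fintype_card, (hQ Q).1]
        omega
      rw [Nat.card_sigma, Finset.sum_congr rfl fun Q _ => e' Q, Finset.sum_const, smul_eq_mul, e3,
        ← mul_one_add, Finset.card_univ, ← Nat.card_eq_fintype_card] at e
      rw [Nat.eq_of_mul_eq_mul_right (by omega) e, f1, (hQ P).1, hb]
    have hF := isKer_sylow P (fun Q hne => by
      by_contra h0
      obtain ⟨⟨x, hx⟩, x1⟩ := ne_bot_iff_exists_ne_one.1 h0
      have x1' : x ≠ 1 := fun e => x1 (Subtype.ext e)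
      exact hne (Sylow.ext ((hQC Q x hx.2 x1').trans (hQC P x hx.1 x1').symm))) hn
    have hZ := hF.z3 fun g _ k hk k1 e => hQC P k hk k1 ▸ mem_centralizer_singleton_iff.2 e
    have := Fintype.ofFinite (Sylow 2 G)
    rw [Nat.card_eq_fintype_card, (hQ P).1] at hn
    have hm : 3 ≤ Fintype.card (Sylow 2 G) := by omega
    obtain ⟨Q, hab⟩ := Fintype.exists_ne_of_one_lt_card (by omega) P
    have e6 := hF.card_group hZ hab.symm
    rw [(hQ P).1, ← e4, f2, f1, hb, ← mul_one_add, mul_right_comm] at e6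
    have hS := sharp3_of_card hZ hab.symm (by
      have := Nat.eq_of_mul_eq_mul_left (by positivity) e6
      omega)
    let K := GaloisField 2 b
    have := Fintype.ofFinite K
    have hK : Fintype.card K = 2 ^ b := by
      rw [← Nat.card_eq_fintype_card]; exact GaloisField.card 2 b (by omega)
    obtain ⟨e⟩ := (hS.pgl2_of_odd hm (by rw [hn, ← hb, ← f1]; exact hmo)).2 K (by omega)
    obtain ⟨e'⟩ := H19.nonempty_psl_equiv_pgl_of_even (F := K) (by
      rw [hK]; exact (Nat.even_pow' (by omega)).2 even_two)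
    let φ := e.trans e'.symm
    refine ⟨K, inferInstance, this, b, hb2, hK, ?_, by rw [f1, hb], ⟨φ⟩⟩
    have hX := (φ.subgroupMap M)
    rcases Bin.struct (X := M.map (φ : G →* PSL(2, K))) (Nat.card_congr hX.toEquiv ▸ hmo)
      (fun e => h.ne ((map_eq_bot_iff_of_injective _ φ.injective).1 e)) with ⟨s, -, s2, s3⟩ | ⟨s2, -⟩
    · have := L.Dk.isCyclic_torusBar s2
      have := Subgroup.isCyclic_of_le (show M.map (φ : G →* PSL(2, K)) ≤ L.Dk.torusBar s from fun x hx => by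
        obtain ⟨g, rfl⟩ := QuotientGroup.mk_surjective x
        exact ⟨g, s3 g hx, rfl⟩)
      exact isCyclic_of_surjective hX.symm hX.symm.surjective
    · exact absurd (CharTwo.two_eq_zero) s2
  right
  obtain ⟨d, rfl⟩ : ∃ d, b = d + 1 := ⟨b - 1, by omega⟩
  have hm : Nat.card M = 2 ^ d + 1 := by omega
  have hG : Nat.card G = 2 ^ (2 * d) * Nat.card (normalizer (M : Set G)) := by
    have : (centralizer ({z} : Set G)).index = (2 ^ d + 1) * 2 ^ d := by rw [hm] at f2; linarith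
    rw [← e4, eN, hb, hm, this]; ring
  have hV : Nat.card {g : G // ¬ IsConj z g ∧ orderOf g = 2} + 1 = 2 ^ (2 * d) := by
    have : Nat.card (T M z) + 2 = 2 * 2 ^ d := by omega
    rw [hm] at e3 f2
    rw [two_mul d, pow_add]
    nlinarith
  let Q := Cfsg.pCore 2 G
  have hQn : Q.Normal := inferInstance
  have hQM : ∀ x ∈ Q, x ∈ M → x = 1 := fun x hx hxM => by
    obtain ⟨k, hk⟩ := H02.pCore_isPGroup 2 G ⟨x, hx⟩
    exact orderOf_eq_one_iff.1 (Nat.eq_one_of_dvd_coprimes ((Nat.coprime_two_left.2 hmo).pow_left k)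
      (orderOf_dvd_of_pow_eq_one (congrArg Subtype.val hk)) (orderOf_dvd_natCard _ hxM))
  have hzQ : z ∉ Q := fun hz => by
    obtain ⟨x, hx, x1⟩ := h.exM
    refine x1 (h.sq1 hx (hQM _ ?_ (mul_mem hx hx)))
    have := mul_mem (hQn.conj_mem z hz x) (inv_mem hz)
    rwa [h.conj_z hx, mul_inv_cancel_right] at this
  have hQN : ∀ x ∈ Q, x ∈ normalizer (M : Set G) → x = 1 := fun x hx hN => by
    obtain ⟨m, hm, a, ea, rfl⟩ := h.fac x hN
    rcases hA a (h.memA hm hN) ea with rfl | rfl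
    · exact hQM _ hx (by simpa using hm)
    · obtain ⟨y, hy, rfl⟩ := h.sqrt hm
      rw [← h.conj_z hy] at hx
      exact absurd (by simpa [mul_assoc] using hQn.conj_mem _ hx y⁻¹) hzQ
  have hVQ : ∀ v : {g : G // ¬ IsConj z g ∧ orderOf g = 2}, v.1 ∈ Q := by
    rintro ⟨v, hv, v2⟩
    by_contra hvQ
    obtain ⟨r, hr, r2, y, hy, ey, -⟩ := H08.exists_inverted_odd_prime_of_notMem_pCore (ord2.1 v2).1 hvQ
    have := Fact.mk hr
    have hi : M.index = 2 ^ (2 * d + 1) := by
      refine Nat.eq_of_mul_eq_mul_right (Nat.card_pos (α := M)) ?_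
      rw [M.index_mul_card, hG, eN]; ring
    obtain ⟨R, hR⟩ := (H27.exists_sylow_le_iff (p := r) (H := M)).2 (by
      rw [hi]; exact fun e => r2 ((Nat.prime_dvd_prime_iff_eq hr Nat.prime_two).1 (hr.dvd_of_dvd_pow e)))
    obtain ⟨S, hS⟩ := IsPGroup.exists_le_sylow (P := zpowers y) (IsPGroup.of_card (n := 1)
      (by rw [Nat.card_zpowers, hy, pow_one]))
    obtain ⟨g, rfl⟩ := exists_smul_eq G R S
    obtain ⟨x, hx, rfl⟩ := hS (mem_zpowers y)
    change v * (g * x * g⁻¹) * v⁻¹ = (g * x * g⁻¹)⁻¹ at ey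
    have e : g⁻¹ * v * g * x * (g⁻¹ * v * g)⁻¹ = x⁻¹ := by
      calc _ = g⁻¹ * (v * (g * x * g⁻¹) * v⁻¹) * g := by group
        _ = _ := by rw [ey]; group
    obtain ⟨m, -, e'⟩ := h.conjN (h.ti _ x (hR hx) (by rintro rfl; simp at hy; exact hr.one_lt.ne hy)
      (e ▸ inv_mem (hR hx))) (by
        calc _ = g⁻¹ * (v * v) * g := by group
          _ = 1 := by rw [(ord2.1 v2).1]; group) (fun e => (ord2.1 v2).2 (by
        calc v = g * (g⁻¹ * v * g) * g⁻¹ := by group
          _ = 1 := by rw [e]; group))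
    exact hv (isConj_iff.2 ⟨g * m, by
      calc _ = g * (m * z * m⁻¹) * g⁻¹ := by group
        _ = v := by rw [← e']; group⟩)
  let f : Q × normalizer (M : Set G) → G := fun p => p.1.1 * p.2.1
  have hf : Function.Injective f := by
    rintro ⟨⟨x, hx⟩, n, hn⟩ ⟨⟨y, hy⟩, k, hk⟩ (e : x * n = y * k)
    have e1 : y⁻¹ * x = k * n⁻¹ := by
      calc _ = y⁻¹ * (x * n) * n⁻¹ := by group
        _ = _ := by rw [e]; group
    obtain rfl := inv_mul_eq_one.1 (hQN _ (mul_mem (inv_mem hy) hx) (e1 ▸ mul_mem hk (inv_mem hn)))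
    obtain rfl := mul_left_cancel e
    rfl
  let g : Option {g : G // ¬ IsConj z g ∧ orderOf g = 2} → Q := fun o => o.elim 1 fun v => ⟨v.1, hVQ v⟩
  have hg : Function.Injective g := by
    rintro (_ | v) (_ | w) e
    · rfl
    · exact absurd (congrArg Subtype.val e).symm (ord2.1 w.2.2).2
    · exact absurd (congrArg Subtype.val e) (ord2.1 v.2.2).2
    · rw [show v = w from Subtype.ext (congrArg (fun x : Q => (x : G)) e)]
  have c1 := Nat.card_le_card_of_injective f hf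
  have c2 := Nat.card_le_card_of_injective g hg
  rw [Nat.card_prod, hG] at c1
  rw [Finite.card_option, hV] at c2
  have hQc : Nat.card Q = 2 ^ (2 * d) := le_antisymm (Nat.le_of_mul_le_mul_right c1 Nat.card_pos) c2
  have hQ2 : ∀ x ∈ Q, x * x = 1 := fun x hx => by
    obtain ⟨_ | v, e⟩ := (hg.bijective_of_nat_card_le (by rw [Finite.card_option, hV, hQc])).2 ⟨x, hx⟩
    · rw [← show (1 : G) = x from congrArg Subtype.val e, one_mul]
    · rw [← show v.1 = x from congrArg Subtype.val e]; exact (ord2.1 v.2.2).1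
  have hQa : IsMulCommutative Q := ⟨⟨fun x y => Subtype.ext (by
    change (x : G) * y = y * x
    rw [← inv_self (hQ2 _ (mul_mem x.2 y.2)), mul_inv_rev, inv_self (hQ2 _ x.2), inv_self (hQ2 _ y.2)])⟩⟩
  refine ⟨d, Q, by omega, hQn, ⟨hQa, fun x hx => by rw [sq, hQ2 x hx]⟩, hQc,
    eq_bot_iff_forall _ |>.2 fun x hx => hQN x hx.1 hx.2, ?_, ?_⟩
  · rw [eq_top_iff]
    intro x _
    obtain ⟨p, rfl⟩ := (hf.bijective_of_nat_card_le (by rw [Nat.card_prod, hG, hQc])).2 x
    exact mul_mem_sup p.1.2 p.2.2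
  · have := H02.isCyclic_of_fpf_abelian (A := M) (V := Q) (by
      rw [← one_lt_card_iff_ne_bot, hQc]; exact Nat.one_lt_two_pow (by omega)) (normalizer_eq_top Q ▸ le_top)
      (fun a ha a1 => H02.fpf_iff.2 fun k hk e => h.odd a ha a1 k (hQ2 k hk) e.symm) (Or.inl h.isMulComm)
    obtain ⟨x, hx⟩ := (Subgroup.isCyclic_iff_exists_zpowers_eq_top M).1 this
    have hxM : x ∈ M := hx ▸ mem_zpowers x
    obtain ⟨e⟩ := H08.nonempty_closure_equiv_dihedral (r := x) (s := z) (n := 2 ^ d + 1) (by omega)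
      (by rw [← Nat.card_zpowers, hx, hm]) h.z2 (h.zinv hxM) (hx ▸ h.zM)
    refine ⟨(MulEquiv.subgroupCongr (le_antisymm (fun n hn => ?_) ((closure_le _).2 ?_))).trans e⟩
    · have h1 : M ≤ closure {x, z} := hx ▸ zpowers_le.2 (subset_closure (by simp))
      obtain ⟨m, hm, a, ea, rfl⟩ := h.fac n hn
      rcases hA a (h.memA hm hn) ea with rfl | rfl
      · exact mul_mem (h1 hm) (one_mem _)
      · exact mul_mem (h1 hm) (subset_closure (by simp))
    · rintro _ (rfl | rfl)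
      exacts [le_normalizer hxM, h.zN]

end Hyp

end H17.TI
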