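import Cfsg.Agent.H22.FStar
import Cfsg.Agent.H22.PGen
import Cfsg.Agent.H03.Tate
import Cfsg.Agent.H03.Focal
import Cfsg.Agent.BG.Api4

/-!
# Groups with a two-generator non-abelian Sylow `p`-subgroup

* `H17.TG.avg` : averaging a fixed point of a subgroup of `p'`-index;
* `H17.TG.npc` : Tate's theorem for a subgroup normalized by a Sylow subgroup;
* `H17.TG.cyc` : a subgroup of a two-generator `p`-group not in the Frattini subgroup is supplemented by a cyclic group.
-/

set_option autoImplicit false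
set_option linter.unusedSectionVars false
open Cfsg BG Subgroup
open scoped commutatorElement

namespace H17.TG
variable {G : Type*} [Group G] [Finite G] {p : ℕ} [hp : Fact p.Prime]

theorem avg {Q N D T : Subgroup G} [Q.Normal] [N.Normal] (hQ : Q ≤ C_(Q)) (hi : ¬ p ∣ T.relIndex D)
    {z : G} (hz : z ∈ Q) (hT : T ≤ C_[z]) (hD : ∀ d ∈ D, ⁅d, z⁆ ∈ N) (hpz : ∃ k, z ^ p ^ k = 1) (hN : z ∉ N) :
    ∃ w ∈ Q, w ∈ C_(D) ∧ w ∉ N := by
  classical
  letI : CommGroup Q := { (inferInstance : Group Q) with mul_comm := fun a b => Subtype.ext (hQ b.2 a a.2) }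
  letI : MulDistribMulAction D Q := MulDistribMulAction.compHom Q ((MulAut.conjNormal : G →* MulAut Q).comp D.subtype)
  have hs : ∀ (d : D) (y : Q), ((d • y : Q) : G) = d * y * (d : G)⁻¹ := fun d y => rfl
  set z' : Q := ⟨z, hz⟩
  haveI : Fintype (D ⧸ MulAction.stabilizer D z') := Fintype.ofFinite _
  set w : Q := ∏ c : D ⧸ MulAction.stabilizer D z', MulAction.ofQuotientStabilizer D z' c with hw
  refine ⟨w, w.2, fun d hd => ?_, fun h => ?_⟩
  · have : (⟨d, hd⟩ : D) • w = w := by
      rw [hw, Finset.smul_prod']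
      simp_rw [← MulAction.ofQuotientStabilizer_smul]
      exact Equiv.prod_comp (MulAction.toPerm (⟨d, hd⟩ : D)) _
    have h1 := congrArg Subtype.val this
    rw [hs] at h1
    exact mul_inv_eq_iff_eq_mul.1 h1
  · let π : Q →* G ⧸ N := (QuotientGroup.mk' N).comp Q.subtype
    let π' : Q →* π.range := π.rangeRestrict
    letI : CommGroup π.range := { (inferInstance : Group π.range) with
      mul_comm := by
        rintro ⟨_, a, rfl⟩ ⟨_, b, rfl⟩
        exact Subtype.ext (show π a * π b = π b * π a by rw [← map_mul, ← map_mul, mul_comm]) }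
    have h1 : π' w = π' z' ^ (MulAction.stabilizer D z').index := by
      rw [hw, map_prod, Finset.prod_congr rfl (g := fun _ => π' z'), Finset.prod_const, Finset.card_univ,
        index_eq_card, Nat.card_eq_fintype_card]
      intro c _
      obtain ⟨d, rfl⟩ := QuotientGroup.mk_surjective c
      refine Subtype.ext (QuotientGroup.eq_iff_div_mem.2 ?_)
      have := hD d d.2
      rwa [commutatorElement_def, ← div_eq_mul_inv] at this
    have h2 : π z' ^ (MulAction.stabilizer D z').index = 1 := by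
      have := congrArg Subtype.val h1
      rw [← (QuotientGroup.eq_one_iff (w : G)).2 h]
      exact this.symm
    have h3 : (MulAction.stabilizer D z').index ∣ T.relIndex D := by
      refine index_dvd_of_le fun d hd => Subtype.ext ?_
      rw [hs, mul_inv_eq_iff_eq_mul]
      exact (hT hd z rfl).symm
    obtain ⟨k, hk⟩ := hpz
    have h4 : π z' ^ p ^ k = 1 := by
      rw [← map_pow, show z' ^ p ^ k = 1 from Subtype.ext hk, map_one]
    have h5 : π z' = 1 := by
      have := pow_gcd_eq_one.2 ⟨h2, h4⟩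
      rwa [Nat.Coprime.gcd_eq_one (Nat.Coprime.pow_right k
        ((hp.out.coprime_iff_not_dvd.2 fun h => hi (h.trans h3)).symm)), pow_one] at this
    exact hN ((QuotientGroup.eq_one_iff z).1 h5)

theorem npc (P : Sylow p G) {N : Subgroup G} (hn : (P : Subgroup G) ≤ N_(N)) (h : N ⊓ P ≤ frattiniOf (P : Subgroup G)) :
    HasNormalPComplement p N := by
  set X := N ⊔ (P : Subgroup G)
  have hPX : (P : Subgroup G) ≤ X := le_sup_right
  haveI : (N.subgroupOf X).Normal := (normal_subgroupOf_iff_le_normalizer le_sup_left).2 (sup_le le_normalizer hn)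
  refine H03.HasNPC.of_equiv (H03.hasNPC_of_inf_le_frattini (P.subtype hPX) (N.subgroupOf X) ?_)
    (subgroupOfEquivOfLe le_sup_left)
  rintro x ⟨h1, h2⟩
  obtain ⟨y, hy, e⟩ := h ⟨h1, h2⟩
  let f := (subgroupOfEquivOfLe hPX).symm
  refine ⟨f y, H04.map_frattini_le (P.subtype hPX).2 f.toMonoidHom ⟨y, hy, rfl⟩, Subtype.ext e⟩

theorem eq_of_le_of_index_eq {H K : Subgroup G} (h : H ≤ K) (e : H.index = K.index) : H = K :=
  h.eq_or_lt.resolve_right fun h => (index_strictAnti h).ne' e

theorem cyc {P M : Subgroup G} (hP : IsPGroup p P) (hgen : (frattini P).index = p ^ 2) (hM : M ≤ P)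
    (h : ¬ M ≤ frattiniOf P) : ∃ x ∈ P, P = M ⊔ zpowers x := by
  set K := M.subgroupOf P ⊔ frattini P with hK
  have h1 : K.index ∣ p ^ 2 := hgen ▸ index_dvd_of_le le_sup_right
  have h2 : K.index ≠ p ^ 2 := fun e => h fun x hx => by
    have : frattini P = K := eq_of_le_of_index_eq le_sup_right (by rw [e, hgen])
    exact ⟨⟨x, hM hx⟩, this ▸ (le_sup_left : _ ≤ K) hx, rfl⟩
  have key : ∀ x : P, K ⊔ zpowers x = ⊤ → ∃ x ∈ P, P = M ⊔ zpowers x := fun x hx => by
    refine ⟨x, x.2, (eq_of_le_sup_phi (sup_le hM (zpowers_le.2 x.2)) ?_).symm⟩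
    have := congrArg (map P.subtype) hx
    rw [← MonoidHom.range_eq_map, range_subtype, Subgroup.map_sup, Subgroup.map_sup, map_subgroupOf_eq_of_le hM,
      MonoidHom.map_zpowers] at this
    rw [sup_right_comm]
    exact this.ge
  obtain ⟨j, hj, e⟩ := (Nat.dvd_prime_pow hp.out).1 h1
  interval_cases j
  · exact key 1 (by rw [index_eq_one.1 e, top_sup_eq])
  · have hK1 : K ≠ ⊤ := fun h => hp.out.one_lt.ne' (by rw [← pow_one p, ← e, h, index_top])
    obtain ⟨x, hx⟩ := SetLike.exists_not_mem_of_ne_top K hK1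
    refine key x ?_
    have h3 : (K ⊔ zpowers x).index ∣ p := by rw [← pow_one p, ← e]; exact index_dvd_of_le le_sup_left
    rcases (Nat.dvd_prime hp.out).1 h3 with h4 | h4
    · exact index_eq_one.1 h4
    · have : K = K ⊔ zpowers x := eq_of_le_of_index_eq le_sup_left (by rw [h4, e, pow_one])
      exact absurd (this ▸ (le_sup_right : _ ≤ K ⊔ zpowers x) (mem_zpowers x)) hx
  · exact absurd e h2

theorem der_le {P M : Subgroup G} {x : G} (hn : P ≤ N_(M)) (h : P = M ⊔ zpowers x) : ⁅P, P⁆ ≤ M := by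
  have hx : zpowers x ≤ N_(M) := (h ▸ le_sup_right : zpowers x ≤ P).trans hn
  rw [commutator_le]
  intro a ha b hb
  rw [h, mem_sup_norm hx] at ha hb
  obtain ⟨m, hm, c, hc, rfl⟩ := ha
  obtain ⟨n, hn, d, hd, rfl⟩ := hb
  have h1 := commute_of_mem_zpowers hc hd
  have h2 : ⁅m * c, n * d⁆ = m * (c * n * c⁻¹) * ((c * d * c⁻¹) * m⁻¹ * (c * d * c⁻¹)⁻¹) * (c * d * c⁻¹ * d⁻¹) * n⁻¹ := by
    rw [commutatorElement_def]; group
  have h3 : c * d * c⁻¹ = d := by rw [h1.eq, mul_inv_cancel_right]
  rw [h2, h3, mul_inv_cancel, mul_one]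
  exact mul_mem (mul_mem (mul_mem hm ((mem_normalizer_iff.1 (hx hc) n).1 hn))
    ((mem_normalizer_iff.1 (hx hd) _).1 (inv_mem hm))) (inv_mem hn)

section main
variable (P : Sylow p G) (hgen : (frattini ↥(P : Subgroup G)).index = p ^ 2) (hcore : pPrimeCore p G = ⊥)
  (hfrat : (frattiniOf (P : Subgroup G)).normalCore = ⊥)
include hcore hfrat

theorem not_le {N : Subgroup G} [hN : N.Normal] (h0 : N ≠ ⊥) : ¬ N ⊓ P ≤ frattiniOf (P : Subgroup G) := fun h => by
  have h1 := npc P (by rw [normalizer_eq_top]; exact le_top) h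
  obtain ⟨K, _, h2, h3⟩ := H03.hasNPC_iff_exists.1 h1
  have h4 : K = ⊥ := by
    have : K.map N.subtype ≤ pPrimeCore p G := H02.le_pPrimeCore_of_subnormal
      (IsSubnormal.trans' (Normal.isSubnormal inferInstance) hN.isSubnormal) (by rwa [card_map_of_injective N.subtype_injective])
    rwa [hcore, le_bot_iff, map_eq_bot_iff_of_injective _ N.subtype_injective] at this
  subst h4
  have h5 : IsPGroup p N := h3.of_equiv QuotientGroup.quotientBot
  have h6 : N ≤ P := h5.le_sylow_of_normal P
  exact h0 (le_bot_iff.1 (hfrat ▸ normal_le_normalCore.2 ((le_inf le_rfl h6).trans h)))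

include hgen in
theorem gen {N : Subgroup G} [hN : N.Normal] (h0 : N ≠ ⊥) : ∃ x ∈ (P : Subgroup G), (P : Subgroup G) = N ⊓ P ⊔ zpowers x :=
  cyc P.2 hgen inf_le_right (not_le P hcore hfrat h0)

include hgen in
theorem der_le_normal {N : Subgroup G} [hN : N.Normal] (h0 : N ≠ ⊥) : ⁅(P : Subgroup G), (P : Subgroup G)⁆ ≤ N := by
  obtain ⟨x, -, hx⟩ := gen P hgen hcore hfrat h0
  exact (der_le (H22.le_normalizer_inf (by rw [normalizer_eq_top]; exact le_top) le_normalizer) hx).trans inf_le_left

include hgen in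
theorem fstar_le (hna : ¬ IsMulCommutative (P : Subgroup G)) {N : Subgroup G} [hN : N.Normal] (h0 : N ≠ ⊥)
    (hmin : ∀ K : Subgroup G, K.Normal → K ≠ ⊥ → N ≤ K) : generalizedFittingSubgroup G ≤ N := by
  rw [H22.fstar_eq_of_pPrimeCore_eq_bot hcore]
  have hF := H02.fitting_eq_pCore hp.out hcore
  by_cases hc : N ≤ C_(N)
  · have hNQ : N ≤ pCore p G := by
      haveI := abelian_iff.2 hc
      exact hF ▸ H02.le_fitting_of_isMulCommutative N
    have hQP : pCore p G ≤ P := (H02.pCore_isPGroup p G).le_sylow_of_normal P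
    have hE : layer G = ⊥ := by
      by_contra hE
      have h1 := hmin _ H22.layer_normal hE
      have h2 : N ≤ C_(layer G) := hNQ.trans (le_centralizer_iff.1 H22.layer_le_centralizer_pCore)
      refine not_le P hcore hfrat h0 (inf_le_left.trans fun x hx => der_le_phi hp.out P.2 ?_)
      haveI := H22.layer_normal (G := G)
      obtain ⟨S, hS⟩ := IsSylowIn.exists_sylow (X := P ⊓ layer G) ((isSylowIn_top hp.out P).inf_normal le_top
        (by rw [normalizer_eq_top])) hp.out
      have h3 := H03.sylow_inf_commutator_inf_center_le S (show (⟨x, h1 hx⟩ : layer G) ∈ _ from ⟨⟨by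
        refine (mem_map_iff_mem (layer G).subtype_injective).1 ?_
        rw [hS]; exact ⟨hQP (hNQ hx), h1 hx⟩, by
          refine (mem_map_iff_mem (layer G).subtype_injective).1 ?_
          rw [map_subtype_commutator, H22.layer_perfect]
          exact h1 hx⟩, mem_center_iff.2 fun g => Subtype.ext (h2 hx g g.2)⟩)
      have h4 := mem_map_of_mem (layer G).subtype h3
      rw [map_commutator, hS] at h4
      exact commutator_mono inf_le_left inf_le_left h4
    rw [hE, bot_sup_eq]
    set Q := pCore p G with hQ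
    have hQa : Q ≤ C_(Q) := by
      have h1 : frattiniOf Q ≤ ⊥ := by
        haveI : (frattiniOf Q).Normal := H02.normal_map_subtype_of_characteristic _
        exact hfrat ▸ normal_le_normalCore.2 (H04.frattini_subtype_mono P.2 hQP)
      exact commutator_eq_bot_iff_le_centralizer.1 (le_bot_iff.1 ((der_le_phi hp.out (H02.pCore_isPGroup p G)).trans h1))
    by_contra hle
    obtain ⟨q, hq, hqN⟩ := SetLike.not_le_iff_exists.1 hle
    obtain ⟨x, hxP, hx⟩ := gen P hgen hcore hfrat h0
    rw [inf_eq_left.2 (hNQ.trans hQP)] at hx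
    have hq' := hQP hq
    rw [hx, mem_sup_norm (by rw [normalizer_eq_top]; exact le_top)] at hq'
    obtain ⟨n, hn, z, hz, rfl⟩ := hq'
    have hzQ : z ∈ Q := (Q.mul_mem_cancel_left (hNQ hn)).1 hq
    have hzN : z ∉ N := fun h => hqN (mul_mem hn h)
    set D := normalClosure ((P : Subgroup G) : Set G) with hD
    have hPD : (P : Subgroup G) ≤ D := le_normalClosure
    have hDc : D ≤ C_(Q.map (QuotientGroup.mk' N)).comap (QuotientGroup.mk' N) := by
      refine normalClosure_le_normal fun g hg => ?_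
      rintro _ ⟨y, hy, rfl⟩
      rw [← commutatorElement_eq_one_iff_mul_comm, ← map_commutatorElement]
      exact (QuotientGroup.eq_one_iff _).2
        (der_le_normal P hgen hcore hfrat h0 (commutator_mem_commutator (hQP hy) hg))
    obtain ⟨w, hw, hwc, hwN⟩ := avg (p := p) (N := N) (D := D) (T := P) hQa
      (fun h => P.not_dvd_index (h.trans (relIndex_dvd_index_of_le hPD))) hzQ
      (by
        rw [hx]
        refine sup_le (fun a ha => ?_) (fun a ha => ?_)
        · rintro _ rfl; exact hQa (hNQ ha) _ hzQ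
        · rintro _ rfl; exact (commute_of_mem_zpowers hz ha).eq)
      (fun d hd => by
        rw [← QuotientGroup.eq_one_iff]
        show QuotientGroup.mk' N ⁅d, z⁆ = 1
        rw [map_commutatorElement, commutatorElement_eq_one_iff_mul_comm]
        exact (hDc hd _ ⟨z, hzQ, rfl⟩).symm)
      (by obtain ⟨k, hk⟩ := H02.pCore_isPGroup p G ⟨z, hzQ⟩; exact ⟨k, congrArg Subtype.val hk⟩) hzN
    have h1 : N ≤ C_(D) := hmin _ inferInstance fun h => hwN (by rw [mem_bot.1 (h ▸ hwc : w ∈ (⊥ : Subgroup G))]; exact one_mem N)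
    apply hna
    rw [hx]
    exact abelian_sup (abelian_iff.2 hc) inferInstance (h1.trans (centralizer_le ((zpowers_le.2 hxP).trans hPD)))
  · have hC : C_(N) = ⊥ := by_contra fun h => hc (hmin _ inferInstance h)
    refine sup_le (H22.layer_le_iff.2 fun L hL => ?_) ?_
    · refine (H22.comp_le_or_comm_of_subnormal hL hN.isSubnormal).resolve_right fun h => H22.comp_ne_bot hL ?_
      exact le_bot_iff.1 (hC ▸ commutator_eq_bot_iff_le_centralizer.1 h)
    · by_contra h
      have h1 : pCore p G ≠ ⊥ := fun e => h (e ▸ bot_le)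
      have h2 := hmin (pCore p G ⊓ C_(pCore p G)) inferInstance
        (pg_fix_ne_bot hp.out (H02.pCore_isPGroup p G) (H02.pCore_isPGroup p G) le_normalizer h1)
      exact hc ((h2.trans inf_le_right).trans (centralizer_le (h2.trans inf_le_left)))

include hgen in
theorem trans (hna : ¬ IsMulCommutative (P : Subgroup G)) (hF : fittingSubgroup G = ⊥) {K L : Subgroup G}
    (hK : IsComponent K) (hL : IsComponent L) : ∃ x ∈ (P : Subgroup G), L = K.map (MulAut.conj x).toMonoidHom := by
  have key : ∀ {K : Subgroup G}, IsComponent K → ⁅(P : Subgroup G), (P : Subgroup G)⁆ ≤ ⨆ x : (P : Subgroup G), cj (x : G) K := by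
    intro K hK
    set N := ⨆ x : (P : Subgroup G), cj (x : G) K with hN
    have hn : (P : Subgroup G) ≤ N_(N) := fun g hg => mem_norm_of_cj_le (cj_le_iff.2 (iSup_le fun x =>
      cj_le_iff.1 (le_iSup_of_le (⟨g, hg⟩ * x : (P : Subgroup G)) (cj_cj g x K).le)))
    have hKN : K ≤ N := le_iSup_of_le (1 : (P : Subgroup G)) (by rw [OneMemClass.coe_one, cj_one])
    have h1 : ¬ N ⊓ P ≤ frattiniOf (P : Subgroup G) := fun h => by
      have h2 := H03.HasNPC.of_le (npc P hn h) hKN
      haveI := H22.qs_perfect hK.2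
      rw [H03.hasNPC_iff_coprime, H22.pResidual_eq_top_of_perfect, card_top] at h2
      exact H22.comp_ne_bot hK (le_bot_iff.1 (hcore ▸ H02.le_pPrimeCore_of_subnormal hK.1 h2))
    obtain ⟨x, -, hx⟩ := cyc P.2 hgen inf_le_right h1
    exact (der_le (H22.le_normalizer_inf hn le_normalizer) hx).trans inf_le_left
  by_contra h
  push Not at h
  apply hna
  rw [← commutator_self_eq_bot_iff, eq_bot_iff, ← hF]
  refine le_trans ?_ H22.centralizer_fstar_le_fitting
  rw [H22.fstar_def, hF, sup_bot_eq, le_centralizer_iff, H22.layer_le_iff]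
  intro M hM
  by_cases h1 : ∃ x : (P : Subgroup G), M = cj (x : G) K
  · refine le_trans ?_ (centralizer_le (key hL))
    rw [le_centralizer_iff]
    refine iSup_le fun y => commutator_eq_bot_iff_le_centralizer.1 (H22.comp_comm_of_ne (H22.comp_conj hL y) hM fun e => ?_)
    obtain ⟨x, rfl⟩ := h1
    refine h (y⁻¹ * x) (mul_mem (inv_mem y.2) x.2) ?_
    exact (cj_eq_iff.1 e).trans (cj_cj _ _ _)
  · refine le_trans ?_ (centralizer_le (key hK))
    rw [le_centralizer_iff]
    exact iSup_le fun y => commutator_eq_bot_iff_le_centralizer.1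
      (H22.comp_comm_of_ne (H22.comp_conj hK y) hM fun e => h1 ⟨y, e.symm⟩)

end main

end H17.TG
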